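import Cfsg.Agent.Lib.SingerTransitive.Descent
import Cfsg.Agent.Lib.Perm.PrimeTransitive
import Cfsg.Agent.S0675

/-!
# Transitive subgroups of GL(r,2) for a Mersenne prime `2 ^ r - 1`

* `transitive_iff`
-/

set_option autoImplicit false

namespace Cfsg.Agent.SingerTransitive

open Module MulAction

variable {V : Type*} [AddCommGroup V] [Module (ZMod 2) V] [Finite V]

/-- Non-zero vectors. -/
abbrev Pt (V : Type*) [AddCommGroup V] : Type _ := {x : V // x ≠ 0}

/-- The permutation action on non-zero vectors. -/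
def ptAction (H : Subgroup (V ≃ₗ[ZMod 2] V)) : MulAction H (Pt V) where
  smul g x := ⟨g.1 x.1, fun e => x.2 (g.1.map_eq_zero_iff.1 e)⟩
  one_smul _ := rfl
  mul_smul _ _ _ := rfl

theorem card_pt {n : ℕ} (hn : finrank (ZMod 2) V = n) : Nat.card (Pt V) = 2 ^ n - 1 := by
  classical
  letI := Fintype.ofFinite V
  rw [Nat.card_eq_fintype_card, Fintype.card_subtype_compl, Fintype.card_subtype_eq,
    ← Nat.card_eq_fintype_card, card_eq_two_pow, hn]

/-- A group containing a cyclic one of order the number of non-zero vectors, a prime, is transitive. -/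
theorem transitive_of_prime {n : ℕ} (hn : finrank (ZMod 2) V = n) (hprime : (2 ^ n - 1).Prime)
    (C : Subgroup (V ≃ₗ[ZMod 2] V)) (hC : Nat.card C = 2 ^ n - 1) {v w : V} (hv : v ≠ 0) (hw : w ≠ 0) :
    ∃ h ∈ C, h v = w := by
  classical
  haveI := Fact.mk hprime
  letI := ptAction C
  obtain ⟨g, hg⟩ := exists_prime_orderOf_dvd_card' (G := C) (2 ^ n - 1) (dvd_of_eq hC.symm)
  obtain ⟨a, ha⟩ : ∃ a : V, g.1 a ≠ a := by
    by_contra hc
    push Not at hc
    have : g = 1 := Subtype.ext (LinearEquiv.ext hc)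
    rw [this, orderOf_one] at hg
    exact hprime.ne_one hg.symm
  let a' : Pt V := ⟨a, fun e => ha (by rw [e, map_zero])⟩
  have horb : orbit C a' = Set.univ := by
    refine Set.eq_univ_iff_ncard _ |>.2 ?_
    have h := MulAction.index_stabilizer C a'
    have hd : (orbit C a').ncard ∣ 2 ^ n - 1 := by
      rw [← h, ← hC]; exact Subgroup.index_dvd_card _
    rw [card_pt hn]
    refine ((Nat.dvd_prime hprime).1 hd).resolve_left fun h1 => ?_
    obtain ⟨b, hb⟩ := Set.ncard_eq_one.1 h1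
    have m1 : g • a' ∈ orbit C a' := mem_orbit _ _
    have m2 : a' ∈ orbit C a' := mem_orbit_self _
    rw [hb, Set.mem_singleton_iff] at m1 m2
    exact ha (congrArg Subtype.val (m1.trans m2.symm))
  obtain ⟨g1, h1⟩ : (⟨v, hv⟩ : Pt V) ∈ orbit C a' := horb ▸ Set.mem_univ _
  obtain ⟨g2, h2⟩ : (⟨w, hw⟩ : Pt V) ∈ orbit C a' := horb ▸ Set.mem_univ _
  refine ⟨(g2 * g1⁻¹ : C).1, (g2 * g1⁻¹).2, ?_⟩
  show g2.1 (g1.1.symm v) = w
  have e1 : g1.1 a = v := congrArg Subtype.val h1
  rw [← e1, g1.1.symm_apply_apply]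
  exact congrArg Subtype.val h2

theorem exists_agree_eq {g g' : V ≃ₗ[ZMod 2] V} {a b : V} (ha : a ≠ 0) (hb : b ≠ 0) (hab : a ≠ b)
    (h2 : finrank (ZMod 2) V = 2) (e1 : g a = g' a) (e2 : g b = g' b) : g = g' := by
  have hspan : Submodule.span (ZMod 2) {a, b} = ⊤ := by
    refine Submodule.eq_top_of_finrank_eq (le_antisymm (Submodule.finrank_le _) ?_)
    rw [h2]
    by_contra hcon
    have h := Submodule.eq_of_le_of_finrank_le
      (Submodule.span_mono (show ({a} : Set V) ⊆ {a, b} by simp) :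
        Submodule.span (ZMod 2) {a} ≤ Submodule.span (ZMod 2) {a, b})
      (by rw [finrank_span_singleton ha]; omega)
    have h3 : b ∈ Submodule.span (ZMod 2) {a} := h ▸ Submodule.subset_span (by simp)
    rcases mem_span_single.1 h3 with e | e
    exacts [hb e, hab e.symm]
  refine LinearEquiv.ext fun x => ?_
  rcases mem_span_two.1 (hspan.symm ▸ Submodule.mem_top : x ∈ Submodule.span (ZMod 2) {a, b}) with
    rfl | rfl | rfl | rfl
  · simp
  · exact e1
  · exact e2
  · rw [map_add, map_add, e1, e2]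

theorem TwoTrans.eq_top_of_three {X : Subgroup (V ≃ₗ[ZMod 2] V)} (hX : TwoTrans X)
    (h3 : finrank (ZMod 2) V = 3) : X = ⊤ := by
  classical
  haveI : Fact (Nat.Prime 2) := ⟨Nat.prime_two⟩
  haveI : Nontrivial V := Module.nontrivial_of_finrank_pos (R := ZMod 2) (by omega)
  obtain ⟨v, hv⟩ := exists_ne (0 : V)
  let G := pStab X v
  obtain ⟨u, hu⟩ : ∃ u, u ∉ Submodule.span (ZMod 2) {v} := by
    by_contra hc
    push Not at hc
    have h := congrArg (fun S : Submodule (ZMod 2) V => finrank (ZMod 2) S)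
      (eq_top_iff.2 fun y _ => hc y)
    simp only [finrank_top] at h
    rw [finrank_span_singleton hv, h3] at h
    omega
  rw [mem_span_single, not_or] at hu
  have horb : orbit G u = ({0, v} : Set V)ᶜ := by
    ext y
    constructor
    · rintro ⟨g, rfl⟩
      rintro (h | h)
      · exact hu.1 (g.1.map_eq_zero_iff.1 h)
      · exact hu.2 (g.1.injective ((show g.1 u = v from h).trans g.2.2.symm))
    · intro hy
      simp only [Set.mem_compl_iff, Set.mem_insert_iff, Set.mem_singleton_iff, not_or] at hy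
      obtain ⟨g, hg, gv, gu⟩ := hX.trans v u v y hv hu.1 (Ne.symm hu.2) hv hy.1 (Ne.symm hy.2)
      exact ⟨⟨g, hg, gv⟩, gu⟩
  have h := MulAction.index_stabilizer G u
  rw [horb, Set.ncard_compl, Set.ncard_pair (Ne.symm hv), card_eq_two_pow, h3] at h
  obtain ⟨g, hg⟩ := exists_prime_orderOf_dvd_card' (G := G) 2
    ((by norm_num : (2 : ℕ) ∣ 2 ^ 3 - 2).trans (h ▸ Subgroup.index_dvd_card _))
  have hg1 : g.1 ≠ 1 := fun e => by
    rw [← Subgroup.orderOf_coe, e, orderOf_one] at hg
    omega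
  have hinv : ∀ x, g.1 (g.1 x) = x := fun x => by
    have h := pow_orderOf_eq_one g
    rw [hg, pow_two] at h
    exact LinearEquiv.congr_fun (congrArg Subtype.val h) x
  let δ : V →ₗ[ZMod 2] V := (g.1 : V →ₗ[ZMod 2] V) - LinearMap.id
  have hle : LinearMap.range δ ≤ LinearMap.ker δ := by
    rintro _ ⟨x, rfl⟩
    rw [LinearMap.mem_ker]
    show g.1 (g.1 x - x) - (g.1 x - x) = 0
    rw [map_sub, hinv, sub_eq_zero, sub_eq_add', sub_eq_add', add_comm]
  have h1 := Submodule.finrank_mono hle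
  have h2 := δ.finrank_range_add_finrank_ker
  obtain ⟨a, ⟨q, hq⟩, ha⟩ := Submodule.exists_mem_ne_zero_of_ne_bot (p := LinearMap.range δ) fun e =>
    hg1 (LinearEquiv.ext fun x => sub_eq_zero.1
      ((Submodule.mem_bot (ZMod 2)).1 (e ▸ ⟨x, rfl⟩ : δ x ∈ (⊥ : Submodule (ZMod 2) V))))
  have hspan : Submodule.span (ZMod 2) {a} = LinearMap.range δ :=
    Submodule.eq_of_le_of_finrank_le ((Submodule.span_singleton_le_iff_mem _ _).2 ⟨q, hq⟩)
      (by rw [finrank_span_singleton ha]; omega)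
  obtain ⟨φ, hφ⟩ := SingerTransitive.exists_tv ha fun x => mem_span_single.1 (hspan ▸ ⟨x, rfl⟩ :
    g.1 x - x ∈ Submodule.span (ZMod 2) {a})
  exact hX.eq_top_of_tv g.2.1 hφ hg1

theorem transitive_iff {n : ℕ} (hn : finrank (ZMod 2) V = n) (hprime : (2 ^ n - 1).Prime)
    (H : Subgroup (V ≃ₗ[ZMod 2] V)) :
    (∀ v w : V, v ≠ 0 → w ≠ 0 → ∃ h ∈ H, h v = w) ↔
      ((IsCyclic ↥H ∧ Nat.card ↥H = 2 ^ n - 1) ∨
       (Nat.card ↥H = n * (2 ^ n - 1) ∧ ∃ C : Subgroup (V ≃ₗ[ZMod 2] V), C ≤ H ∧ (C.subgroupOf H).Normal ∧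
          IsCyclic ↥C ∧ Nat.card ↥C = 2 ^ n - 1) ∨
       H = ⊤) := by
  classical
  haveI := Fact.mk hprime
  have hn1 : n ≠ 1 := fun e => by subst e; exact Nat.not_prime_one hprime
  have hnp : n.Prime := (Nat.prime_of_pow_sub_one_prime hn1 hprime).2
  have hn2 := hnp.two_le
  haveI : Nontrivial V := Module.nontrivial_of_finrank_pos (R := ZMod 2) (by omega)
  constructor
  swap
  · rintro (⟨-, hcard⟩ | ⟨-, C, hCH, -, -, hcard⟩ | rfl) v w hv hw
    · exact transitive_of_prime hn hprime H hcard hv hw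
    · obtain ⟨h, hh, e⟩ := transitive_of_prime hn hprime C hcard hv hw
      exact ⟨h, hCH hh, e⟩
    · by_cases hvw : v = w
      · exact ⟨1, Subgroup.mem_top _, hvw⟩
      obtain ⟨φ, hφv, hφ⟩ := exists_dual_eq_one (x := v) (U := Submodule.span (ZMod 2) {v + w}) (by
        rw [mem_span_single]
        rintro (h | h)
        exacts [hv h, hw (left_eq_add.1 h)])
      have hφs : φ (v + w) = 0 := hφ _ (Submodule.mem_span_singleton_self _)
      let L : V →ₗ[ZMod 2] V := LinearMap.id + φ.smulRight (v + w)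
      have hinv : ∀ x, L (L x) = x := fun x => by
        show x + φ x • (v + w) + φ (x + φ x • (v + w)) • (v + w) = x
        rw [map_add, map_smul, hφs, smul_zero, add_zero, add_assoc, add_self, add_zero]
      refine ⟨LinearEquiv.ofInvolutive L hinv, Subgroup.mem_top _, ?_⟩
      show v + φ v • (v + w) = w
      rw [hφv, one_smul, ← add_assoc, add_self, zero_add]
  intro htr
  letI := ptAction H
  letI := Fintype.ofFinite V
  haveI : IsPretransitive H (Pt V) := ⟨fun a b => by
    obtain ⟨h, hh, e⟩ := htr a.1 b.1 a.2 b.2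
    exact ⟨⟨h, hh⟩, Subtype.ext e⟩⟩
  haveI : FaithfulSMul H (Pt V) := ⟨fun {g g'} h => Subtype.ext (LinearEquiv.ext fun x => by
    by_cases hx : x = 0
    · simp [hx]
    · exact congrArg Subtype.val (h ⟨x, hx⟩))⟩
  have hα : Nat.card (Pt V) = 2 ^ n - 1 := card_pt hn
  obtain ⟨P⟩ : Nonempty (Sylow (2 ^ n - 1) H) := inferInstance
  obtain ⟨hP, hPt, hPC, -⟩ := Perm.sylow_prime_degree (G := H) hα P
  let C := (P : Subgroup H).map H.subtype
  have hCcard : Nat.card C = 2 ^ n - 1 := by
    rw [← hP]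
    exact Nat.card_congr ((P : Subgroup H).equivMapOfInjective H.subtype H.subtype_injective).toEquiv.symm
  have hCH : C ≤ H := Subgroup.map_subtype_le _
  have hCcyc : IsCyclic C := isCyclic_of_prime_card hCcard
  -- Burnside
  let f := MulAction.toPermHom H (Pt V)
  have hf : Function.Injective f := fun a b e => eq_of_smul_eq_smul fun x => congrArg (fun π => π x) e
  haveI : IsPretransitive f.range (Pt V) := ⟨fun a b => by
    obtain ⟨g, hg⟩ := exists_smul_eq H a b
    exact ⟨⟨f g, g, rfl⟩, hg⟩⟩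
  rcases S0675.result (α := Pt V) (by rw [← Nat.card_eq_fintype_card, hα]; exact hprime) f.range with
    hsol | h2
  · have hsolH : Group.IsSolvable H := by
      haveI := hsol
      exact Group.isSolvable_of_surjective (f := (MonoidHom.ofInjective hf).symm.toMonoidHom)
        (MonoidHom.ofInjective hf).symm.surjective
    have hnorm := Perm.sylow_normal_of_isSolvable hα hsolH P
    have hCnorm : (C.subgroupOf H).Normal := by
      rw [show C.subgroupOf H = (P : Subgroup H) from Subgroup.comap_map_eq_self_of_injective H.subtype_injective _]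
      exact hnorm
    obtain ⟨σ, hσ⟩ := exists_prime_orderOf_dvd_card' (G := C) (2 ^ n - 1) (dvd_of_eq hCcard.symm)
    have hz : Prim σ.1 (2 ^ n - 1) := by
      refine ⟨hprime, fun h => ?_, by rwa [Subgroup.orderOf_coe], by omega, fun j hj hjd h => ?_⟩
      · have := Nat.pow_le_pow_right (show 0 < 2 by norm_num) hn2
        have h4 : (2 : ℕ) ^ n % 2 = 0 := by
          obtain ⟨k, rfl⟩ : ∃ k, n = k + 1 := ⟨n - 1, by omega⟩
          rw [pow_succ]; omega
        omega
      · have h1 := Nat.le_of_dvd (Nat.sub_pos_of_lt (Nat.one_lt_two_pow hj.ne')) h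
        have h2 : 2 ^ j < 2 ^ n := Nat.pow_lt_pow_right (by norm_num) (by omega)
        have := Nat.one_le_two_pow (n := j)
        omega
    have hzgen : ∀ x ∈ C, x ∈ Subgroup.zpowers σ.1 := fun x hx => by
      have hσ1 : σ ≠ 1 := fun e => hprime.ne_one (by rw [← hσ, e, orderOf_one])
      obtain ⟨i, hi⟩ := mem_zpowers_of_prime_card (g := σ) (g' := ⟨x, hx⟩) hCcard hσ1
      exact ⟨i, congrArg Subtype.val hi⟩
    have hdvd := hz.card_dvd H C (fun g hg => hz.normal (by
        have hmem : g * σ.1 * g⁻¹ ∈ C := hCnorm.conj_mem ⟨σ.1, hCH σ.2⟩ σ.2 ⟨g, hg⟩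
        obtain ⟨i, hi⟩ := hzgen _ hmem
        rw [← show σ.1 ^ i = g * σ.1 * g⁻¹ from hi]
        exact ((Commute.refl σ.1).zpow_left i).eq)) hCH
      (fun g hg hcomm => by
        have hcent : (⟨g, hg⟩ : H) ∈ Subgroup.centralizer ((P : Subgroup H) : Set H) := by
          rw [Subgroup.mem_centralizer_iff]
          intro x hx
          obtain ⟨i, hi⟩ := hzgen x.1 ⟨x, hx, rfl⟩
          refine Subtype.ext ?_
          show x.1 * g = g * x.1
          rw [← show σ.1 ^ i = x.1 from hi]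
          exact ((show Commute g σ.1 from hcomm).zpow_right i).eq.symm
        rw [hPC] at hcent
        exact ⟨⟨g, hg⟩, hcent, rfl⟩)
    rw [hn, hCcard] at hdvd
    have hC' : 2 ^ n - 1 ∣ Nat.card H := hCcard ▸ Subgroup.card_dvd_of_le hCH
    obtain ⟨m, hm⟩ := hC'
    rw [hm, mul_comm n] at hdvd
    rcases (Nat.dvd_prime hnp).1 (Nat.dvd_of_mul_dvd_mul_left hprime.pos hdvd) with rfl | rfl
    · rw [mul_one] at hm
      haveI := Fact.mk hprime
      exact Or.inl ⟨isCyclic_of_prime_card hm, hm⟩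
    · exact Or.inr (Or.inl ⟨by rw [hm, mul_comm], C, hCH, hCnorm, hCcyc, hCcard⟩)
  · refine Or.inr (Or.inr ?_)
    have htrans2 : ∀ a b c d : V, a ≠ 0 → b ≠ 0 → a ≠ b → c ≠ 0 → d ≠ 0 → c ≠ d →
        ∃ g ∈ H, g a = c ∧ g b = d := by
      intro a b c d ha hb hab hc hd hcd
      have hab' : (⟨a, ha⟩ : Pt V) ≠ ⟨b, hb⟩ := fun e => hab (congrArg Subtype.val e)
      have hcd' : (⟨c, hc⟩ : Pt V) ≠ ⟨d, hd⟩ := fun e => hcd (congrArg Subtype.val e)
      obtain ⟨⟨π, g, rfl⟩, h1, h2'⟩ := is_two_pretransitive_iff.1 h2 hab' hcd'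
      exact ⟨g.1, g.2, congrArg Subtype.val h1, congrArg Subtype.val h2'⟩
    by_cases h2n : n = 2
    · refine eq_top_iff.2 fun g _ => ?_
      obtain ⟨a, ha⟩ := exists_ne (0 : V)
      obtain ⟨b, hb⟩ : ∃ b, b ∉ Submodule.span (ZMod 2) {a} := by
        by_contra hc
        push Not at hc
        have h := congrArg (fun S : Submodule (ZMod 2) V => finrank (ZMod 2) S)
          (eq_top_iff.2 fun y _ => hc y)
        simp only [finrank_top] at h
        rw [finrank_span_singleton ha, hn] at h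
        omega
      rw [mem_span_single, not_or] at hb
      obtain ⟨h, hh, ea, eb⟩ := htrans2 a b (g a) (g b) ha hb.1 (Ne.symm hb.2)
        (fun e => ha (g.map_eq_zero_iff.1 e)) (fun e => hb.1 (g.map_eq_zero_iff.1 e))
        (fun e => hb.2 (g.injective e).symm)
      exact exists_agree_eq ha hb.1 (Ne.symm hb.2) (hn.trans h2n) ea eb ▸ hh
    · have hX : TwoTrans H := ⟨by omega, htrans2⟩
      by_cases h3 : n = 3
      · exact hX.eq_top_of_three (hn.trans h3)
      · have hC : ∀ i ∈ C, ∀ j ∈ C, i * j = j * i := fun i hi j hj => by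
          letI : CommGroup C := IsCyclic.commGroup
          exact congrArg Subtype.val (mul_comm (⟨i, hi⟩ : C) ⟨j, hj⟩)
        have h4 : n ≠ 4 := fun e => by
          rw [e] at hnp
          exact absurd hnp (by norm_num)
        obtain ⟨t, ht, ht1, a, φ, htv⟩ := hX.exists_tv (hn.symm ▸ hnp) (by omega) C hCH hC
          (fun a b ha hb => transitive_of_prime hn hprime C hCcard ha hb)
        exact hX.eq_top_of_tv ht htv ht1

end Cfsg.Agent.SingerTransitive
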