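import Cfsg.Agent.EqLemmas
import Cfsg.Agent.Lib.Perm.PermModule

/-!
# Linear actions over the field with two elements: orbit lemmas

* `dualRep`, `card_orbits_dual` (Brauer): as many orbits on functionals as on vectors
* `trans_dual`, `dual_classes`: consequences
* `exists_fixed_mod`: a 2-group fixes a coset in an invariant section
* `sylow_orbit`: a Sylow 2-subgroup is transitive on an orbit of 2-power size
-/

set_option autoImplicit false

namespace Cfsg.Agent.SingerTransitive

open Module MulAction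

theorem zmod2 (a : ZMod 2) : a = 0 ∨ a = 1 := by revert a; decide

theorem zmod2_ne {a : ZMod 2} (h : a ≠ 0) : a = 1 := (zmod2 a).resolve_left h

theorem zmod2_add_self (a : ZMod 2) : a + a = 0 := by revert a; decide

section

variable {V : Type*} [AddCommGroup V] [Module (ZMod 2) V]

theorem add_self (x : V) : x + x = 0 := by
  have h : ((1 : ZMod 2) + 1) • x = 0 := by rw [zmod2_add_self, zero_smul]
  rwa [add_smul, one_smul] at h

theorem sub_eq_add' (x y : V) : x - y = x + y := by
  rw [sub_eq_iff_eq_add, add_assoc, add_self, add_zero]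

theorem neg_eq (x : V) : -x = x := neg_eq_of_add_eq_zero_left (add_self x)

theorem add_eq_zero_iff' {x y : V} : x + y = 0 ↔ x = y := by
  rw [← sub_eq_add', sub_eq_zero]

theorem mem_span_single {x v : V} : x ∈ Submodule.span (ZMod 2) {v} ↔ x = 0 ∨ x = v := by
  rw [Submodule.mem_span_singleton]
  constructor
  · rintro ⟨a, rfl⟩; rcases zmod2 a with rfl | rfl <;> simp
  · rintro (rfl | rfl)
    exacts [⟨0, by simp⟩, ⟨1, one_smul _ _⟩]

theorem mem_span_two {x v u : V} :
    x ∈ Submodule.span (ZMod 2) {v, u} ↔ x = 0 ∨ x = v ∨ x = u ∨ x = v + u := by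
  rw [Submodule.mem_span_pair]
  constructor
  · rintro ⟨a, b, rfl⟩; rcases zmod2 a with rfl | rfl <;> rcases zmod2 b with rfl | rfl <;> simp
  · rintro (rfl | rfl | rfl | rfl)
    exacts [⟨0, 0, by simp⟩, ⟨1, 0, by simp⟩, ⟨0, 1, by simp⟩, ⟨1, 1, by simp⟩]

theorem card_eq_two_pow [Finite V] : Nat.card V = 2 ^ finrank (ZMod 2) V := by
  rw [Module.natCard_eq_pow_finrank (K := ZMod 2) (V := V), Nat.card_zmod]

end

section Rep

variable {G : Type*} [Group G] {V : Type*} [AddCommGroup V] [Module (ZMod 2) V]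
  (ρ : G →* (V ≃ₗ[ZMod 2] V))

theorem rep_mul (a b : G) (x : V) : ρ (a * b) x = ρ a (ρ b x) := by rw [map_mul]; rfl

theorem rep_inv_apply (a : G) (x : V) : ρ a⁻¹ (ρ a x) = x := by
  rw [← rep_mul, inv_mul_cancel, map_one]; rfl

theorem rep_apply_inv (a : G) (x : V) : ρ a (ρ a⁻¹ x) = x := by
  rw [← rep_mul, mul_inv_cancel, map_one]; rfl

/-- The contragredient representation. -/
def dualRep : G →* (Dual (ZMod 2) V ≃ₗ[ZMod 2] Dual (ZMod 2) V) where
  toFun g := (ρ g⁻¹).dualMap
  map_one' := by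
    refine LinearEquiv.ext fun f => LinearMap.ext fun x => ?_
    simp [LinearEquiv.dualMap_apply]
  map_mul' a b := by
    refine LinearEquiv.ext fun f => LinearMap.ext fun x => ?_
    show f (ρ (a * b)⁻¹ x) = f (ρ b⁻¹ (ρ a⁻¹ x))
    rw [mul_inv_rev, rep_mul]

theorem dualRep_apply (g : G) (f : Dual (ZMod 2) V) (x : V) : dualRep ρ g f x = f (ρ g⁻¹ x) := rfl

theorem dualRep_eq_iff {g : G} {f f' : Dual (ZMod 2) V} :
    dualRep ρ g f = f' ↔ ∀ x, f' (ρ g x) = f x := by
  constructor
  · rintro rfl x; rw [dualRep_apply, rep_inv_apply]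
  · intro h
    refine LinearMap.ext fun x => ?_
    rw [dualRep_apply, ← h, rep_apply_inv]

/-- The orbit relation of a representation. -/
abbrev orbitSetoid : Setoid V :=
  letI := MulAction.compHom V ρ
  orbitRel G V

theorem orbitSetoid_iff {x y : V} : (orbitSetoid ρ).r x y ↔ ∃ g, ρ g y = x := Iff.rfl

variable [Finite G] [Finite V]

theorem card_orbits_dual :
    Nat.card (Quotient (orbitSetoid (dualRep ρ))) = Nat.card (Quotient (orbitSetoid ρ)) := by
  classical
  letI := Fintype.ofFinite G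
  letI : MulAction G V := MulAction.compHom V ρ
  letI : MulAction G (Dual (ZMod 2) V) := MulAction.compHom (Dual (ZMod 2) V) (dualRep ρ)
  haveI : Finite (Dual (ZMod 2) V) := Module.finite_of_finite (ZMod 2)
  letI := Fintype.ofFinite V
  letI := Fintype.ofFinite (Dual (ZMod 2) V)
  have h1 := sum_card_fixedBy_eq_card_orbits_mul_card_group G V
  have h2 := sum_card_fixedBy_eq_card_orbits_mul_card_group G (Dual (ZMod 2) V)
  have hfix : ∀ g : G, Fintype.card (fixedBy (Dual (ZMod 2) V) g) = Fintype.card (fixedBy V g) := by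
    intro g
    let A : V →ₗ[ZMod 2] V := (ρ g : V →ₗ[ZMod 2] V) - LinearMap.id
    have e1 : fixedBy V g = (LinearMap.ker A : Set V) := Set.ext fun x => by
      show ρ g x = x ↔ A x = 0
      rw [show A x = ρ g x - x from rfl, sub_eq_zero]
    have e2 : fixedBy (Dual (ZMod 2) V) g = ((LinearMap.range A).dualAnnihilator : Set _) :=
      Set.ext fun f => by
        show dualRep ρ g f = f ↔ f ∈ (LinearMap.range A).dualAnnihilator
        rw [dualRep_eq_iff, Submodule.mem_dualAnnihilator]
        constructor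
        · rintro h - ⟨x, rfl⟩
          rw [show A x = ρ g x - x from rfl, map_sub, h, sub_self]
        · intro h x
          have := h _ ⟨x, rfl⟩
          rwa [show A x = ρ g x - x from rfl, map_sub, sub_eq_zero] at this
    have h3 := Subspace.finrank_add_finrank_dualAnnihilator_eq (LinearMap.range A)
    have h4 := A.finrank_range_add_finrank_ker
    rw [← Nat.card_eq_fintype_card, ← Nat.card_eq_fintype_card, e1, e2]
    show Nat.card ↥((LinearMap.range A).dualAnnihilator) = Nat.card ↥(LinearMap.ker A)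
    rw [card_eq_two_pow, card_eq_two_pow]
    congr 1
    omega
  rw [Finset.sum_congr rfl fun g _ => hfix g, h1] at h2
  rw [Nat.card_eq_fintype_card, Nat.card_eq_fintype_card]
  exact (Nat.eq_of_mul_eq_mul_right Fintype.card_pos h2).symm

/-- Surjective invariants with as many values on functionals as a complete invariant has on vectors
separate the orbits on functionals. -/
theorem dual_classes {α β : Type*} [Finite β] (κ : V → α) (κ' : Dual (ZMod 2) V → β)
    (hκ : ∀ x y, κ x = κ y → ∃ g, ρ g x = y) (hκ' : ∀ g f, κ' (dualRep ρ g f) = κ' f)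
    (hsurj : Function.Surjective κ') (hcard : Nat.card (Set.range κ) ≤ Nat.card β)
    {f f' : Dual (ZMod 2) V} (h : κ' f = κ' f') : ∃ g, ∀ x, f' (ρ g x) = f x := by
  classical
  haveI : Finite (Dual (ZMod 2) V) := Module.finite_of_finite (ZMod 2)
  let Φ : Set.range κ → Quotient (orbitSetoid ρ) := fun a => Quotient.mk _ a.2.choose
  have hΦ : Function.Surjective Φ := fun q => Quotient.inductionOn q fun x => by
    refine ⟨⟨κ x, x, rfl⟩, Quotient.sound ?_⟩
    obtain ⟨g, hg⟩ := hκ x _ (Exists.choose_spec (⟨x, rfl⟩ : ∃ y, κ y = κ x)).symm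
    exact ⟨g, hg⟩
  have hle : Nat.card (Quotient (orbitSetoid (dualRep ρ))) ≤ Nat.card β := by
    rw [card_orbits_dual]; exact (Nat.card_le_card_of_surjective Φ hΦ).trans hcard
  let Ψ : Quotient (orbitSetoid (dualRep ρ)) → β := Quotient.lift κ' fun a b hab => by
    obtain ⟨g, hg⟩ := hab
    rw [← hg]; exact hκ' g b
  have hΨ : Function.Surjective Ψ := fun b => by
    obtain ⟨a, ha⟩ := hsurj b
    exact ⟨Quotient.mk _ a, ha⟩
  have hinj : Function.Injective Ψ :=
    ((Nat.bijective_iff_surjective_and_card Ψ).2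
      ⟨hΨ, le_antisymm hle (Nat.card_le_card_of_surjective Ψ hΨ)⟩).1
  obtain ⟨g, hg⟩ := Quotient.exact (hinj (a₁ := Quotient.mk _ f') (a₂ := Quotient.mk _ f) h.symm)
  exact ⟨g, (dualRep_eq_iff ρ).1 hg⟩

/-- Transitive on non-zero vectors implies transitive on non-zero functionals. -/
theorem trans_dual (h : ∀ x y : V, x ≠ 0 → y ≠ 0 → ∃ g, ρ g x = y) {f f' : Dual (ZMod 2) V}
    (hf : f ≠ 0) (hf' : f' ≠ 0) : ∃ g, ∀ x, f' (ρ g x) = f x := by
  classical
  refine dual_classes ρ (fun x => decide (x = 0)) (fun a => decide (a = 0)) ?_ ?_ ?_ ?_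
    (by simp [hf, hf'])
  · intro x y hxy
    by_cases hx : x = 0
    · subst hx
      exact ⟨1, by simp_all⟩
    · exact h x y hx (by simpa [hx] using hxy)
  · intro g a; simp
  · intro b
    cases b
    exacts [⟨f, by simp [hf]⟩, ⟨0, by simp⟩]
  · exact Nat.card_le_card_of_injective _ Subtype.val_injective

omit [Finite G] in
/-- A 2-group fixes a coset in a non-trivial invariant section. -/
theorem exists_fixed_mod (hG : IsPGroup 2 G) {U U' : Submodule (ZMod 2) V}
    (hU : ∀ g, ∀ x ∈ U, ρ g x ∈ U) (hU' : ∀ g, ∀ x ∈ U', ρ g x ∈ U') (hlt : U < U') :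
    ∃ x ∈ U', x ∉ U ∧ ∀ g, ρ g x - x ∈ U := by
  classical
  haveI : Fact (Nat.Prime 2) := ⟨Nat.prime_two⟩
  let W := U'.map U.mkQ
  haveI : Finite (V ⧸ U) := Finite.of_surjective _ U.mkQ_surjective
  haveI : Finite W := inferInstance
  have hq : ∀ g, U ≤ U.comap (ρ g : V →ₗ[ZMod 2] V) := fun g x hx => hU g x hx
  letI : MulAction G W :=
    { smul := fun g w => ⟨Submodule.mapQ U U (ρ g : V →ₗ[ZMod 2] V) (hq g) w.1, by
        obtain ⟨x, hx, hw⟩ := w.2
        exact ⟨ρ g x, hU' g x hx, by rw [← hw]; rfl⟩⟩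
      one_smul := fun w => Subtype.ext <| by
        obtain ⟨x, -, hw⟩ := w.2
        show Submodule.mapQ U U (ρ 1 : V →ₗ[ZMod 2] V) (hq 1) w.1 = w.1
        rw [← hw]
        show Submodule.Quotient.mk (ρ 1 x) = Submodule.Quotient.mk x
        rw [map_one]; rfl
      mul_smul := fun a b w => Subtype.ext <| by
        obtain ⟨x, -, hw⟩ := w.2
        show Submodule.mapQ U U (ρ (a * b) : V →ₗ[ZMod 2] V) (hq (a * b)) w.1 =
          Submodule.mapQ U U (ρ a : V →ₗ[ZMod 2] V) (hq a)
            (Submodule.mapQ U U (ρ b : V →ₗ[ZMod 2] V) (hq b) w.1)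
        rw [← hw]
        show Submodule.Quotient.mk (ρ (a * b) x) = Submodule.Quotient.mk (ρ a (ρ b x))
        rw [rep_mul] }
  have hWne : W ≠ ⊥ := fun h => hlt.not_ge fun x hx => by
    have : U.mkQ x ∈ W := ⟨x, hx, rfl⟩
    rw [h, Submodule.mem_bot] at this
    exact (Submodule.Quotient.mk_eq_zero U).1 this
  have hpos : 0 < finrank (ZMod 2) W := by
    rw [pos_iff_ne_zero]; exact fun h => hWne (Submodule.finrank_eq_zero.1 h)
  have hdvd : 2 ∣ Nat.card W := by
    rw [card_eq_two_pow]; exact dvd_pow_self _ hpos.ne'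
  have hmod := hG.card_modEq_card_fixedPoints W
  have h0 : (0 : W) ∈ fixedPoints G W := fun g => Subtype.ext (map_zero _)
  haveI : Nonempty (fixedPoints G W) := ⟨⟨0, h0⟩⟩
  have h2 : 1 < Nat.card (fixedPoints G W) := by
    have h2' : 2 ∣ Nat.card (fixedPoints G W) := (hmod.dvd_iff dvd_rfl).1 hdvd
    have := Nat.card_pos (α := fixedPoints G W)
    omega
  haveI := Finite.one_lt_card_iff_nontrivial.1 h2
  obtain ⟨⟨w, hw⟩, hne⟩ := exists_ne (⟨0, h0⟩ : fixedPoints G W)
  obtain ⟨x, hx, hxw⟩ := w.2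
  refine ⟨x, hx, fun hxU => hne (Subtype.ext (Subtype.ext ?_)), fun g => ?_⟩
  · rw [← hxw]; exact (Submodule.Quotient.mk_eq_zero U).2 hxU
  · have := congrArg Subtype.val (hw g)
    rw [show (g • w).1 = Submodule.mapQ U U (ρ g : V →ₗ[ZMod 2] V) (hq g) w.1 from rfl, ← hxw] at this
    exact (Submodule.Quotient.eq U).1 this

end Rep

/-- A Sylow subgroup is transitive on every orbit of prime power size. -/
theorem sylow_orbit {G X : Type*} [Group G] [Finite G] [Finite X] [MulAction G X] {p m : ℕ}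
    [Fact p.Prime] (T : Sylow p G) (x : X) (hcard : Nat.card (orbit G x) = p ^ m) {y : X}
    (hy : y ∈ orbit G x) : ∃ t ∈ (T : Subgroup G), t • x = y := by
  have := Perm.sylow_isPretransitive_of_card_prime_pow (Ω := orbit G x) hcard T
  obtain ⟨⟨t, ht⟩, h⟩ := exists_smul_eq (T : Subgroup G) (⟨x, mem_orbit_self x⟩ : orbit G x) ⟨y, hy⟩
  exact ⟨t, ht, congrArg Subtype.val h⟩

end Cfsg.Agent.SingerTransitive
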