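import Cfsg.Agent.Lib.SingerTransitive.Linearity

/-!
# Growing a spread, or an invariant subspace of small codimension

* `Shadow.hull_cases`: either the shadows are everything, or there is a larger spread, or the stabiliser of
  a point fixes a proper subspace through it of codimension at most twice the block dimension
-/

set_option autoImplicit false

namespace Cfsg.Agent.SingerTransitive

open Module MulAction

variable {G : Type*} [Group G] [Finite G] {W : Type*} [AddCommGroup W] [Module (ZMod 2) W] [Finite W]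
  {ρ : G →* (W ≃ₗ[ZMod 2] W)}

namespace Spread

variable (σ : Spread ρ)

theorem isClosed_sup {A B : Submodule (ZMod 2) W} (hA : σ.IsClosed A) (hB : σ.IsClosed B) :
    σ.IsClosed (A ⊔ B) := by
  intro z hz
  obtain ⟨a, ha, b, hb, rfl⟩ := Submodule.mem_sup.1 hz
  exact (σ.closed a b _ (Submodule.add_mem_sup (σ.mem a) (σ.mem b))).trans (sup_le_sup (hA a ha) (hB b hb))

theorem isClosed_inf {A B : Submodule (ZMod 2) W} (hA : σ.IsClosed A) (hB : σ.IsClosed B) :
    σ.IsClosed (A ⊓ B) := fun z hz => le_inf (hA z hz.1) (hB z hz.2)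

theorem isClosed_top : σ.IsClosed ⊤ := fun _ _ => le_top

theorem isClosed_bot : σ.IsClosed ⊥ := fun z hz => by
  rw [(Submodule.mem_bot _).1 hz, σ.zero']

theorem finrank_sup_blk {M : Submodule (ZMod 2) W} (hM : σ.IsClosed M) {x : W} (hx : x ∉ M) :
    finrank (ZMod 2) ↥(M ⊔ σ.blk x) = finrank (ZMod 2) M + σ.k := by
  have hdisj : M ⊓ σ.blk x = ⊥ := eq_bot_iff.2 fun y hy => by
    rw [Submodule.mem_bot]
    by_contra h
    exact hx (hM y hy.1 (σ.eq_of_mem x y h hy.2 ▸ σ.mem x))
  have h := Submodule.finrank_sup_add_finrank_inf_eq M (σ.blk x)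
  rw [hdisj, finrank_bot, σ.dim x (fun e => hx (e ▸ zero_mem _))] at h
  omega

theorem k_pos {p : W} (hp : p ≠ 0) : 0 < σ.k := by
  rw [← σ.dim p hp]
  refine Nat.pos_of_ne_zero fun e => hp ?_
  have := σ.mem p
  rwa [Submodule.finrank_eq_zero.1 e, Submodule.mem_bot] at this

theorem dvd_finrank {U : Submodule (ZMod 2) W} (hU : σ.IsClosed U) : σ.k ∣ finrank (ZMod 2) U := by
  suffices h : ∀ d (M : Submodule (ZMod 2) W), finrank (ZMod 2) U - finrank (ZMod 2) M = d → M ≤ U →
      σ.IsClosed M → σ.k ∣ finrank (ZMod 2) U - finrank (ZMod 2) M by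
    simpa using h _ ⊥ rfl bot_le σ.isClosed_bot
  intro d
  induction d using Nat.strong_induction_on with
  | _ d ih =>
    intro M hd hMU hM
    by_cases hUM : U ≤ M
    · rw [le_antisymm hUM hMU, Nat.sub_self]; exact dvd_zero _
    · obtain ⟨x, hxU, hxM⟩ := SetLike.not_le_iff_exists.1 hUM
      have hx0 : x ≠ 0 := fun e => hxM (e ▸ zero_mem _)
      have he := σ.finrank_sup_blk hM hxM
      have hle : M ⊔ σ.blk x ≤ U := sup_le hMU (hU x hxU)
      have hle' := Submodule.finrank_mono hle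
      have hk := σ.k_pos hx0
      have := ih _ (by omega) _ rfl hle (σ.isClosed_sup hM (σ.isClosed_blk x))
      rw [show finrank (ZMod 2) U - finrank (ZMod 2) M =
        finrank (ZMod 2) U - finrank (ZMod 2) ↥(M ⊔ σ.blk x) + σ.k by omega]
      exact dvd_add this dvd_rfl

end Spread

namespace Shadow

variable {σ : Spread ρ} (sh : Shadow σ)

/-- The span of the shadows of the points of a subspace. -/
def image (U : Submodule (ZMod 2) W) : Submodule (ZMod 2) W := ⨆ x : U, sh.S x.1

theorem le_image {U : Submodule (ZMod 2) W} {x : W} (hx : x ∈ U) : sh.S x ≤ sh.image U :=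
  le_iSup (fun y : U => sh.S y.1) ⟨x, hx⟩

theorem self_le_image (U : Submodule (ZMod 2) W) : U ≤ sh.image U :=
  fun x hx => sh.le_image hx (sh.blk_le x (σ.mem x))

theorem isClosed_image (U : Submodule (ZMod 2) W) : σ.IsClosed (sh.image U) := by
  intro z hz
  induction hz using Submodule.iSup_induction' with
  | mem i x hx => exact (sh.closed _ x hx).trans (sh.le_image i.2)
  | zero => rw [σ.zero']; exact bot_le
  | add a b _ _ ha hb =>
    exact (σ.closed a b _ (Submodule.add_mem_sup (σ.mem a) (σ.mem b))).trans (sup_le ha hb)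

theorem image_sup_blk (hF : Flag ρ) (hk : σ.k < finrank (ZMod 2) W) (M : Submodule (ZMod 2) W) (w : W) :
    sh.image (M ⊔ σ.blk w) ≤ sh.image M ⊔ sh.S w := by
  refine iSup_le fun ⟨x, hx⟩ => ?_
  obtain ⟨m, hm, b, hb, rfl⟩ := Submodule.mem_sup.1 hx
  refine (sh.linear hF hk m b).trans (sup_le_sup (sh.le_image hm) ?_)
  by_cases h : b = 0
  · rw [h, sh.zero']; exact bot_le
  · rw [sh.of_mem w b h hb]

theorem map_S (g : G) (p : W) : (sh.S p).map (ρ g : W →ₗ[ZMod 2] W) = sh.S (ρ g p) := by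
  ext x
  constructor
  · rintro ⟨y, hy, rfl⟩; exact (sh.equiv g p y).2 hy
  · intro hx
    exact ⟨ρ g⁻¹ x, (sh.equiv g p _).1 (by rwa [rep_apply_inv]), rep_apply_inv ρ g x⟩

theorem image_inv {U : Submodule (ZMod 2) W} {g : G} (hg : ∀ x ∈ U, ρ g x ∈ U) :
    ∀ x ∈ sh.image U, ρ g x ∈ sh.image U := by
  intro x hx
  induction hx using Submodule.iSup_induction' with
  | mem i y hy => exact sh.le_image (hg _ i.2) ((sh.equiv g i.1 y).2 hy)
  | zero => simp
  | add a b _ _ ha hb => rw [map_add]; exact add_mem ha hb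

theorem finrank_S (hF : Flag ρ) {p q : W} (hp : p ≠ 0) (hq : q ≠ 0) :
    finrank (ZMod 2) (sh.S p) = finrank (ZMod 2) (sh.S q) := by
  obtain ⟨g, hg⟩ := hF.trans p q hp hq
  rw [← hg, ← sh.map_S]
  exact (LinearEquiv.finrank_map_eq (ρ g) (sh.S p)).symm

/-- The least subspace through a point closed under taking shadows. -/
def hull (p : W) : Submodule (ZMod 2) W := sInf {U | p ∈ U ∧ ∀ x ∈ U, sh.S x ≤ U}

theorem mem_hull (p : W) : p ∈ sh.hull p := Submodule.mem_sInf.2 fun _ h => h.1

theorem hull_le {p : W} {U : Submodule (ZMod 2) W} (hp : p ∈ U) (h : ∀ x ∈ U, sh.S x ≤ U) :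
    sh.hull p ≤ U := sInf_le ⟨hp, h⟩

theorem hull_closed {p x : W} (hx : x ∈ sh.hull p) : sh.S x ≤ sh.hull p := fun _ hy =>
  Submodule.mem_sInf.2 fun U hU => hU.2 x (Submodule.mem_sInf.1 hx U hU) hy

theorem hull_zero : sh.hull 0 = ⊥ :=
  eq_bot_iff.2 (sh.hull_le (zero_mem _) fun x hx => by rw [(Submodule.mem_bot _).1 hx, sh.zero'])

theorem hull_map_le (g : G) (p : W) :
    (sh.hull p).map (ρ g : W →ₗ[ZMod 2] W) ≤ sh.hull (ρ g p) := by
  rw [Submodule.map_le_iff_le_comap]
  exact sh.hull_le (sh.mem_hull _) fun x hx y hy => sh.hull_closed hx ((sh.equiv g x y).2 hy)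

theorem finrank_hull (hF : Flag ρ) {p q : W} (hp : p ≠ 0) (hq : q ≠ 0) :
    finrank (ZMod 2) (sh.hull p) = finrank (ZMod 2) (sh.hull q) := by
  have key : ∀ p q : W, p ≠ 0 → q ≠ 0 →
      finrank (ZMod 2) (sh.hull p) ≤ finrank (ZMod 2) (sh.hull q) := by
    intro p q hp hq
    obtain ⟨g, hg⟩ := hF.trans p q hp hq
    rw [← LinearEquiv.finrank_map_eq (ρ g) (sh.hull p)]
    exact Submodule.finrank_mono (hg ▸ sh.hull_map_le g p)
  exact le_antisymm (key p q hp hq) (key q p hq hp)

/-- The spread of hulls. -/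
noncomputable def hullSpread (hF : Flag ρ) (hk : σ.k < finrank (ZMod 2) W) (p₀ : W) (hp₀ : p₀ ≠ 0) : Spread ρ where
  k := finrank (ZMod 2) (sh.hull p₀)
  blk := sh.hull
  zero' := sh.hull_zero
  mem := sh.mem_hull
  eq_of_mem p q hq hqp := by
    have hp : p ≠ 0 := fun e => hq (by rwa [e, sh.hull_zero, Submodule.mem_bot] at hqp)
    exact Submodule.eq_of_le_of_finrank_eq (sh.hull_le hqp fun x hx => sh.hull_closed hx)
      (sh.finrank_hull hF hq hp)
  dim p hp := sh.finrank_hull hF hp hp₀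
  equiv g p x := by
    refine ⟨fun h => ?_, fun h => sh.hull_map_le g p ⟨x, h, rfl⟩⟩
    have := sh.hull_map_le g⁻¹ (ρ g p) ⟨_, h, rfl⟩
    rwa [rep_inv_apply, show ((ρ g⁻¹ : W →ₗ[ZMod 2] W)) (ρ g x) = x from rep_inv_apply ρ g x] at this
  closed p q r hr := by
    refine sh.hull_le hr fun x hx => ?_
    obtain ⟨a, ha, b, hb, rfl⟩ := Submodule.mem_sup.1 hx
    exact (sh.linear hF hk a b).trans (sup_le_sup (sh.hull_closed ha) (sh.hull_closed hb))

/-- Adjacent shadows meet in codimension exactly one block. -/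
theorem finrank_meet (hF : Flag ρ) (hU : ∀ p : W, p ≠ 0 → sh.hull p = ⊤) {p x : W} (hp : p ≠ 0)
    (hpS : sh.S p ≠ ⊤) (hx : x ∈ sh.S p) (hxp : x ∉ σ.blk p) :
    finrank (ZMod 2) ↥(sh.S p ⊓ sh.S x) + σ.k = finrank (ZMod 2) (sh.S p) := by
  classical
  letI := Fintype.ofFinite W
  let c := finrank (ZMod 2) ↥(sh.S p ⊓ sh.S x)
  let d := finrank (ZMod 2) (sh.S p)
  have hstab : ∀ g ∈ subStab ρ (σ.blk p), sh.S (ρ g p) = sh.S p := fun g hg =>
    sh.of_mem p _ (fun e => hp ((ρ g).map_eq_zero_iff.1 e)) ((hg p).2 (σ.mem p))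
  have hconst : ∀ y, y ∈ sh.S p → y ∉ σ.blk p → finrank (ZMod 2) ↥(sh.S p ⊓ sh.S y) = c := by
    intro y hy hyp
    obtain ⟨g, hg, e⟩ := sh.orb p x y hp hx hxp hy hyp
    have hm : (sh.S p ⊓ sh.S x).map (ρ g : W →ₗ[ZMod 2] W) = sh.S p ⊓ sh.S y := by
      rw [Submodule.map_inf _ (ρ g).injective, sh.map_S, sh.map_S, hstab g hg, e]
    rw [← hm]
    exact LinearEquiv.finrank_map_eq (ρ g) _
  have hlt : c < d := by
    refine lt_of_le_of_ne (Submodule.finrank_mono inf_le_left) fun e => hpS ?_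
    have hcl : ∀ y ∈ sh.S p, sh.S y ≤ sh.S p := by
      intro y hy
      by_cases hyp : y ∈ σ.blk p
      · by_cases hy0 : y = 0
        · rw [hy0, sh.zero']; exact bot_le
        · rw [sh.of_mem p y hy0 hyp]
      · have h1 := Submodule.eq_of_le_of_finrank_eq (inf_le_left (b := sh.S y))
          ((hconst y hy hyp).trans e)
        have h2 : sh.S p ≤ sh.S y := inf_eq_left.1 h1
        rw [Submodule.eq_of_le_of_finrank_eq h2
          (sh.finrank_S hF hp fun e => hyp (e ▸ zero_mem _))]
    exact top_le_iff.1 (hU p hp ▸ sh.hull_le (sh.blk_le p (σ.mem p)) hcl)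
  have hge : d ≤ c + σ.k := by
    let X : Finset W := {y | y ∈ sh.S p ∧ y ∉ σ.blk p}
    let μ : W → ℕ := fun z => (X.filter fun y => z ∈ sh.S y).card
    have hcardU : ∀ U : Submodule (ZMod 2) W,
        ({z | z ∈ U} : Finset W).card = 2 ^ finrank (ZMod 2) U := fun U => by
      rw [← card_eq_two_pow, Nat.card_eq_fintype_card, Fintype.card_subtype]
    have hX : X.card = 2 ^ d - 2 ^ σ.k := by
      rw [← σ.dim p hp, ← hcardU, ← hcardU, ← Finset.card_sdiff_of_subset fun z hz => by
        simp only [Finset.mem_filter, Finset.mem_univ, true_and] at hz ⊢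
        exact sh.blk_le p hz]
      congr 1
      ext z
      simp [X]
    have hsum : ∑ z ∈ ({z | z ∉ sh.S p} : Finset W), μ z = (2 ^ d - 2 ^ σ.k) * (2 ^ d - 2 ^ c) := by
      show ∑ z ∈ ({z | z ∉ sh.S p} : Finset W), (X.filter fun y => z ∈ sh.S y).card = _
      rw [← hX]
      have h := Finset.sum_card_bipartiteAbove_eq_sum_card_bipartiteBelow
        (r := fun (z y : W) => z ∈ sh.S y) (s := ({z | z ∉ sh.S p} : Finset W)) (t := X)
      refine h.trans ?_
      rw [Finset.sum_congr rfl fun y hy => show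
        (Finset.bipartiteBelow (fun z y => z ∈ sh.S y) ({z | z ∉ sh.S p} : Finset W) y).card =
          2 ^ d - 2 ^ c by
        obtain ⟨hy1, hy2⟩ := (Finset.mem_filter.1 hy).2
        rw [← hconst y hy1 hy2, show d = finrank (ZMod 2) (sh.S y) from
          sh.finrank_S hF hp (fun e => hy2 (e ▸ zero_mem _)), ← hcardU, ← hcardU,
          ← Finset.card_sdiff_of_subset fun z hz => by
            simp only [Finset.mem_filter, Finset.mem_univ, true_and] at hz ⊢
            exact hz.2]
        congr 1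
        ext z
        simp [Finset.bipartiteBelow]
        tauto]
      rw [Finset.sum_const, smul_eq_mul]
    have hμ : ∀ z, z ∉ sh.S p → ∀ s ∈ sh.S p, μ (z + s) = μ z := by
      intro z hz s hs
      obtain ⟨g, hg, e⟩ := sh.coset p z s hp hz hs
      refine (Finset.card_bij (fun y _ => ρ g y) (fun y hy => ?_) (fun a _ b _ h => (ρ g).injective h)
        fun y hy => ⟨ρ g⁻¹ y, ?_, rep_apply_inv ρ g y⟩).symm
      · simp only [X, Finset.mem_filter, Finset.mem_univ, true_and] at hy ⊢
        obtain ⟨⟨h1, h2⟩, h3⟩ := hy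
        refine ⟨⟨?_, fun h => h2 ((hg y).1 h)⟩, e ▸ (sh.equiv g y z).2 h3⟩
        rw [← hstab g hg]
        exact (sh.equiv g p y).2 h1
      · simp only [X, Finset.mem_filter, Finset.mem_univ, true_and] at hy ⊢
        obtain ⟨⟨h1, h2⟩, h3⟩ := hy
        have := (sh.equiv g⁻¹ y (z + s)).2 h3
        rw [← e, rep_inv_apply] at this
        refine ⟨⟨?_, fun h => h2 ?_⟩, this⟩
        · rw [← hstab g⁻¹ (inv_mem hg)]
          exact (sh.equiv g⁻¹ p y).2 h1
        · have h' := (hg _).2 h
          rwa [rep_apply_inv] at h'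
    have hdvd : 2 ^ d ∣ ∑ z ∈ ({z | z ∉ sh.S p} : Finset W), μ z := by
      haveI : Finite (W ⧸ sh.S p) := Finite.of_surjective _ (sh.S p).mkQ_surjective
      letI := Fintype.ofFinite (W ⧸ sh.S p)
      rw [← Finset.sum_fiberwise ({z | z ∉ sh.S p} : Finset W) (sh.S p).mkQ]
      refine Finset.dvd_sum fun q _ => ?_
      obtain ⟨z₀, rfl⟩ := (sh.S p).mkQ_surjective q
      by_cases hz₀ : z₀ ∈ sh.S p
      · refine Nat.dvd_of_mod_eq_zero ?_
        rw [Finset.sum_eq_zero fun z hz => ?_]
        · simp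
        · simp only [Finset.mem_filter, Finset.mem_univ, true_and] at hz
          exfalso
          refine hz.1 ?_
          have := (Submodule.Quotient.eq _).1 hz.2
          simpa using add_mem this hz₀
      · have hset : (({z | z ∉ sh.S p} : Finset W).filter fun z => (sh.S p).mkQ z = (sh.S p).mkQ z₀) =
            ({z | z ∈ sh.S p} : Finset W).image (z₀ + ·) := by
          ext z
          simp only [Finset.mem_filter, Finset.mem_univ, true_and, Finset.mem_image]
          constructor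
          · rintro ⟨-, h⟩
            exact ⟨z - z₀, (Submodule.Quotient.eq _).1 h, by abel⟩
          · rintro ⟨s, hs, rfl⟩
            exact ⟨fun h => hz₀ ((Submodule.add_mem_iff_left _ hs).1 h),
              (Submodule.Quotient.eq _).2 (by simpa using hs)⟩
        rw [hset, Finset.sum_image (fun a _ b _ h => add_left_cancel h),
          Finset.sum_congr rfl fun s hs => hμ z₀ hz₀ s (Finset.mem_filter.1 hs).2, Finset.sum_const,
          hcardU, smul_eq_mul]
        exact dvd_mul_right _ _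
    rw [hsum] at hdvd
    by_contra hcon
    have hkd : σ.k ≤ d := σ.dim p hp ▸ Submodule.finrank_mono (sh.blk_le p)
    have hkd' : σ.k < d := by
      refine lt_of_le_of_ne hkd fun e => hxp ?_
      rw [Submodule.eq_of_le_of_finrank_eq (sh.blk_le p) ((σ.dim p hp).trans e)]
      exact hx
    obtain ⟨a, ha⟩ : ∃ a, d = σ.k + (a + 1) := ⟨d - σ.k - 1, by omega⟩
    obtain ⟨b, hb⟩ : ∃ b, d = c + (b + 1) := ⟨d - c - 1, by omega⟩
    rw [show 2 ^ d - 2 ^ σ.k = 2 ^ σ.k * (2 ^ (a + 1) - 1) by rw [Nat.mul_sub, ← pow_add, ← ha, mul_one],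
      show 2 ^ d - 2 ^ c = 2 ^ c * (2 ^ (b + 1) - 1) by rw [Nat.mul_sub, ← pow_add, ← hb, mul_one],
      show 2 ^ σ.k * (2 ^ (a + 1) - 1) * (2 ^ c * (2 ^ (b + 1) - 1)) =
        2 ^ (σ.k + c) * ((2 ^ (a + 1) - 1) * (2 ^ (b + 1) - 1)) by rw [pow_add]; ring] at hdvd
    have hodd : ∀ m : ℕ, Odd (2 ^ (m + 1) - 1) := fun m =>
      Nat.Even.sub_odd Nat.one_le_two_pow (Nat.even_pow.2 ⟨even_two, by omega⟩) odd_one
    have h2 : 2 ^ d ∣ 2 ^ (σ.k + c) :=
      (Nat.Coprime.pow_left d ((Nat.coprime_two_left).2 ((hodd a).mul (hodd b)))).dvd_of_dvd_mul_right hdvd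
    have := Nat.pow_dvd_pow_iff_le_right (le_refl 2) |>.1 h2
    omega
  have hk1 := σ.dvd_finrank (σ.isClosed_inf (sh.closed p) (sh.closed x))
  have hk2 := σ.dvd_finrank (sh.closed p)
  have := Nat.le_of_dvd (by omega : 0 < d - c) (Nat.dvd_sub hk2 hk1)
  omega

/-- The shadows grow by at most two blocks at every further step. -/
theorem exists_small_codim (hF : Flag ρ) (hk : σ.k < finrank (ZMod 2) W)
    (hU : ∀ p : W, p ≠ 0 → sh.hull p = ⊤) {p : W} (hp : p ≠ 0) (hpS : sh.S p ≠ ⊤) :
    ∃ (H : Submodule (ZMod 2) W) (C : ℕ), p ∈ H ∧ H ≠ ⊤ ∧ (∀ g, ρ g p = p → ∀ x ∈ H, ρ g x ∈ H) ∧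
      finrank (ZMod 2) W ≤ finrank (ZMod 2) H + C ∧
      (C + C + C ≤ finrank (ZMod 2) W ∨ finrank (ZMod 2) W = 5 * σ.k) := by
  classical
  let d := finrank (ZMod 2) (sh.S p)
  have hne : ∀ q : W, q ≠ 0 → sh.S q ≠ ⊤ := fun q hq e => hpS <| by
    refine Submodule.eq_top_of_finrank_eq ?_
    rw [sh.finrank_S hF hp hq, e, finrank_top]
  have hmeet : ∀ q y : W, q ≠ 0 → y ∈ sh.S q → y ∉ σ.blk q →
      finrank (ZMod 2) ↥(sh.S q ⊓ sh.S y) + σ.k = d := fun q y hq hy hyq => by
    rw [sh.finrank_meet hF hU hq (hne q hq) hy hyq]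
    exact sh.finrank_S hF hq hp
  have hk0 := σ.k_pos hp
  obtain ⟨x, hx, hxp⟩ := sh.bigger p hp
  have hx0 : x ≠ 0 := fun e => hxp (e ▸ zero_mem _)
  have hB : σ.blk p ⊔ σ.blk x ≤ sh.S p ⊓ sh.S x := by
    refine sup_le (le_inf (sh.blk_le p) (sh.closed x p (sh.symm p x hp hx0 hx)))
      (le_inf (sh.closed p x hx) (sh.blk_le x))
  have h3k : σ.k + σ.k + σ.k ≤ d := by
    have h1 := Submodule.finrank_mono hB
    rw [σ.pair_dim hp hxp] at h1
    have := hmeet p x hp hx hxp
    omega
  -- every further step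
  have step : ∀ U' U : Submodule (ZMod 2) W, σ.IsClosed U' → U' ≤ U → U = sh.image U' →
      finrank (ZMod 2) (sh.image U) + finrank (ZMod 2) U' ≤
        finrank (ZMod 2) U + finrank (ZMod 2) U := by
    intro U' U hU' hle hUeq
    suffices h : ∀ m (M : Submodule (ZMod 2) W), finrank (ZMod 2) U - finrank (ZMod 2) M = m →
        σ.IsClosed M → U' ≤ M → M ≤ U →
        finrank (ZMod 2) (sh.image U) + finrank (ZMod 2) M ≤
          finrank (ZMod 2) ↥(U ⊔ sh.image M) + finrank (ZMod 2) U by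
      have := h _ U' rfl hU' le_rfl hle
      rw [← hUeq, sup_idem] at this
      exact this
    intro m
    induction m using Nat.strong_induction_on with
    | _ m ih =>
      intro M hm hM h1 h2
      by_cases hMU : U ≤ M
      · rw [le_antisymm h2 hMU, sup_eq_right.2 (sh.self_le_image U)]
      · obtain ⟨y, hy, hyM⟩ : ∃ y ∈ U', ¬ sh.S y ≤ M := by
          by_contra hc
          push Not at hc
          exact hMU (hUeq ▸ iSup_le fun z => hc z.1 z.2)
        obtain ⟨w, hw, hwM⟩ := SetLike.not_le_iff_exists.1 hyM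
        have hy0 : y ≠ 0 := fun e => by rw [e, sh.zero', Submodule.mem_bot] at hw; exact hwM (hw ▸ zero_mem _)
        have hwy : w ∉ σ.blk y := fun h => hwM (hM y (h1 hy) h)
        have hSy : sh.S y ≤ U := hUeq ▸ sh.le_image hy
        have hMw : M ⊔ σ.blk w ≤ U :=
          sup_le h2 (((hUeq ▸ sh.isClosed_image U') : σ.IsClosed U) w (hSy hw))
        have he := σ.finrank_sup_blk hM hwM
        have hmono := Submodule.finrank_mono hMw
        have hrec := ih _ (by omega) _ rfl (σ.isClosed_sup hM (σ.isClosed_blk w))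
          (h1.trans le_sup_left) hMw
        have hgrow : finrank (ZMod 2) ↥(U ⊔ sh.image (M ⊔ σ.blk w)) ≤
            finrank (ZMod 2) ↥(U ⊔ sh.image M) + σ.k := by
          refine (Submodule.finrank_mono (t := (U ⊔ sh.image M) ⊔ sh.S w) ?_).trans ?_
          · rw [sup_assoc]; exact sup_le_sup_left (sh.image_sup_blk hF hk M w) U
          · have h := Submodule.finrank_sup_add_finrank_inf_eq (U ⊔ sh.image M) (sh.S w)
            have hle' := Submodule.finrank_mono (show sh.S y ⊓ sh.S w ≤ (U ⊔ sh.image M) ⊓ sh.S w from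
              inf_le_inf_right _ (hSy.trans le_sup_left))
            have := hmeet y w hy0 hw hwy
            have hd : finrank (ZMod 2) (sh.S w) = d :=
              sh.finrank_S hF (fun e => hwy (e ▸ zero_mem _)) hp
            omega
        omega
  -- the first step
  have hfirst : finrank (ZMod 2) (sh.image (sh.S p)) ≤ d + (σ.k + σ.k) := by
    have hadd : ∀ z, z ∈ sh.S p → z ∉ σ.blk p → ∀ A : Submodule (ZMod 2) W, sh.S p ≤ A →
        finrank (ZMod 2) ↥(A ⊔ sh.S z) ≤ finrank (ZMod 2) A + σ.k := by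
      intro z hz hzp A hA
      have h := Submodule.finrank_sup_add_finrank_inf_eq A (sh.S z)
      have hle' := Submodule.finrank_mono
        (show sh.S p ⊓ sh.S z ≤ A ⊓ sh.S z from inf_le_inf_right _ hA)
      have := hmeet p z hp hz hzp
      have hd : finrank (ZMod 2) (sh.S z) = d := sh.finrank_S hF (fun e => hzp (e ▸ zero_mem _)) hp
      omega
    by_cases hd3 : d = σ.k + σ.k + σ.k
    · obtain ⟨y, hy, hyP⟩ : ∃ y ∈ sh.S p, y ∉ σ.blk p ⊔ σ.blk x := by
        by_contra hc
        push Not at hc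
        have := Submodule.finrank_mono (show sh.S p ≤ σ.blk p ⊔ σ.blk x from hc)
        rw [σ.pair_dim hp hxp] at this
        omega
      have hP3 : σ.blk p ⊔ σ.blk x ⊔ σ.blk y = sh.S p := by
        refine Submodule.eq_of_le_of_finrank_eq
          (sup_le (sup_le (sh.blk_le p) (sh.closed p x hx)) (sh.closed p y hy)) ?_
        rw [σ.finrank_sup_blk (σ.isClosed_pair p x) hyP, σ.pair_dim hp hxp]
        exact hd3.symm
      have hb : sh.image (σ.blk p) ≤ sh.S p := iSup_le fun ⟨b, hb⟩ => by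
        show sh.S b ≤ _
        by_cases h : b = 0
        · rw [h, sh.zero']; exact bot_le
        · rw [sh.of_mem p b h hb]
      have hle : sh.image (sh.S p) ≤ sh.S p ⊔ sh.S x ⊔ sh.S y := by
        rw [← hP3]
        refine (sh.image_sup_blk hF hk _ y).trans (sup_le_sup_right ?_ _)
        refine (sh.image_sup_blk hF hk _ x).trans (sup_le_sup_right ?_ _)
        rw [hP3]
        exact hb
      have h1 := Submodule.finrank_mono hle
      have h2 := hadd y hy (fun h => hyP (Submodule.mem_sup_left h)) (sh.S p ⊔ sh.S x) le_sup_left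
      have h3 := hadd x hx hxp (sh.S p) le_rfl
      omega
    · have hinj : ∀ a b, a ∈ sh.S p → a ∉ σ.blk p → b ∈ sh.S p → b ∉ σ.blk p ⊔ σ.blk a →
          sh.S p ⊓ sh.S a ≠ sh.S p ⊓ sh.S b := by
        intro a b ha hap hb hbP heq
        have ha0 : a ≠ 0 := fun e => hap (e ▸ zero_mem _)
        have hb0 : b ≠ 0 := fun e => hbP (e ▸ zero_mem _)
        let P3 := σ.blk p ⊔ σ.blk a ⊔ σ.blk b
        have hP3 : P3 ≤ sh.S p := sup_le (sup_le (sh.blk_le p) (sh.closed p a ha)) (sh.closed p b hb)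
        have hdim : finrank (ZMod 2) P3 = σ.k + σ.k + σ.k := by
          rw [σ.finrank_sup_blk (σ.isClosed_pair p a) hbP, σ.pair_dim hp hap]
        obtain ⟨w, hw, hwH⟩ : ∃ w ∈ sh.S p, w ∉ sh.S p ⊓ sh.S a := by
          by_contra hc
          push Not at hc
          have := Submodule.finrank_mono (show sh.S p ≤ sh.S p ⊓ sh.S a from hc)
          have := hmeet p a hp ha hap
          omega
        have hwp : w ∉ σ.blk p := fun h => hwH ⟨hw, sh.closed a p (sh.symm p a hp ha0 ha) h⟩
        have hw0 : w ≠ 0 := fun e => hwp (e ▸ zero_mem _)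
        obtain ⟨v, hv, hvp⟩ : ∃ v ∈ (sh.S p ⊓ sh.S w) ⊓ P3, v ∉ σ.blk p := by
          by_contra hc
          push Not at hc
          have h1 := Submodule.finrank_mono (show (sh.S p ⊓ sh.S w) ⊓ P3 ≤ σ.blk p from hc)
          have h2 := Submodule.finrank_sup_add_finrank_inf_eq (sh.S p ⊓ sh.S w) P3
          have h3 := Submodule.finrank_mono (sup_le (inf_le_left (b := sh.S w)) hP3)
          have := hmeet p w hp hw hwp
          rw [σ.dim p hp] at h1
          omega
        have hv0 : v ≠ 0 := fun e => hvp (e ▸ zero_mem _)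
        have hvS : v ∈ sh.S p := hv.1.1
        have hle : sh.S p ⊓ sh.S a ≤ sh.S p ⊓ sh.S v := by
          intro q hq
          refine ⟨hq.1, ?_⟩
          by_cases hq0 : q = 0
          · rw [hq0]; exact zero_mem _
          have hq' : q ∈ sh.S p ⊓ sh.S b := heq ▸ hq
          refine sh.symm q v hq0 hv0 ?_
          exact sup_le (sup_le (sh.closed q p (sh.symm p q hp hq0 hq.1))
            (sh.closed q a (sh.symm a q ha0 hq0 hq.2))) (sh.closed q b (sh.symm b q hb0 hq0 hq'.2)) hv.2
        have heq' := Submodule.eq_of_le_of_finrank_eq hle (by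
          have := hmeet p a hp ha hap
          have := hmeet p v hp hvS hvp
          omega)
        exact hwH (heq' ▸ ⟨hw, sh.symm w v hw0 hv0 hv.1.2⟩)
      have hlink : ∀ a b, a ∈ sh.S p → a ∉ σ.blk p → b ∈ sh.S p → b ∈ sh.S a →
          sh.S b ≤ sh.S p ⊔ sh.S a := by
        intro a b ha hap hb hba
        by_cases hbp : b ∈ σ.blk p
        · by_cases hb0 : b = 0
          · rw [hb0, sh.zero']; exact bot_le
          · rw [sh.of_mem p b hb0 hbp]; exact le_sup_left
        by_cases hbP : b ∈ σ.blk p ⊔ σ.blk a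
        · obtain ⟨c, hc, e, he, rfl⟩ := Submodule.mem_sup.1 hbP
          refine (sh.linear hF hk c e).trans (sup_le_sup ?_ ?_)
          · by_cases h : c = 0
            · rw [h, sh.zero']; exact bot_le
            · rw [sh.of_mem p c h hc]
          · by_cases h : e = 0
            · rw [h, sh.zero']; exact bot_le
            · rw [sh.of_mem a e h he]
        have ha0 : a ≠ 0 := fun e => hap (e ▸ zero_mem _)
        have hb0 : b ≠ 0 := fun e => hbp (e ▸ zero_mem _)
        have hba' : b ∉ σ.blk a := fun h => hbP (Submodule.mem_sup_right h)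
        have hda := hmeet p a hp ha hap
        have hdb := hmeet p b hp hb hbp
        have hdab := hmeet a b ha0 hba hba'
        obtain ⟨w, hw, hwp⟩ : ∃ w ∈ sh.S a ⊓ sh.S b, w ∉ sh.S p := by
          by_contra hc
          push Not at hc
          have hle : sh.S a ⊓ sh.S b ≤ (sh.S p ⊓ sh.S a) ⊓ (sh.S p ⊓ sh.S b) :=
            fun z hz => ⟨⟨hc z hz, hz.1⟩, ⟨hc z hz, hz.2⟩⟩
          have h1 := Submodule.finrank_mono hle
          refine hinj a b ha hap hb hbP ?_
          have e1 := Submodule.eq_of_le_of_finrank_eq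
            (inf_le_left (a := sh.S p ⊓ sh.S a) (b := sh.S p ⊓ sh.S b))
            (by have := Submodule.finrank_mono
                  (inf_le_left (a := sh.S p ⊓ sh.S a) (b := sh.S p ⊓ sh.S b)); omega)
          have e2 := Submodule.eq_of_le_of_finrank_eq
            (inf_le_right (a := sh.S p ⊓ sh.S a) (b := sh.S p ⊓ sh.S b))
            (by have := Submodule.finrank_mono
                  (inf_le_right (a := sh.S p ⊓ sh.S a) (b := sh.S p ⊓ sh.S b)); omega)
          exact e1.symm.trans e2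
        have hlt : finrank (ZMod 2) ↥(sh.S p ⊓ sh.S b) <
            finrank (ZMod 2) ↥(sh.S b ⊓ (sh.S p ⊔ sh.S a)) := by
          refine Submodule.finrank_lt_finrank_of_lt (lt_of_le_not_ge
            (le_inf inf_le_right (inf_le_left.trans le_sup_left)) fun h => hwp ?_)
          exact (h ⟨hw.2, Submodule.mem_sup_right hw.1⟩).1
        have h1 := σ.dvd_finrank (σ.isClosed_inf (sh.closed b) (σ.isClosed_sup (sh.closed p) (sh.closed a)))
        have h2 := σ.dvd_finrank (σ.isClosed_inf (sh.closed p) (sh.closed b))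
        have h3 := Nat.le_of_dvd (by omega) (Nat.dvd_sub h1 h2)
        have hd : finrank (ZMod 2) (sh.S b) = d := sh.finrank_S hF hb0 hp
        exact inf_eq_left.1 (Submodule.eq_of_le_of_finrank_le inf_le_left (by omega))
      have hle : sh.image (sh.S p) ≤ sh.S p ⊔ sh.S x := iSup_le fun ⟨y, hy⟩ => by
        show sh.S y ≤ _
        by_cases hyp : y ∈ σ.blk p
        · by_cases hy0 : y = 0
          · rw [hy0, sh.zero']; exact bot_le
          · rw [sh.of_mem p y hy0 hyp]; exact le_sup_left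
        obtain ⟨z, hz, hzp⟩ : ∃ z ∈ (sh.S p ⊓ sh.S x) ⊓ (sh.S p ⊓ sh.S y), z ∉ σ.blk p := by
          by_contra hc
          push Not at hc
          have h1 := Submodule.finrank_mono
            (show (sh.S p ⊓ sh.S x) ⊓ (sh.S p ⊓ sh.S y) ≤ σ.blk p from hc)
          have h2 := Submodule.finrank_sup_add_finrank_inf_eq (sh.S p ⊓ sh.S x) (sh.S p ⊓ sh.S y)
          have h3 := Submodule.finrank_mono (sup_le (inf_le_left (a := sh.S p) (b := sh.S x))
            (inf_le_left (a := sh.S p) (b := sh.S y)))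
          have := hmeet p x hp hx hxp
          have := hmeet p y hp hy hyp
          have hdd := Nat.le_of_dvd (n := d - (σ.k + σ.k + σ.k)) (by omega) (Nat.dvd_sub (σ.dvd_finrank (sh.closed p))
            (dvd_add (dvd_add dvd_rfl dvd_rfl) dvd_rfl))
          rw [σ.dim p hp] at h1
          omega
        have hy0 : y ≠ 0 := fun e => hyp (e ▸ zero_mem _)
        have hz0 : z ≠ 0 := fun e => hzp (e ▸ zero_mem _)
        exact (hlink z y hz.1.1 hzp hy (sh.symm y z hy0 hz0 hz.2.2)).trans
          (sup_le le_sup_left (hlink x z hx hxp hz.1.1 hz.1.2))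
      have h1 := Submodule.finrank_mono hle
      have h3 := hadd x hx hxp (sh.S p) le_rfl
      omega
  -- iterate
  suffices h : ∀ m (U' U : Submodule (ZMod 2) W), finrank (ZMod 2) W - finrank (ZMod 2) U = m →
      σ.IsClosed U' → sh.S p ≤ U' → U' ≤ U → U = sh.image U' → U' ≠ ⊤ →
      (∀ g, ρ g p = p → ∀ y ∈ U', ρ g y ∈ U') →
      finrank (ZMod 2) U ≤ finrank (ZMod 2) U' + (σ.k + σ.k) →
      ∃ H : Submodule (ZMod 2) W, sh.S p ≤ H ∧ H ≠ ⊤ ∧ σ.IsClosed H ∧
        (∀ g, ρ g p = p → ∀ y ∈ H, ρ g y ∈ H) ∧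
        finrank (ZMod 2) W ≤ finrank (ZMod 2) H + (σ.k + σ.k) by
    obtain ⟨H, h1, h2, h2', h3, h4⟩ := h _ (sh.S p) (sh.image (sh.S p)) rfl (sh.closed p) le_rfl
      (sh.self_le_image _) rfl hpS (fun g hg y hy => by
        have := (sh.equiv g p y).2 hy
        rwa [hg] at this) hfirst
    have hn := σ.dvd_finrank σ.isClosed_top
    rw [finrank_top] at hn
    obtain ⟨a, ha⟩ := hn
    obtain ⟨b, hb⟩ := σ.dvd_finrank h2'
    have hbd := Submodule.finrank_mono h1
    have hHlt := Submodule.finrank_lt h2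
    have h4' : a ≤ b + 2 := Nat.le_of_mul_le_mul_left (by rw [Nat.mul_add, ← ha, ← hb]; omega) hk0
    have h5 : b < a := Nat.lt_of_mul_lt_mul_left (a := σ.k) (by rwa [← ha, ← hb])
    have h6 : 3 ≤ b := Nat.le_of_mul_le_mul_left (by rw [← hb]; omega) hk0
    refine ⟨H, finrank (ZMod 2) W - finrank (ZMod 2) H, h1 (sh.blk_le p (σ.mem p)), h2, h3, by omega, ?_⟩
    by_cases ha5 : a = 5
    · exact Or.inr (by rw [ha, ha5, mul_comm])
    refine Or.inl ?_
    rw [ha, hb, ← Nat.mul_sub, ← Nat.mul_add, ← Nat.mul_add]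
    exact Nat.mul_le_mul_left _ (by omega)
  intro m
  induction m using Nat.strong_induction_on with
  | _ m ih =>
    intro U' U hm hU' hS hle hUeq hne' hinv hbound
    by_cases hUtop : U = ⊤
    · refine ⟨U', hS, hne', hU', hinv, ?_⟩
      rw [hUtop, finrank_top] at hbound
      exact hbound
    · have hlt : finrank (ZMod 2) U < finrank (ZMod 2) (sh.image U) := by
        refine Submodule.finrank_lt_finrank_of_lt (lt_of_le_not_ge (sh.self_le_image U) fun h => hUtop ?_)
        exact top_le_iff.1 (hU p hp ▸ sh.hull_le (hle (hS (sh.blk_le p (σ.mem p))))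
          fun y hy => (sh.le_image hy).trans h)
      have hU'' : σ.IsClosed U := hUeq ▸ sh.isClosed_image U'
      have hinv' : ∀ g, ρ g p = p → ∀ y ∈ U, ρ g y ∈ U := fun g hg => by
        rw [hUeq]; exact sh.image_inv (hinv g hg)
      have hst := step U' U hU' hle hUeq
      have hle'' := Submodule.finrank_le (sh.image U)
      exact ih _ (by omega) U _ rfl hU'' (hS.trans hle) (sh.self_le_image U) rfl hUtop hinv' (by omega)

end Shadow

end Cfsg.Agent.SingerTransitive
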