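import Cfsg.Agent.Lib.SingerTransitive.Fourier

/-!
# Invariant spreads of an antiflag-transitive action over GF(2)

* `Flag`, `Spread`
* `Spread.pair_trans`, `Spread.pair_stab_trans`: the action on the sum of two blocks
* `Spread.exists_shadow`: the subspace of blocks adjacent to a block
-/

set_option autoImplicit false

namespace Cfsg.Agent.SingerTransitive

open Module MulAction

variable {G : Type*} [Group G] [Finite G] {W : Type*} [AddCommGroup W] [Module (ZMod 2) W] [Finite W]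
  (ρ : G →* (W ≃ₗ[ZMod 2] W))

/-- Transitive on vectors and on antiflags. -/
structure Flag : Prop where
  nontrivial : Nontrivial W
  trans : ∀ x y : W, x ≠ 0 → y ≠ 0 → ∃ g, ρ g x = y
  anti : ∀ p : W, p ≠ 0 → ∀ f f' : Dual (ZMod 2) W, f p = 1 → f' p = 1 →
    ∃ g, ρ g p = p ∧ ∀ x, f' (ρ g x) = f x

/-- An invariant partition into subspaces, the sum of two members a union of members. -/
structure Spread where
  k : ℕ
  blk : W → Submodule (ZMod 2) W
  zero' : blk 0 = ⊥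
  mem : ∀ p, p ∈ blk p
  eq_of_mem : ∀ p q, q ≠ 0 → q ∈ blk p → blk q = blk p
  dim : ∀ p, p ≠ 0 → finrank (ZMod 2) (blk p) = k
  equiv : ∀ g p x, ρ g x ∈ blk (ρ g p) ↔ x ∈ blk p
  closed : ∀ p q r, r ∈ blk p ⊔ blk q → blk r ≤ blk p ⊔ blk q

/-- The stabiliser of a subspace. -/
def subStab (U : Submodule (ZMod 2) W) : Subgroup G where
  carrier := {g | ∀ x, ρ g x ∈ U ↔ x ∈ U}
  mul_mem' := fun {a b} ha hb x => by rw [rep_mul, ha, hb]
  one_mem' := fun x => by rw [map_one]; rfl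
  inv_mem' := fun {a} ha x => by rw [← ha (ρ a⁻¹ x), rep_apply_inv]

/-- The stabiliser of a vector in a representation. -/
def vStab (p : W) : Subgroup G where
  carrier := {g | ρ g p = p}
  mul_mem' := fun {a b} ha hb => by
    show ρ (a * b) p = p
    rw [rep_mul, show ρ b p = p from hb, show ρ a p = p from ha]
  one_mem' := by show ρ 1 p = p; rw [map_one]; rfl
  inv_mem' := fun {a} ha => by
    show ρ a⁻¹ p = p
    conv_lhs => rw [← show ρ a p = p from ha]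
    rw [rep_inv_apply]

variable {ρ}

omit [Finite G] in
theorem mem_subStab_of {U : Submodule (ZMod 2) W} {g : G} (h : ∀ x ∈ U, ρ g x ∈ U) :
    g ∈ subStab ρ U := by
  intro x
  refine ⟨fun hx => ?_, h x⟩
  have hinj : Function.Injective fun y : U => (⟨ρ g y.1, h _ y.2⟩ : U) := fun a b e =>
    Subtype.ext ((ρ g).injective (congrArg Subtype.val e))
  obtain ⟨y, hy⟩ := (Finite.injective_iff_surjective.1 hinj) ⟨ρ g x, hx⟩
  rw [← (ρ g).injective (congrArg Subtype.val hy)]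
  exact y.2

/-- The action of a subspace stabiliser on that subspace. -/
def restrictRep (U : Submodule (ZMod 2) W) : subStab ρ U →* (U ≃ₗ[ZMod 2] U) where
  toFun g :=
    { toFun := fun x => ⟨ρ g.1 x.1, (g.2 x.1).2 x.2⟩
      map_add' := fun a b => Subtype.ext (map_add _ _ _)
      map_smul' := fun c a => Subtype.ext (map_smul _ _ _)
      invFun := fun x => ⟨ρ g.1⁻¹ x.1, ((g⁻¹).2 x.1).2 x.2⟩
      left_inv := fun x => Subtype.ext (rep_inv_apply ρ _ _)
      right_inv := fun x => Subtype.ext (rep_apply_inv ρ _ _) }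
  map_one' := LinearEquiv.ext fun x => Subtype.ext (by show ρ 1 x.1 = x.1; rw [map_one]; rfl)
  map_mul' a b := LinearEquiv.ext fun x => Subtype.ext (rep_mul ρ a.1 b.1 x.1)

theorem translate (hF : Flag ρ) {p x : W} (hp : p ≠ 0) (hx : x ≠ 0) (hxp : x ≠ p) :
    ∃ g, ρ g p = p ∧ ρ g x = x + p := by
  let H := vStab ρ p
  have h := coset_invariant (ρ.comp H.subtype) {y | ∃ g, ρ g p = p ∧ ρ g x = y}
    (fun g y ⟨k, hk, hky⟩ => ⟨g.1 * k, by rw [rep_mul, hk]; exact g.2, by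
      rw [rep_mul, hky]; rfl⟩)
    (Submodule.span (ZMod 2) {p}) ?_ (z := x) (by rw [mem_span_single]; exact not_or.2 ⟨hx, hxp⟩)
    (q := p) (Submodule.mem_span_singleton_self p)
  · exact h.2 ⟨1, by rw [map_one]; rfl, by rw [map_one]; rfl⟩
  · rintro f f' heq ⟨q, hq, hfq⟩
    have hfp : f p = 1 := by
      rcases mem_span_single.1 hq with rfl | rfl
      · simp at hfq
      · exact zmod2_ne hfq
    obtain ⟨g, hg, hgx⟩ := hF.anti p hp f f' hfp (by
      rw [← heq p (Submodule.mem_span_singleton_self p), hfp])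
    exact ⟨⟨g, hg⟩, hgx⟩

namespace Spread

variable (σ : Spread ρ)

/-- A subspace that is a union of blocks. -/
def IsClosed (U : Submodule (ZMod 2) W) : Prop := ∀ x ∈ U, σ.blk x ≤ U

theorem isClosed_blk (p : W) : σ.IsClosed (σ.blk p) := by
  intro x hx
  by_cases h : x = 0
  · rw [h, σ.zero']; exact bot_le
  · rw [σ.eq_of_mem p x h hx]

theorem isClosed_pair (p q : W) : σ.IsClosed (σ.blk p ⊔ σ.blk q) := σ.closed p q

theorem disjoint_blk {p q : W} (hq : q ∉ σ.blk p) : σ.blk p ⊓ σ.blk q = ⊥ := by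
  refine eq_bot_iff.2 fun x hx => ?_
  rw [Submodule.mem_bot]
  by_contra h
  exact hq (σ.eq_of_mem p x h hx.1 ▸ (σ.eq_of_mem q x h hx.2).symm ▸ σ.mem q)

theorem pair_dim {p q : W} (hp : p ≠ 0) (hq : q ∉ σ.blk p) :
    finrank (ZMod 2) ↥(σ.blk p ⊔ σ.blk q) = σ.k + σ.k := by
  have h := Submodule.finrank_sup_add_finrank_inf_eq (σ.blk p) (σ.blk q)
  rw [σ.disjoint_blk hq, finrank_bot, σ.dim p hp, σ.dim q (fun e => hq (e ▸ zero_mem _))] at h
  omega

theorem not_mem_symm {p q : W} (hp : p ≠ 0) (hq : q ∉ σ.blk p) : p ∉ σ.blk q :=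
  fun h => hq (σ.eq_of_mem q p hp h ▸ σ.mem q)

/-- A pair subspace is determined by any two of its blocks. -/
theorem pair_eq {p q a b : W} (hp : p ≠ 0) (hq : q ∉ σ.blk p) (ha : a ∈ σ.blk p ⊔ σ.blk q)
    (hb : b ∈ σ.blk p ⊔ σ.blk q) (ha0 : a ≠ 0) (hab : b ∉ σ.blk a) :
    σ.blk a ⊔ σ.blk b = σ.blk p ⊔ σ.blk q :=
  Submodule.eq_of_le_of_finrank_eq (sup_le (σ.closed p q a ha) (σ.closed p q b hb))
    (by rw [σ.pair_dim hp hq, σ.pair_dim ha0 hab])

theorem subStab_blk {p : W} {g : G} (hg : σ.blk (ρ g p) = σ.blk p) : g ∈ subStab ρ (σ.blk p) :=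
  mem_subStab_of fun x hx => hg ▸ (σ.equiv g p x).2 hx

theorem blk_map_eq {p : W} {g : G} (hp : p ≠ 0) (hg : g ∈ subStab ρ (σ.blk p)) :
    σ.blk (ρ g p) = σ.blk p :=
  σ.eq_of_mem p _ (fun e => hp ((ρ g).map_eq_zero_iff.1 e)) ((hg p).2 (σ.mem p))

theorem subStab_of_fix {p : W} {g : G} (hg : ρ g p = p) : g ∈ subStab ρ (σ.blk p) :=
  σ.subStab_blk (by rw [hg])

theorem equiv_sup {g : G} {p q x : W} :
    ρ g x ∈ σ.blk (ρ g p) ⊔ σ.blk (ρ g q) ↔ x ∈ σ.blk p ⊔ σ.blk q := by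
  constructor
  · intro h
    obtain ⟨a, ha, b, hb, e⟩ := Submodule.mem_sup.1 h
    refine Submodule.mem_sup.2 ⟨ρ g⁻¹ a, (σ.equiv g p _).1 (by rwa [rep_apply_inv]),
      ρ g⁻¹ b, (σ.equiv g q _).1 (by rwa [rep_apply_inv]), ?_⟩
    rw [← map_add, e, rep_inv_apply]
  · intro h
    obtain ⟨a, ha, b, hb, rfl⟩ := Submodule.mem_sup.1 h
    rw [map_add]
    exact Submodule.add_mem_sup ((σ.equiv g p a).2 ha) ((σ.equiv g q b).2 hb)

theorem pair_translate (hF : Flag ρ) {p q a b : W} (hp : p ≠ 0) (hq : q ∉ σ.blk p)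
    (ha : a ∈ σ.blk p ⊔ σ.blk q) (hb : b ∈ σ.blk p ⊔ σ.blk q) (ha0 : a ≠ 0) (hab : b ∉ σ.blk a) :
    ∃ g ∈ subStab ρ (σ.blk p ⊔ σ.blk q), ρ g a = a ∧ ρ g b = b + a := by
  obtain ⟨g, hga, hgb⟩ := translate hF ha0 (fun e : b = 0 => hab (e ▸ zero_mem _))
    (fun e : b = a => hab (e ▸ σ.mem a))
  refine ⟨g, mem_subStab_of fun x hx => ?_, hga, hgb⟩
  rw [← σ.pair_eq hp hq ha hb ha0 hab] at hx ⊢
  rw [← σ.equiv_sup (g := g), hga, hgb] at hx
  exact sup_le le_sup_left ((σ.closed b a _ (Submodule.add_mem_sup (σ.mem b) (σ.mem a))).trans_eq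
    (sup_comm _ _)) hx

end Spread

end Cfsg.Agent.SingerTransitive
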