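import Cfsg.Agent.Lib.SingerTransitive.Singer
import Cfsg.Agent.Lib.SingerTransitive.Spread
import Cfsg.Agent.Lib.Zsigmondy.Basic

/-!
# A transvection from a subspace with transitive stabiliser

* `TwoTrans.exists_tv_of_subspace`
-/

set_option autoImplicit false

namespace Cfsg.Agent.SingerTransitive

open Module MulAction

variable {V : Type*} [AddCommGroup V] [Module (ZMod 2) V] [Finite V]

namespace TwoTrans

variable {X : Subgroup (V ≃ₗ[ZMod 2] V)}

/-- The stabiliser in `X` of a subspace. -/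
def kStab (X : Subgroup (V ≃ₗ[ZMod 2] V)) (K : Submodule (ZMod 2) V) : Subgroup (V ≃ₗ[ZMod 2] V) :=
  X ⊓ subStab (MonoidHom.id (V ≃ₗ[ZMod 2] V)) K

omit [Finite V] in
theorem mem_kStab {K : Submodule (ZMod 2) V} {g : V ≃ₗ[ZMod 2] V} :
    g ∈ kStab X K ↔ g ∈ X ∧ ∀ x, g x ∈ K ↔ x ∈ K := Iff.rfl

/-- The restriction to the subspace. -/
def kHom (X : Subgroup (V ≃ₗ[ZMod 2] V)) (K : Submodule (ZMod 2) V) :
    kStab X K →* (K ≃ₗ[ZMod 2] K) :=
  (restrictRep (ρ := MonoidHom.id (V ≃ₗ[ZMod 2] V)) K).comp (Subgroup.inclusion inf_le_right)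

theorem kHom_apply {K : Submodule (ZMod 2) V} (g : kStab X K) (x : K) :
    (kHom X K g x).1 = g.1 x.1 := rfl

theorem kHom_eq_one {K : Submodule (ZMod 2) V} {g : kStab X K} :
    kHom X K g = 1 ↔ ∀ x ∈ K, g.1 x = x := by
  constructor
  · intro h x hx
    exact congrArg Subtype.val (LinearEquiv.congr_fun h ⟨x, hx⟩)
  · exact fun h => LinearEquiv.ext fun x => Subtype.ext (h x.1 x.2)

/-- If the stabiliser of a small subspace is transitive off it, there is a transvection. -/
theorem exists_tv_of_subspace (hX : TwoTrans X) {v u : V} (hv : v ≠ 0) (hu : u ≠ 0) (hvu : v ≠ u)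
    (K : Submodule (ZMod 2) V) (hvK : v ∈ K) (huK : u ∈ K)
    (hfix : ∀ g ∈ X, ∀ a ∈ K, ∀ b ∈ K, a ≠ 0 → b ≠ 0 → a ≠ b → g a = a → g b = b → g ∈ kStab X K)
    (htr : ∀ x y, x ∉ K → y ∉ K → ∃ g ∈ kStab X K, g x = y) {d : ℕ}
    (hd : finrank (ZMod 2) V = finrank (ZMod 2) K + d) (hsmall : finrank (ZMod 2) K < d) (hd6 : d ≠ 6)
    (hline : finrank (ZMod 2) K = 2 → Odd d) :
    ∃ t ∈ X, t ≠ 1 ∧ ∃ a φ, TransvGroup.IsTv t a φ := by
  classical
  let M := kStab X K
  let φK := kHom X K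
  have hKtwo : 2 ≤ finrank (ZMod 2) K := by
    have h : Submodule.span (ZMod 2) {v, u} ≤ K := Submodule.span_le.2 (by
      rintro x (rfl | rfl) <;> assumption)
    refine le_trans ?_ (Submodule.finrank_mono h)
    by_contra hcon
    have h1 : Submodule.span (ZMod 2) {v} ≤ Submodule.span (ZMod 2) {v, u} :=
      Submodule.span_mono (by simp)
    have h2 := Submodule.eq_of_le_of_finrank_le h1 (by rw [finrank_span_singleton hv]; omega)
    have h3 : u ∈ Submodule.span (ZMod 2) {v} := h2 ▸ Submodule.subset_span (by simp)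
    rcases mem_span_single.1 h3 with e | e
    exacts [hu e, hvu e.symm]
  have hd3 : 3 ≤ d := by omega
  obtain ⟨p, hp, hpdvd, hprim⟩ := Zsigmondy.exists_primitive (a := 2) (n := d) (by norm_num) (by omega)
    (fun h => hd6 h.2) (fun h => by omega)
  haveI : Fact p.Prime := ⟨hp⟩
  have hp2 : p ≠ 2 := by
    rintro rfl
    have := (Nat.Even.sub_odd Nat.one_le_two_pow (Nat.even_pow.2 ⟨even_two, by omega⟩) odd_one :
      Odd (2 ^ d - 1))
    exact (Nat.not_even_iff_odd.2 this) (even_iff_two_dvd.2 hpdvd)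
  -- elements of order `p` are trivial on `K`
  have hKtriv : ∀ g : M, g ^ p = 1 → φK g = 1 := by
    intro g hg
    have hit : ∀ x : K, (⇑(φK g))^[p] x = x := fun x => by
      rw [← coe_pow', ← map_pow, hg, map_one]; rfl
    exact LinearEquiv.ext (SpreadField.eq_id_of_fixed hp hp2 hprim (card_eq_two_pow (V := K))
      hsmall.le (φK g).toLinearMap.toAddMonoidHom hit (Or.inl hsmall))
  -- `p` divides the order of the stabiliser
  obtain ⟨x₀, hx₀⟩ : ∃ x₀, x₀ ∉ K := by
    by_contra hc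
    push Not at hc
    rw [show K = ⊤ from eq_top_iff.2 fun x _ => hc x, finrank_top] at hd
    omega
  have hpM : p ∣ Nat.card M := by
    letI : MulAction M V := MulAction.compHom V M.subtype
    have horb : ∀ y, y ∈ orbit M x₀ ↔ y ∉ K := by
      refine fun y => ⟨?_, fun hy => ?_⟩
      · rintro ⟨g, rfl⟩ h
        exact hx₀ ((g.2.2 x₀).1 h)
      · obtain ⟨g, hg, e⟩ := htr x₀ y hx₀ hy
        exact ⟨⟨g, hg⟩, e⟩
    have h := MulAction.index_stabilizer M x₀
    have hcard : (orbit M x₀).ncard =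
        2 ^ finrank (ZMod 2) K * (2 ^ d - 1) := by
      rw [show orbit M x₀ = (K : Set V)ᶜ from Set.ext horb, Set.ncard_compl, Nat.mul_sub, mul_one,
        ← pow_add, ← hd, ← card_eq_two_pow, ← card_eq_two_pow]
      rfl
    exact (hpdvd.mul_left _).trans ((h.trans hcard).symm.dvd.trans (Subgroup.index_dvd_card _))
  -- the pointwise stabiliser
  let N0 := φK.ker
  obtain ⟨g₀, hg₀⟩ := exists_prime_orderOf_dvd_card' (G := M) p hpM
  have hg₀N : g₀ ∈ N0 := hKtriv g₀ (by rw [← hg₀, pow_orderOf_eq_one])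
  obtain ⟨P⟩ : Nonempty (Sylow p N0) := inferInstance
  have hPne : Nontrivial (P : Subgroup N0) := by
    rw [← Finite.one_lt_card_iff_nontrivial]
    refine lt_of_lt_of_le hp.one_lt (Nat.le_of_dvd Nat.card_pos (P.dvd_card_of_dvd_card ?_))
    refine dvd_trans ?_ (orderOf_dvd_natCard (⟨g₀, hg₀N⟩ : N0))
    rw [Subgroup.orderOf_mk, hg₀]
  let P' : Subgroup M := (P : Subgroup N0).map N0.subtype
  haveI hcn := P.2.center_nontrivial
  obtain ⟨z₀, hz₀⟩ : ∃ z₀ : Subgroup.center (P : Subgroup N0), orderOf z₀ = p :=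
    exists_prime_orderOf_dvd_card' p (by
      obtain ⟨i, hi⟩ := IsPGroup.iff_card.1 (P.2.to_subgroup (Subgroup.center (P : Subgroup N0)))
      have : 1 < Nat.card (Subgroup.center (P : Subgroup N0)) := Finite.one_lt_card_iff_nontrivial.2 hcn
      rw [hi] at this ⊢
      exact dvd_pow_self _ (fun e => by simp [e] at this))
  let z : V ≃ₗ[ZMod 2] V := z₀.1.1.1.1
  have hzM : z ∈ M := z₀.1.1.1.2
  have hzP : (⟨z, hzM⟩ : M) ∈ P' := ⟨z₀.1.1, z₀.1.2, rfl⟩
  have hzK : ∀ x ∈ K, z x = x := kHom_eq_one.1 z₀.1.1.2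
  have hzcomm : ∀ h ∈ P', (⟨z, hzM⟩ : M) * h = h * ⟨z, hzM⟩ := by
    rintro _ ⟨y, hy, rfl⟩
    exact congrArg (fun t : (P : Subgroup N0) => t.1.1) ((Subgroup.mem_center_iff.1 z₀.2 ⟨y, hy⟩).symm)
  have hzord : orderOf z = p := by
    rw [← hz₀, ← Subgroup.orderOf_coe z₀, ← Subgroup.orderOf_coe z₀.1, ← Subgroup.orderOf_coe z₀.1.1,
      ← Subgroup.orderOf_coe z₀.1.1.1]
  have hzit : ∀ x, (⇑z)^[p] x = x := fun x => by
    rw [← coe_pow', ← hzord, pow_orderOf_eq_one]; rfl
  -- the commutator subspace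
  let δ : V →ₗ[ZMod 2] V := (z : V →ₗ[ZMod 2] V) - LinearMap.id
  have hδK : ∀ x, δ x ∈ K → x ∈ K := by
    intro x hx
    by_contra hxK
    haveI : Finite (V ⧸ K) := Finite.of_surjective _ K.mkQ_surjective
    have hzK' : K ≤ K.comap (z : V →ₗ[ZMod 2] V) := fun y hy => by
      show z y ∈ K
      rwa [hzK y hy]
    have hq : finrank (ZMod 2) (V ⧸ K) = d := by
      have := Submodule.finrank_quotient_add_finrank K
      omega
    have hit : ∀ q : V ⧸ K, (⇑(Submodule.mapQ K K (z : V →ₗ[ZMod 2] V) hzK').toAddMonoidHom)^[p] q = q := by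
      intro q
      obtain ⟨y, rfl⟩ := K.mkQ_surjective q
      have : ∀ n, (⇑(Submodule.mapQ K K (z : V →ₗ[ZMod 2] V) hzK').toAddMonoidHom)^[n] (K.mkQ y) =
          K.mkQ ((⇑z)^[n] y) := fun n => by
        induction n with
        | zero => rfl
        | succ n ih => rw [Function.iterate_succ_apply', Function.iterate_succ_apply', ih]; rfl
      rw [this, hzit]
    have hid := SpreadField.eq_id_of_fixed hp hp2 hprim (card_eq_two_pow (V := V ⧸ K)) hq.le
      (Submodule.mapQ K K (z : V →ₗ[ZMod 2] V) hzK').toAddMonoidHom hit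
      (Or.inr ⟨K.mkQ x, fun e => hxK ((Submodule.Quotient.mk_eq_zero K).1 e),
        (Submodule.Quotient.eq K).2 hx⟩)
    have hall : ∀ y, z y - y ∈ K := fun y => (Submodule.Quotient.eq K).1 (hid (K.mkQ y))
    have h2 : z ^ 2 = 1 := LinearEquiv.ext fun y => by
      show z (z y) = y
      have h1 : z (z y - y) = z y - y := hzK _ (hall y)
      rw [map_sub, sub_eq_iff_eq_add, sub_add_eq_add_sub, add_self, zero_sub, neg_eq] at h1
      exact h1
    have := orderOf_dvd_of_pow_eq_one h2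
    rw [hzord] at this
    exact hp2 ((Nat.prime_dvd_prime_iff_eq hp Nat.prime_two).1 this)
  have hker : LinearMap.ker δ = K := le_antisymm
    (fun x hx => hδK x (by rw [LinearMap.mem_ker.1 hx]; exact zero_mem K))
    (fun x hx => LinearMap.mem_ker.2 (show z x - x = 0 by rw [hzK x hx, sub_self]))
  let Z := LinearMap.range δ
  have hZdim : finrank (ZMod 2) Z = d := by
    have := δ.finrank_range_add_finrank_ker
    rw [hker] at this
    simp only [Z]
    omega
  have hinf : Z ⊓ K = ⊥ := eq_bot_iff.2 fun y hy => by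
    obtain ⟨x, rfl⟩ := hy.1
    rw [Submodule.mem_bot]
    exact LinearMap.mem_ker.1 (hker.symm ▸ hδK x hy.2)
  have hsup : Z ⊔ K = ⊤ := Submodule.eq_top_of_finrank_eq (by
    have := Submodule.finrank_sup_add_finrank_inf_eq Z K
    rw [hinf, finrank_bot, hZdim] at this
    omega)
  have hdec : ∀ x, ∃ y ∈ Z, ∃ k ∈ K, y + k = x := fun x =>
    Submodule.mem_sup.1 (hsup.symm ▸ Submodule.mem_top)
  have hinf0 : ∀ y ∈ Z, y ∈ K → y = 0 := fun y h1 h2 => by
    have h : y ∈ Z ⊓ K := ⟨h1, h2⟩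
    rwa [hinf, Submodule.mem_bot] at h
  have hinvK : ∀ (m : M), ∀ k ∈ K, m.1.symm k ∈ K := fun m k hk => ((m⁻¹ : M).2.2 k).2 hk
  have hzZ : ∀ x ∈ Z, z x ∈ Z := by
    rintro _ ⟨x, rfl⟩
    refine ⟨z x, ?_⟩
    show z (z x) - z x = z (z x - x)
    rw [map_sub]
  -- the normaliser of `P'` preserves `Z`
  let Nn : Subgroup M := Subgroup.normalizer (P' : Set M)
  have hNZ : ∀ n ∈ Nn, ∀ x, n.1 x ∈ Z ↔ x ∈ Z := by
    have key : ∀ n ∈ Nn, ∀ x ∈ Z, n.1 x ∈ Z := by
      intro n hn x hx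
      have hc : n * ⟨z, hzM⟩ * n⁻¹ ∈ P' := (Subgroup.mem_normalizer_iff.1 hn ⟨z, hzM⟩).1 hzP
      have hcK : φK (n * ⟨z, hzM⟩ * n⁻¹) = 1 := by
        rw [map_mul, map_mul, kHom_eq_one (g := (⟨z, hzM⟩ : M)) |>.2 hzK, mul_one, ← map_mul,
          mul_inv_cancel, map_one]
      let c : V ≃ₗ[ZMod 2] V := (n * ⟨z, hzM⟩ * n⁻¹ : M).1
      have hcZ : ∀ y, c y - y ∈ Z := by
        intro y
        obtain ⟨a, ⟨w, rfl⟩, k, hk, rfl⟩ := hdec y
        rw [map_add, kHom_eq_one.1 hcK k hk, add_sub_add_right_eq_sub]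
        refine ⟨c w - w, ?_⟩
        show z (c w - w) - (c w - w) = c (z w - w) - (z w - w)
        have := LinearEquiv.congr_fun (congrArg Subtype.val (hzcomm _ hc)) w
        change z (c w) = c (z w) at this
        rw [map_sub, map_sub, this]
        abel
      obtain ⟨w, rfl⟩ := hx
      have := hcZ (n.1 w)
      change n.1 (z (n.1.symm (n.1 w))) - n.1 w ∈ Z at this
      rw [n.1.symm_apply_apply, ← map_sub] at this
      exact this
    intro n hn x
    refine ⟨fun h => ?_, key n hn x⟩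
    have := key n⁻¹ (inv_mem hn) _ h
    rwa [show (n⁻¹ : M).1 (n.1 x) = x from n.1.symm_apply_apply x] at this
  let ψ : Nn →* (Z ≃ₗ[ZMod 2] Z) :=
    (restrictRep (ρ := MonoidHom.id (V ≃ₗ[ZMod 2] V)) Z).comp
      { toFun := fun n => ⟨n.1.1, hNZ n.1 n.2⟩
        map_one' := rfl
        map_mul' := fun _ _ => rfl }
  have hψ : ∀ (n : Nn) (x : Z), (ψ n x).1 = n.1.1 x.1 := fun _ _ => rfl
  let zN : Nn := ⟨⟨z, hzM⟩, Subgroup.le_normalizer hzP⟩
  have hprim' : Prim (ψ zN) p := by
    refine ⟨hp, hp2, orderOf_eq_prime ?_ ?_, by omega, fun j hj hj' => hprim j hj (hZdim ▸ hj')⟩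
    · rw [← map_pow]
      have : zN ^ p = 1 := Subtype.ext (Subtype.ext (show z ^ p = 1 by rw [← hzord, pow_orderOf_eq_one]))
      rw [this, map_one]
    · intro h
      have hz1 : z = 1 := LinearEquiv.ext fun x => by
        obtain ⟨a, ha, k, hk, rfl⟩ := hdec x
        rw [map_add, hzK k hk]
        show z a + k = a + k
        rw [show z a = a from congrArg Subtype.val (LinearEquiv.congr_fun h ⟨a, ha⟩)]
      rw [hz1, orderOf_one] at hzord
      exact hp.ne_one hzord.symm
  have hnorm : ∀ n : Nn, ψ n ∈ Prim.norm (ψ zN) := by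
    intro n
    refine hprim'.normal ?_
    simp only [← map_inv, ← map_mul]
    congr 1
    refine Subtype.ext ?_
    exact (hzcomm _ ((Subgroup.mem_normalizer_iff.1 n.2 ⟨z, hzM⟩).1 hzP)).symm
  -- Frattini
  have hfrat : ∀ g : M, ∃ n : Nn, φK n.1 = φK g := by
    intro g
    have h := Sylow.normalizer_sup_eq_top P
    have hg : g ∈ Subgroup.normalizer (P' : Set M) ⊔ N0 := by
      show g ∈ Subgroup.normalizer (((P : Subgroup N0).map N0.subtype : Subgroup M) : Set M) ⊔ N0
      rw [h]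
      exact Subgroup.mem_top g
    obtain ⟨n, hn, k, hk, rfl⟩ := Subgroup.mem_sup_of_normal_right.1 hg
    exact ⟨⟨n, hn⟩, by rw [map_mul, MonoidHom.mem_ker.1 hk, mul_one]⟩
  by_cases hK2 : finrank (ZMod 2) K = 2
  · have hKspan : ∀ x ∈ K, x ∈ Submodule.span (ZMod 2) {v, u} := by
      have h : Submodule.span (ZMod 2) {v, u} ≤ K := Submodule.span_le.2 (by
        rintro x (rfl | rfl) <;> assumption)
      have heq := Submodule.eq_of_le_of_finrank_le h (by
        rw [hK2]
        by_contra hcon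
        have h2 := Submodule.eq_of_le_of_finrank_le
          (Submodule.span_mono (show ({v} : Set V) ⊆ {v, u} by simp) :
            Submodule.span (ZMod 2) {v} ≤ Submodule.span (ZMod 2) {v, u})
          (by rw [finrank_span_singleton hv]; omega)
        have h3 : u ∈ Submodule.span (ZMod 2) {v} := h2 ▸ Submodule.subset_span (by simp)
        rcases mem_span_single.1 h3 with e | e
        exacts [hu e, hvu e.symm])
      exact fun x hx => heq.symm ▸ hx
    obtain ⟨g, hgX, gv, gu, -⟩ := hX.swap hv hu hvu (x := x₀) (fun h => hx₀ (Submodule.span_le.2 (by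
      rintro x (rfl | rfl) <;> assumption) h))
    have hgM : g ∈ M := ⟨hgX, mem_subStab_of fun x hx => by
      show g x ∈ K
      rcases mem_span_two.1 (hKspan x hx) with rfl | rfl | rfl | rfl
      · simp
      · rw [gv]; exact huK
      · rw [gu]; exact hvK
      · rw [map_add, gv, gu]; exact add_mem huK hvK⟩
    obtain ⟨n, hn⟩ := hfrat ⟨g, hgM⟩
    obtain ⟨i, m, hm, hnm⟩ := Nat.exists_eq_pow_mul_and_not_dvd (orderOf_pos n).ne' 2 (by norm_num)
    let n' := n ^ m
    obtain ⟨l, hl⟩ : Odd m := Nat.not_even_iff_odd.1 fun h => hm h.two_dvd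
    have hgg : φK ⟨g, hgM⟩ * φK ⟨g, hgM⟩ = 1 := LinearEquiv.ext fun x => Subtype.ext (by
      show g (g x.1) = x.1
      rcases mem_span_two.1 (hKspan x.1 x.2) with h | h | h | h <;> rw [h]
      · simp
      · rw [gv, gu]
      · rw [gu, gv]
      · rw [map_add, gv, gu, map_add, gv, gu])
    have hn' : φK n'.1 = φK ⟨g, hgM⟩ := by
      show φK (n ^ m : Nn).1 = _
      rw [SubgroupClass.coe_pow, map_pow, hn, hl, pow_succ, pow_mul, pow_two, hgg, one_pow, one_mul]
    have hcomm := hprim'.norm_pow (hnorm n')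
    have hone := hprim'.pow_card hcomm
    rw [← pow_mul, hZdim] at hone
    have h2 : ψ n' ^ 2 ^ i = 1 := by
      rw [← map_pow, ← pow_mul, mul_comm, ← hnm, pow_orderOf_eq_one, map_one]
    have hcop : Nat.gcd (2 ^ i) (d * (2 ^ d - 1)) = 1 := by
      refine Nat.Coprime.pow_left i ?_
      rw [Nat.coprime_two_left]
      exact (hline hK2).mul (Nat.Even.sub_odd Nat.one_le_two_pow (Nat.even_pow.2 ⟨even_two, by omega⟩) odd_one)
    have hψ1 : ψ n' = 1 := by
      have := pow_gcd_eq_one.2 ⟨h2, hone⟩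
      rwa [hcop, pow_one] at this
    refine ⟨n'.1.1, n'.1.2.1, fun e => ?_, v + u, exists_tv (fun e => hvu (add_eq_zero_iff'.1 e)) ?_⟩
    · have h1 : g v = v := by
        have := congrArg Subtype.val (LinearEquiv.congr_fun hn' ⟨v, hvK⟩)
        change n'.1.1 v = g v at this
        rw [← this, e]; rfl
      exact hvu (gv ▸ h1.symm)
    · intro x
      obtain ⟨a, ha, k, hk, rfl⟩ := hdec x
      have hk' : n'.1.1 k = g k := congrArg Subtype.val (LinearEquiv.congr_fun hn' ⟨k, hk⟩)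
      have ha' : n'.1.1 a = a := by
        rw [← hψ n' ⟨a, ha⟩, hψ1]; rfl
      rw [map_add, ha', hk', add_sub_add_left_eq_sub]
      rcases mem_span_two.1 (hKspan k hk) with h | h | h | h <;> rw [h]
      · exact Or.inl (by simp)
      · exact Or.inr (by rw [gv, sub_eq_add', add_comm])
      · exact Or.inr (by rw [gu, sub_eq_add'])
      · exact Or.inl (by rw [map_add, gv, gu, sub_eq_add', add_comm u v, add_self])
  · -- elements trivial on `Z`
    let Tri : V → V → V → Nn → Prop := fun a b c n => n.1.1 a = a ∧ n.1.1 b = b ∧ n.1.1 c = c + a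
    have hE : ∀ a b c : V, a ∈ K → b ∈ K → c ∈ K → a ≠ 0 → b ≠ 0 → a ≠ b →
        c ∉ Submodule.span (ZMod 2) {a, b} → ∃ n : Nn, Tri a b c n := by
      intro a b c ha hb hc ha0 hb0 hab hc'
      obtain ⟨g, hg, ga, gb, gc⟩ := hX.elation ha0 hb0 hab hc'
      obtain ⟨n, hn⟩ := hfrat ⟨g, hfix g hg a ha b hb ha0 hb0 hab ga gb⟩
      refine ⟨n, ?_, ?_, ?_⟩
      · exact (congrArg Subtype.val (LinearEquiv.congr_fun hn ⟨a, ha⟩)).trans ga
      · exact (congrArg Subtype.val (LinearEquiv.congr_fun hn ⟨b, hb⟩)).trans gb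
      · exact (congrArg Subtype.val (LinearEquiv.congr_fun hn ⟨c, hc⟩)).trans gc
    -- one commutator step
    have hstep : ∀ P₀ : Nn → Prop,
        (∀ a b c : V, a ∈ K → b ∈ K → c ∈ K → a ≠ 0 → b ≠ 0 → a ≠ b →
          c ∉ Submodule.span (ZMod 2) {a, b} → ∃ n, Tri a b c n ∧ P₀ n) →
        ∀ a b c : V, a ∈ K → b ∈ K → c ∈ K → a ≠ 0 → b ≠ 0 → a ≠ b →
          c ∉ Submodule.span (ZMod 2) {a, b} →
          ∃ n, Tri a b c n ∧ ∃ x y, P₀ x ∧ P₀ y ∧ n = x * y * x⁻¹ * y⁻¹ := by
      intro P₀ h a b c ha hb hc ha0 hb0 hab hc'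
      obtain ⟨hc0, hca, hcb⟩ := ne_pair hc'
      have hb' : b ∉ Submodule.span (ZMod 2) {a, c} := fun h' => by
        rcases mem_span_two.1 h' with e | e | e | e
        · exact hb0 e
        · exact hab e.symm
        · exact hcb e.symm
        · exact hc' (mem_span_two.2 (Or.inr (Or.inr (Or.inr (by rw [e, ← add_assoc, add_self, zero_add])))))
      obtain ⟨x, ⟨xa, xc, xb⟩, hx⟩ := h a c b ha hc hb ha0 hc0 (Ne.symm hca) hb'
      obtain ⟨y, ⟨yb, ya, yc⟩, hy⟩ := h b a c hb ha hc hb0 ha0 (Ne.symm hab) (by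
        rwa [Set.pair_comm])
      refine ⟨x * y * x⁻¹ * y⁻¹, ?_, x, y, hx, hy, rfl⟩
      have inv : ∀ (n : Nn) (q : V), n.1.1 q = q → n.1.1.symm q = q := fun n q e => by
        rw [LinearEquiv.symm_apply_eq, e]
      have xb' : x.1.1.symm b = b + a := by
        rw [LinearEquiv.symm_apply_eq, map_add, xb, xa, add_assoc, add_self, add_zero]
      have yc' : y.1.1.symm c = c + b := by
        rw [LinearEquiv.symm_apply_eq, map_add, yc, yb, add_assoc, add_self, add_zero]
      refine ⟨?_, ?_, ?_⟩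
      · show x.1.1 (y.1.1 (x.1.1.symm (y.1.1.symm a))) = a
        rw [inv y a ya, inv x a xa, ya, xa]
      · show x.1.1 (y.1.1 (x.1.1.symm (y.1.1.symm b))) = b
        rw [inv y b yb, xb', map_add, yb, ya, map_add, xb, xa, add_assoc, add_self, add_zero]
      · show x.1.1 (y.1.1 (x.1.1.symm (y.1.1.symm c))) = c + a
        rw [yc', map_add, inv x c xc, xb', map_add y.1.1 c, map_add y.1.1 b, yc, yb, ya,
          show c + b + (b + a) = c + a by rw [add_assoc, ← add_assoc b b a, add_self, zero_add],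
          map_add, xc, xa]
    -- twice: trivial on `Z`
    have hD : ∀ a b : V, a ∈ K → b ∈ K → a ≠ 0 → b ≠ 0 → a ≠ b →
        ∃ n : Nn, n.1.1 a = a ∧ n.1.1 b ≠ b ∧ ∀ x ∈ Z, n.1.1 x = x := by
      intro a b ha hb ha0 hb0 hab
      obtain ⟨c, hc, hcs⟩ : ∃ c ∈ K, c ∉ Submodule.span (ZMod 2) {a, b} := by
        by_contra hcon
        push Not at hcon
        have h1 := Submodule.finrank_mono (show K ≤ Submodule.span (ZMod 2) {a, b} from hcon)
        have h2 : finrank (ZMod 2) (Submodule.span (ZMod 2) {a, b}) ≤ 2 := by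
          rw [Submodule.span_insert]
          have := Submodule.finrank_sup_add_finrank_inf_eq (Submodule.span (ZMod 2) {a})
            (Submodule.span (ZMod 2) {b})
          rw [finrank_span_singleton ha0, finrank_span_singleton hb0] at this
          omega
        omega
      obtain ⟨hc0, hca, hcb⟩ := ne_pair hcs
      have hb' : b ∉ Submodule.span (ZMod 2) {c, a} := fun h' => by
        rcases mem_span_two.1 h' with e | e | e | e
        · exact hb0 e
        · exact hcb e.symm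
        · exact hab e.symm
        · exact hcs (mem_span_two.2 (Or.inr (Or.inr (Or.inr (by
            rw [e, add_comm c a, ← add_assoc, add_self, zero_add])))))
      obtain ⟨n, ⟨nc, na, nb⟩, x, y, ⟨x1, y1, -, -, hx⟩, ⟨x2, y2, -, -, hy⟩, rfl⟩ :=
        hstep _ (fun a b c ha hb hc h1 h2 h3 h4 => hstep (fun _ => True)
          (fun a b c ha hb hc h1 h2 h3 h4 => (hE a b c ha hb hc h1 h2 h3 h4).imp fun n hn => ⟨hn, trivial⟩)
          a b c ha hb hc h1 h2 h3 h4) c a b hc ha hb hc0 ha0 hca hb'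
      refine ⟨_, na, fun e => hc0 (add_eq_left.1 (nb.symm.trans e)), fun w hw => ?_⟩
      have hcx : ψ x * ψ zN = ψ zN * ψ x := by
        rw [hx]; simp only [map_mul, map_inv]
        exact hprim'.norm_comm (hnorm x1) (hnorm y1)
      have hcy : ψ y * ψ zN = ψ zN * ψ y := by
        rw [hy]; simp only [map_mul, map_inv]
        exact hprim'.norm_comm (hnorm x2) (hnorm y2)
      have hxy : ψ x * ψ y = ψ y * ψ x := LinearEquiv.ext fun q => LinearMap.congr_fun
        (hprim'.comm (Prim.coe_mem_cent hcx) (Prim.coe_mem_cent hcy)) q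
      have h1 : ψ (x * y * x⁻¹ * y⁻¹) = 1 := by
        rw [map_mul, map_mul, map_mul, map_inv, map_inv, hxy, mul_inv_cancel_right, mul_inv_cancel]
      rw [← hψ _ ⟨w, hw⟩, h1]; rfl
    -- an element of `N0` not preserving `Z`
    obtain ⟨g, hgK, x₁, hx₁, hgx⟩ : ∃ g : M, φK g = 1 ∧ ∃ x ∈ Z, g.1 x ∉ Z := by
      by_contra hcon
      push Not at hcon
      have hall : ∀ (g : M), ∀ x ∈ Z, g.1 x ∈ Z := by
        intro g x hx
        obtain ⟨n, hn⟩ := hfrat g
        have := hcon (g * n.1⁻¹) (by rw [map_mul, map_inv, hn, mul_inv_cancel]) _ ((hNZ _ n.2 x).2 hx)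
        rwa [show (g * n.1⁻¹ : M).1 (n.1.1 x) = g.1 x by
          show g.1 (n.1.1.symm (n.1.1 x)) = g.1 x
          rw [n.1.1.symm_apply_apply]] at this
      have hvs : v ∉ Z ⊔ Submodule.span (ZMod 2) {u} := by
        intro h
        obtain ⟨a, ha, k, hk, e⟩ := Submodule.mem_sup.1 h
        have hkK : k ∈ K := (Submodule.span_singleton_le_iff_mem _ _).2 huK hk
        have ha0 : a = 0 := hinf0 a ha (by
          rw [← add_sub_cancel_right a k, e]; exact sub_mem hvK hkK)
        rw [ha0, zero_add] at e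
        rcases mem_span_single.1 hk with h | h
        exacts [hv (e ▸ h), hvu (e ▸ h)]
      obtain ⟨f₀, hf₀v, hf₀⟩ := exists_dual_eq_one hvs
      obtain ⟨z₁, hz₁, hz₁0⟩ := Submodule.exists_mem_ne_zero_of_ne_bot (p := Z) fun e => by
        rw [e, finrank_bot] at hZdim
        omega
      obtain ⟨φ, hφz, hφK⟩ := exists_dual_eq_one (x := z₁) (U := K) fun h =>
        hz₁0 (hinf0 z₁ hz₁ h)
      have hf₀u : f₀ u = 0 := hf₀ u (Submodule.mem_sup_right (Submodule.mem_span_singleton_self u))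
      obtain ⟨k, hk, kv, ku, hkx⟩ := hX.class_trans hv hu hvu (f := f₀ + φ) (f' := f₀)
        (by rw [LinearMap.add_apply, hφK v hvK, add_zero])
        (by rw [LinearMap.add_apply, hφK u huK, add_zero])
        (Or.inl (by rw [LinearMap.add_apply, hφK v hvK, add_zero, hf₀v]; exact one_ne_zero))
      have := hkx z₁
      rw [hf₀ _ (Submodule.mem_sup_left (hall ⟨k, hfix k hk v hvK u huK hv hu hvu kv ku⟩ z₁ hz₁)),
        LinearMap.add_apply, hf₀ z₁ (Submodule.mem_sup_left hz₁), hφz, zero_add] at this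
      exact zero_ne_one this
    -- elements trivial on `K` and on the quotient
    let E : Set (V ≃ₗ[ZMod 2] V) := {e | e ∈ X ∧ e ≠ 1 ∧ (∀ k ∈ K, e k = k) ∧ ∀ x, e x - x ∈ K}
    obtain ⟨a₁, ha₁, k₁, hk₁, hdec₁⟩ := hdec (g.1 x₁)
    have hk₁0 : k₁ ≠ 0 := fun e => hgx (by rw [← hdec₁, e, add_zero]; exact ha₁)
    have hne : E.Nonempty := by
      obtain ⟨b, hb, hb0, hbk⟩ : ∃ b ∈ K, b ≠ 0 ∧ b ≠ k₁ := by
        by_contra hcon
        push Not at hcon
        have h1 := Submodule.finrank_mono (show K ≤ Submodule.span (ZMod 2) {k₁} from fun b hb => by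
          by_cases h : b = 0
          · exact h ▸ zero_mem _
          · rw [hcon b hb h]; exact Submodule.mem_span_singleton_self k₁)
        rw [finrank_span_singleton hk₁0] at h1
        omega
      obtain ⟨w, -, hwk, hwZ⟩ := hD b k₁ hb hk₁ hb0 hk₁0 hbk
      have hw : ∀ x ∈ K, w.1.1 x ∈ K := fun x hx => ((w.1.2.2 x).2 hx)
      have hgK' := kHom_eq_one.1 hgK
      have hgK'' : ∀ k ∈ K, g.1.symm k = k := fun k hk => by
        rw [LinearEquiv.symm_apply_eq, hgK' k hk]
      have hws : ∀ x ∈ Z, w.1.1.symm x = x := fun x hx => by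
        rw [LinearEquiv.symm_apply_eq, hwZ x hx]
      refine ⟨w.1.1 * g.1 * w.1.1⁻¹ * g.1⁻¹,
        mul_mem (mul_mem (mul_mem w.1.2.1 g.2.1) (inv_mem w.1.2.1)) (inv_mem g.2.1), ?_, ?_, ?_⟩
      · intro e
        have h := LinearEquiv.congr_fun e (g.1 x₁)
        change w.1.1 (g.1 (w.1.1.symm (g.1.symm (g.1 x₁)))) = g.1 x₁ at h
        rw [g.1.symm_apply_apply, hws x₁ hx₁, ← hdec₁, map_add, hwZ a₁ ha₁] at h
        exact hwk (add_left_cancel h)
      · intro k hk
        show w.1.1 (g.1 (w.1.1.symm (g.1.symm k))) = k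
        rw [hgK'' k hk, hgK' _ (hinvK w.1 k hk), w.1.1.apply_symm_apply]
      · intro x
        show w.1.1 (g.1 (w.1.1.symm (g.1.symm x))) - x ∈ K
        obtain ⟨a, ha, k, hk, hak⟩ := hdec (g.1.symm x)
        have hwk' : w.1.1.symm k ∈ K := hinvK w.1 k hk
        have hx : x = g.1 a + k := by
          rw [← hgK' k hk, ← map_add, hak, g.1.apply_symm_apply]
        rw [← hak, map_add, hws a ha, map_add, hgK' _ hwk', map_add, w.1.1.apply_symm_apply, hx,
          add_sub_add_right_eq_sub]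
        obtain ⟨a', ha', k', hk', hak'⟩ := hdec (g.1 a)
        rw [← hak', map_add, hwZ a' ha', add_sub_add_left_eq_sub]
        exact sub_mem (hw k' hk') hk'
    let rk : (V ≃ₗ[ZMod 2] V) → ℕ := fun e =>
      finrank (ZMod 2) (LinearMap.range ((e : V →ₗ[ZMod 2] V) - LinearMap.id))
    obtain ⟨e, ⟨heX, he1, heK, heq⟩, hmin⟩ := Set.exists_min_image E rk (Set.toFinite _) hne
    let δe : V →ₗ[ZMod 2] V := (e : V →ₗ[ZMod 2] V) - LinearMap.id
    obtain ⟨a, ⟨q, hq⟩, ha0⟩ := Submodule.exists_mem_ne_zero_of_ne_bot (p := LinearMap.range δe) fun h =>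
      he1 (LinearEquiv.ext fun x => sub_eq_zero.1
        ((Submodule.mem_bot (ZMod 2)).1 (h ▸ ⟨x, rfl⟩ : δe x ∈ (⊥ : Submodule (ZMod 2) V))))
    refine ⟨e, heX, he1, a, exists_tv ha0 fun x => ?_⟩
    by_contra hcon
    rw [not_or] at hcon
    have haK : a ∈ K := hq ▸ heq q
    obtain ⟨d', hd'a, hd'b, hd'Z⟩ := hD a (e x - x) haK (heq x) ha0 hcon.1 (Ne.symm hcon.2)
    have hd'K : ∀ y, d'.1.1.symm y - y ∈ K := by
      intro y
      obtain ⟨b, hb, k, hk, rfl⟩ := hdec y
      have h1 : d'.1.1.symm b = b := by rw [LinearEquiv.symm_apply_eq, hd'Z b hb]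
      rw [map_add, h1, add_sub_add_left_eq_sub]
      exact sub_mem (hinvK d'.1 k hk) hk
    have hδ : ∀ y, e y = y + δe y := fun y => by
      show e y = y + (e y - y)
      abel
    have hconj : ∀ y, d'.1.1 (e (d'.1.1.symm y)) = y + d'.1.1 (δe y) := by
      intro y
      have : δe (d'.1.1.symm y) = δe y := by
        have h := heK _ (hd'K y)
        rw [map_sub, sub_eq_sub_iff_sub_eq_sub] at h
        exact h
      rw [hδ, this, map_add, d'.1.1.apply_symm_apply]
    let e' : V ≃ₗ[ZMod 2] V := e * (d'.1.1 * e * d'.1.1⁻¹)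
    have he' : ∀ y, e' y = y + (δe y + d'.1.1 (δe y)) := fun y => by
      show e (d'.1.1 (e (d'.1.1.symm y))) = _
      rw [hconj, map_add, heK (d'.1.1 (δe y)) ((d'.1.2.2 _).2 (heq y)), hδ, add_assoc]
    have hmem : e' ∈ E := by
      refine ⟨mul_mem heX (mul_mem (mul_mem d'.1.2.1 heX) (inv_mem d'.1.2.1)), fun h => hd'b ?_,
        fun k hk => ?_, fun y => ?_⟩
      · have := LinearEquiv.congr_fun h x
        rw [he'] at this
        exact (add_eq_zero_iff'.1 (add_eq_left.1 this)).symm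
      · rw [he', show δe k = 0 from sub_eq_zero.2 (heK k hk), map_zero, add_zero, add_zero]
      · rw [he', add_sub_cancel_left]
        exact add_mem (heq y) ((d'.1.2.2 _).2 (heq y))
    let L : V →ₗ[ZMod 2] V := LinearMap.id + (d'.1.1 : V →ₗ[ZMod 2] V)
    have hrange : LinearMap.range ((e' : V →ₗ[ZMod 2] V) - LinearMap.id) =
        (LinearMap.range δe).map L := by
      rw [← LinearMap.range_comp]
      congr 1
      refine LinearMap.ext fun y => ?_
      show e' y - y = δe y + d'.1.1 (δe y)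
      rw [he', add_sub_cancel_left]
    have hlt : rk e' < rk e := by
      show finrank (ZMod 2) (LinearMap.range ((e' : V →ₗ[ZMod 2] V) - LinearMap.id)) <
        finrank (ZMod 2) (LinearMap.range δe)
      rw [hrange]
      have h := (L.domRestrict (LinearMap.range δe)).finrank_range_add_finrank_ker
      rw [show LinearMap.range (L.domRestrict (LinearMap.range δe)) = (LinearMap.range δe).map L by
        rw [LinearMap.range_eq_map, LinearMap.domRestrict, Submodule.map_comp, Submodule.map_top,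
          Submodule.range_subtype]] at h
      have hpos : 0 < finrank (ZMod 2) (LinearMap.ker (L.domRestrict (LinearMap.range δe))) := by
        refine Module.finrank_pos_iff_exists_ne_zero.2 ⟨⟨⟨a, q, hq⟩, ?_⟩, fun h => ha0 ?_⟩
        · rw [LinearMap.mem_ker]
          show a + d'.1.1 a = 0
          rw [hd'a, add_self]
        · exact congrArg (fun t => t.1.1) h
      omega
    exact absurd (hmin e' hmem) (not_le.2 hlt)

end TwoTrans

end Cfsg.Agent.SingerTransitive
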