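import Cfsg.Agent.Lib.SingerTransitive.Chain
import Cfsg.Agent.Lib.SingerTransitive.Frattini

/-!
# From the quotient by a vector back to the space

* `quotRep`, `TwoTrans.flag`: the stabiliser of a vector on the quotient
* `lift_dvd`: the blocks give a design, so `k + 1` divides the number of blocks per dimension
* `TwoTrans.exists_tv`: a 2-transitive group in prime dimension at least five contains a transvection
-/

set_option autoImplicit false

namespace Cfsg.Agent.SingerTransitive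

open Module MulAction

variable {V : Type*} [AddCommGroup V] [Module (ZMod 2) V] [Finite V]

instance finite_quot (U : Submodule (ZMod 2) V) : Finite (V ⧸ U) :=
  Finite.of_surjective _ U.mkQ_surjective

/-- The line of a vector. -/
abbrev line (v : V) : Submodule (ZMod 2) V := Submodule.span (ZMod 2) {v}

/-- The stabiliser of a vector acting on the quotient by it. -/
def quotRep (X : Subgroup (V ≃ₗ[ZMod 2] V)) (v : V) :
    pStab X v →* ((V ⧸ line v) ≃ₗ[ZMod 2] (V ⧸ line v)) where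
  toFun g := Submodule.Quotient.equiv (line v) (line v) g.1 (by
    rw [line, Submodule.map_span, Set.image_singleton]
    exact congrArg (fun w => Submodule.span (ZMod 2) {w}) g.2.2)
  map_one' := LinearEquiv.ext fun q => by
    obtain ⟨x, rfl⟩ := (line v).mkQ_surjective q
    rfl
  map_mul' a b := LinearEquiv.ext fun q => by
    obtain ⟨x, rfl⟩ := (line v).mkQ_surjective q
    rfl

omit [Finite V] in
theorem quotRep_mk (X : Subgroup (V ≃ₗ[ZMod 2] V)) (v : V) (g : pStab X v) (x : V) :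
    quotRep X v g ((line v).mkQ x) = (line v).mkQ (g.1 x) := rfl

omit [Finite V] in
theorem mkQ_eq_iff {v x y : V} : (line v).mkQ x = (line v).mkQ y ↔ x = y ∨ x = y + v := by
  rw [show ((line v).mkQ x = (line v).mkQ y) ↔ x - y ∈ line v from Submodule.Quotient.eq _,
    mem_span_single, sub_eq_zero, sub_eq_iff_eq_add, add_comm v y]

omit [Finite V] in
theorem mkQ_eq_zero {v x : V} : (line v).mkQ x = 0 ↔ x = 0 ∨ x = v := by
  rw [show ((line v).mkQ x = 0) ↔ x ∈ line v from Submodule.Quotient.mk_eq_zero _, mem_span_single]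

omit [Finite V] in
theorem mkQ_self (v : V) : (line v).mkQ v = 0 := mkQ_eq_zero.2 (Or.inr rfl)

theorem finrank_comap_mkQ {v : V} (hv : v ≠ 0) (U : Submodule (ZMod 2) (V ⧸ line v)) :
    finrank (ZMod 2) (U.comap (line v).mkQ) = finrank (ZMod 2) U + 1 := by
  have h := ((line v).mkQ.domRestrict (U.comap (line v).mkQ)).finrank_range_add_finrank_ker
  have h1 : LinearMap.range ((line v).mkQ.domRestrict (U.comap (line v).mkQ)) = U := by
    rw [LinearMap.range_eq_map, LinearMap.domRestrict, Submodule.map_comp, Submodule.map_top,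
      Submodule.range_subtype, Submodule.map_comap_eq_of_surjective (line v).mkQ_surjective]
  have h2 : finrank (ZMod 2) (LinearMap.ker ((line v).mkQ.domRestrict (U.comap (line v).mkQ))) = 1 := by
    rw [LinearMap.domRestrict, LinearMap.ker_comp, Submodule.ker_mkQ]
    have hle : line v ≤ U.comap (line v).mkQ := fun x hx => by
      rw [Submodule.mem_comap, show (line v).mkQ x = 0 from (Submodule.Quotient.mk_eq_zero _).2 hx]
      exact zero_mem U
    rw [LinearEquiv.finrank_eq (Submodule.comapSubtypeEquivOfLe hle), finrank_span_singleton hv]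
  rw [h1, h2] at h
  omega

namespace TwoTrans

variable {X : Subgroup (V ≃ₗ[ZMod 2] V)}

theorem flag (hX : TwoTrans X) {v : V} (hv : v ≠ 0) : Flag (quotRep X v) := by
  have hfin : finrank (ZMod 2) (V ⧸ line v) + 1 = finrank (ZMod 2) V := by
    have := Submodule.finrank_quotient_add_finrank (line v)
    rw [show finrank (ZMod 2) (line v) = 1 from finrank_span_singleton hv] at this
    exact this
  have h3 := hX.three_le
  refine ⟨Module.nontrivial_of_finrank_pos (R := ZMod 2) (by omega), fun x y hx hy => ?_,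
    fun p hp f f' hf hf' => ?_⟩
  · obtain ⟨a, rfl⟩ := (line v).mkQ_surjective x
    obtain ⟨b, rfl⟩ := (line v).mkQ_surjective y
    rw [Ne, mkQ_eq_zero, not_or] at hx hy
    obtain ⟨g, hg, gv, ga⟩ := hX.trans v a v b hv hx.1 (Ne.symm hx.2) hv hy.1 (Ne.symm hy.2)
    exact ⟨⟨g, hg, gv⟩, congrArg (line v).mkQ ga⟩
  · obtain ⟨u, rfl⟩ := (line v).mkQ_surjective p
    rw [Ne, mkQ_eq_zero, not_or] at hp
    obtain ⟨g, hg, gv, gu, hgx⟩ := hX.class_trans hv hp.1 (Ne.symm hp.2)
      (f := f.comp (line v).mkQ) (f' := f'.comp (line v).mkQ)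
      (by show f ((line v).mkQ v) = f' ((line v).mkQ v); rw [mkQ_self, map_zero, map_zero])
      (by show f ((line v).mkQ u) = f' ((line v).mkQ u); rw [hf, hf'])
      (Or.inr (by show f ((line v).mkQ u) ≠ 0; rw [hf]; exact one_ne_zero))
    refine ⟨⟨g, hg, gv⟩, congrArg (line v).mkQ gu, fun q => ?_⟩
    obtain ⟨x, rfl⟩ := (line v).mkQ_surjective q
    exact hgx x

end TwoTrans

/-- The spread into points. -/
noncomputable def pointSpread {G : Type*} [Group G] {W : Type*} [AddCommGroup W] [Module (ZMod 2) W]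
    (ρ : G →* (W ≃ₗ[ZMod 2] W)) : Spread ρ where
  k := 1
  blk p := Submodule.span (ZMod 2) {p}
  zero' := Submodule.span_zero_singleton (R := ZMod 2)
  mem p := Submodule.mem_span_singleton_self p
  eq_of_mem p q hq h := by rw [(mem_span_single.1 h).resolve_left hq]
  dim p hp := finrank_span_singleton hp
  equiv g p x := by
    rw [mem_span_single, mem_span_single, LinearEquiv.map_eq_zero_iff, (ρ g).injective.eq_iff]
  closed p q r h := (Submodule.span_singleton_le_iff_mem _ _).2 h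

theorem dvd_of_pow_sub_one_dvd {a b : ℕ} (h : 2 ^ a - 1 ∣ 2 ^ b - 1) : a ∣ b := by
  have h1 := Nat.gcd_eq_left h
  rw [Nat.pow_sub_one_gcd_pow_sub_one] at h1
  have h2 : a.gcd b = a := Nat.pow_right_injective (le_refl 2) (by
    have := Nat.one_le_two_pow (n := a)
    have := Nat.one_le_two_pow (n := a.gcd b)
    dsimp only
    omega)
  exact h2 ▸ Nat.gcd_dvd_right a b

namespace TwoTrans

variable {X : Subgroup (V ≃ₗ[ZMod 2] V)}

/-- The preimages of blocks form an invariant design. -/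
theorem exists_design (hX : TwoTrans X) {v : V} (hv : v ≠ 0) (σ : Spread (quotRep X v)) :
    ∃ K : V → V → Submodule (ZMod 2) V,
      (∀ a b, a ≠ 0 → a ∈ K a b ∧ b ∈ K a b) ∧
      (∀ a b, a ≠ 0 → b ≠ 0 → a ≠ b → finrank (ZMod 2) (K a b) = σ.k + 1) ∧
      (∀ a b x y, a ≠ 0 → b ≠ 0 → a ≠ b → x ∈ K a b → y ∈ K a b → x ≠ 0 → y ≠ 0 → x ≠ y →
        K x y = K a b) ∧
      (∀ g ∈ X, ∀ a b c, a ≠ 0 → (g c ∈ K (g a) (g b) ↔ c ∈ K a b)) ∧
      (∀ b c, c ∈ K v b ↔ (line v).mkQ c ∈ σ.blk ((line v).mkQ b)) := by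
  classical
  choose γ hγ using fun a : V => show ∃ g : V ≃ₗ[ZMod 2] V, a ≠ 0 → g ∈ X ∧ g a = v from
    if h : a = 0 then ⟨1, fun h' => absurd h h'⟩
    else ⟨(hX.trans_one h hv).choose, fun _ => (hX.trans_one h hv).choose_spec⟩
  let K : V → V → Submodule (ZMod 2) V := fun a b =>
    ((σ.blk ((line v).mkQ (γ a b))).comap (line v).mkQ).comap (γ a : V →ₗ[ZMod 2] V)
  have hK : ∀ a b c, c ∈ K a b ↔ (line v).mkQ (γ a c) ∈ σ.blk ((line v).mkQ (γ a b)) := fun _ _ _ => Iff.rfl
  have hKeq : ∀ a, a ≠ 0 → ∀ g ∈ X, g a = v → ∀ b c,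
      (c ∈ K a b ↔ (line v).mkQ (g c) ∈ σ.blk ((line v).mkQ (g b))) := by
    intro a ha g hg hga b c
    have hm : g * (γ a)⁻¹ ∈ pStab X v := ⟨X.mul_mem hg (X.inv_mem (hγ a ha).1), by
      show g ((γ a).symm v) = v
      rw [show (γ a).symm v = a by rw [LinearEquiv.symm_apply_eq, (hγ a ha).2], hga]⟩
    rw [hK, ← σ.equiv ⟨_, hm⟩]
    simp only [quotRep_mk]
    show (line v).mkQ (g ((γ a).symm (γ a c))) ∈ σ.blk ((line v).mkQ (g ((γ a).symm (γ a b)))) ↔ _
    rw [LinearEquiv.symm_apply_apply, LinearEquiv.symm_apply_apply]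
  have hmem : ∀ a b, a ≠ 0 → a ∈ K a b ∧ b ∈ K a b := fun a b ha =>
    ⟨by rw [hK, (hγ a ha).2, mkQ_self]; exact zero_mem _, (hK a b b).2 (σ.mem _)⟩
  have hnz : ∀ a b, a ≠ 0 → b ≠ 0 → a ≠ b → (line v).mkQ (γ a b) ≠ 0 := by
    intro a b ha hb hab
    rw [Ne, mkQ_eq_zero]
    rintro (h | h)
    · exact hb ((γ a).map_eq_zero_iff.1 h)
    · exact hab ((γ a).injective (by rw [(hγ a ha).2, h]))
  have hsame : ∀ a b c, a ≠ 0 → c ≠ 0 → a ≠ c → c ∈ K a b → K a c = K a b := fun a b c ha hc hac hcb => by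
    simp only [K]
    rw [σ.eq_of_mem _ _ (hnz a c ha hc hac) hcb]
  have hsymm : ∀ a b, a ≠ 0 → b ≠ 0 → a ≠ b → K a b = K b a := by
    suffices key : ∀ a b, a ≠ 0 → b ≠ 0 → a ≠ b → K a b ≤ K b a from
      fun a b ha hb hab => le_antisymm (key a b ha hb hab) (key b a hb ha hab.symm)
    intro a b ha hb hab c hc
    by_cases hs : c ∈ Submodule.span (ZMod 2) {a, b}
    · exact Submodule.span_le.2 (by
        rintro x (rfl | rfl)
        exacts [(hmem b x hb).2, (hmem x a hb).1]) hs
    · obtain ⟨s, hs', sa, sb, sc⟩ := hX.swap ha hb hab hs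
      have := (hKeq a ha (γ b * s) (X.mul_mem (hγ b hb).1 hs')
        (by show γ b (s a) = v; rw [sa, (hγ b hb).2]) b c).1 hc
      rw [show (γ b * s) c = γ b c by show γ b (s c) = γ b c; rw [sc],
        show (γ b * s) b = γ b a by show γ b (s b) = γ b a; rw [sb]] at this
      exact this
  have hline : ∀ a b x y, a ≠ 0 → b ≠ 0 → a ≠ b → x ∈ K a b → y ∈ K a b → x ≠ 0 → y ≠ 0 → x ≠ y →
      K x y = K a b := by
    intro a b x y ha hb hab hx hy hx0 hy0 hxy
    by_cases hxa : x = a
    · subst hxa; exact hsame x b y hx0 hy0 hxy hy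
    · have h1 : K x a = K a b := by
        rw [← hsymm a x ha hx0 (Ne.symm hxa), hsame a b x ha hx0 (Ne.symm hxa) hx]
      rw [← h1]
      exact hsame x a y hx0 hy0 hxy (h1 ▸ hy)
  have hdim : ∀ a b, a ≠ 0 → b ≠ 0 → a ≠ b → finrank (ZMod 2) (K a b) = σ.k + 1 := by
    intro a b ha hb hab
    show finrank (ZMod 2) (((σ.blk _).comap (line v).mkQ).comap (γ a : V →ₗ[ZMod 2] V)) = _
    rw [Submodule.comap_equiv_eq_map_symm]
    refine (LinearEquiv.finrank_map_eq (γ a).symm _).trans ?_
    rw [finrank_comap_mkQ hv, σ.dim _ (hnz a b ha hb hab)]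
  refine ⟨K, hmem, hdim, hline, fun g hg a b c ha => ?_, fun b c => hKeq v hv 1 X.one_mem rfl b c⟩
  have ha' : g a ≠ 0 := fun e => ha (g.map_eq_zero_iff.1 e)
  rw [hK, hKeq a ha (γ (g a) * g) (X.mul_mem (hγ _ ha').1 hg) (hγ _ ha').2 b c]
  rfl

/-- The block dimension plus one divides the dimension less one. -/
theorem design_dvd (hX : TwoTrans X) (hr : (finrank (ZMod 2) V).Prime) {v : V} (hv : v ≠ 0)
    (σ : Spread (quotRep X v)) (hk : σ.k + 1 < finrank (ZMod 2) V) :
    σ.k + 1 ∣ finrank (ZMod 2) V - 1 := by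
  classical
  letI := Fintype.ofFinite V
  obtain ⟨K, hmem, hdim, hline, -, -⟩ := hX.exists_design hv σ
  let P : Finset (V × V) := {a | a.1 ≠ 0 ∧ a.2 ≠ 0 ∧ a.1 ≠ a.2}
  have hcount : ∀ U : Submodule (ZMod 2) V,
      (P.filter fun a => a.1 ∈ U ∧ a.2 ∈ U).card =
        (2 ^ finrank (ZMod 2) U - 1) * (2 ^ finrank (ZMod 2) U - 2) := by
    intro U
    let T : Finset V := {x | x ≠ 0 ∧ x ∈ U}
    have hT : T.card = 2 ^ finrank (ZMod 2) U - 1 := by
      have h : ({x | x ∈ U} : Finset V).card = 2 ^ finrank (ZMod 2) U := by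
        rw [← card_eq_two_pow, Nat.card_eq_fintype_card, Fintype.card_subtype]
      rw [← h, ← Finset.card_erase_of_mem (a := (0 : V))
        (Finset.mem_filter.2 ⟨Finset.mem_univ _, zero_mem U⟩)]
      congr 1
      ext x
      simp [T, and_comm]
    have hset : (P.filter fun a => a.1 ∈ U ∧ a.2 ∈ U) = T.offDiag := by
      ext a
      simp only [P, T, Finset.mem_filter, Finset.mem_univ, true_and, Finset.mem_offDiag]
      tauto
    rw [hset, Finset.offDiag_card, hT, ← Nat.mul_sub_one, Nat.sub_sub]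
  have hP : P.card = (2 ^ finrank (ZMod 2) V - 1) * (2 ^ finrank (ZMod 2) V - 2) := by
    have := hcount ⊤
    rw [finrank_top] at this
    rw [← this]
    congr 1
    ext a
    simp
  have hdvd : (2 ^ (σ.k + 1) - 1) * (2 ^ (σ.k + 1) - 2) ∣ P.card := by
    rw [Finset.card_eq_sum_card_image (fun a => K a.1 a.2) P]
    refine Finset.dvd_sum fun U hU => ?_
    obtain ⟨⟨a, b⟩, hab, rfl⟩ := Finset.mem_image.1 hU
    simp only [P, Finset.mem_filter, Finset.mem_univ, true_and] at hab
    rw [← hdim a b hab.1 hab.2.1 hab.2.2, ← hcount]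
    refine dvd_of_eq (congrArg Finset.card (Finset.filter_congr fun c hc => ?_))
    simp only [P, Finset.mem_filter, Finset.mem_univ, true_and] at hc
    exact ⟨fun ⟨h1, h2⟩ => hline a b c.1 c.2 hab.1 hab.2.1 hab.2.2 h1 h2 hc.1 hc.2.1 hc.2.2,
      fun e => ⟨e ▸ (hmem c.1 c.2 hc.1).1, e ▸ (hmem c.1 c.2 hc.1).2⟩⟩
  obtain ⟨r', hr'⟩ : ∃ r', finrank (ZMod 2) V = r' + 1 := ⟨_, (Nat.succ_pred hr.ne_zero).symm⟩
  have hfac : ∀ m : ℕ, (2 ^ (m + 1) - 1) * (2 ^ (m + 1) - 2) = 2 * ((2 ^ (m + 1) - 1) * (2 ^ m - 1)) := fun m => by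
    rw [show 2 ^ (m + 1) - 2 = 2 * (2 ^ m - 1) by rw [pow_succ]; omega]
    ring
  rw [hP, hr', hfac, hfac] at hdvd
  have h' := (Nat.dvd_trans (dvd_mul_right _ _) (Nat.dvd_of_mul_dvd_mul_left (by norm_num) hdvd) :
    2 ^ (σ.k + 1) - 1 ∣ _)
  have hcop : Nat.Coprime (2 ^ (σ.k + 1) - 1) (2 ^ (r' + 1) - 1) := by
    show Nat.gcd _ _ = 1
    rw [Nat.pow_sub_one_gcd_pow_sub_one, ← hr',
      show Nat.gcd (σ.k + 1) (finrank (ZMod 2) V) = 1 from
        Nat.Coprime.symm ((hr.coprime_iff_not_dvd).2 fun h => absurd (Nat.le_of_dvd (by omega) h) (by omega))]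
    rfl
  rw [hr', Nat.add_sub_cancel]
  exact dvd_of_pow_sub_one_dvd (hcop.dvd_of_dvd_mul_left h')

theorem exists_tv (hX : TwoTrans X) (hr : (finrank (ZMod 2) V).Prime) (h5 : 5 ≤ finrank (ZMod 2) V)
    (J : Subgroup (V ≃ₗ[ZMod 2] V)) (hJX : J ≤ X) (hJc : ∀ i ∈ J, ∀ j ∈ J, i * j = j * i)
    (hJt : ∀ a b : V, a ≠ 0 → b ≠ 0 → ∃ j ∈ J, j a = b) :
    ∃ t ∈ X, t ≠ 1 ∧ ∃ a φ, TransvGroup.IsTv t a φ := by
  classical
  haveI : Nontrivial V := Module.nontrivial_of_finrank_pos (R := ZMod 2) (by omega)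
  obtain ⟨v, hv⟩ := exists_ne (0 : V)
  have hn : finrank (ZMod 2) (V ⧸ line v) + 1 = finrank (ZMod 2) V := by
    have := Submodule.finrank_quotient_add_finrank (line v)
    rw [show finrank (ZMod 2) (line v) = 1 from finrank_span_singleton hv] at this
    exact this
  have hF := hX.flag hv
  suffices main : ∀ m (σ : Spread (quotRep X v)), finrank (ZMod 2) (V ⧸ line v) - σ.k = m →
      σ.k < finrank (ZMod 2) (V ⧸ line v) → ∃ t ∈ X, t ≠ 1 ∧ ∃ a φ, TransvGroup.IsTv t a φ by
    exact main _ (pointSpread _) rfl (by show 1 < _; omega)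
  intro m
  induction m using Nat.strong_induction_on with
  | _ m ih =>
    intro σ hm hk
    haveI := hF.nontrivial
    obtain ⟨p, hp⟩ := exists_ne (0 : V ⧸ line v)
    obtain ⟨sh⟩ := σ.exists_shadow hF hk
    have hk0 := σ.k_pos hp
    have hdvd := hX.design_dvd hr hv σ (by omega)
    obtain ⟨a, ha⟩ : σ.k ∣ finrank (ZMod 2) (V ⧸ line v) := by
      have := σ.dvd_finrank σ.isClosed_top
      rwa [finrank_top] at this
    have hka : σ.k + 1 ∣ a := by
      rw [← hn, Nat.add_sub_cancel, ha] at hdvd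
      exact (Nat.coprime_self_add_left.2 (Nat.coprime_one_left σ.k)).dvd_of_dvd_mul_left hdvd
    have ha5 : a ≠ 5 := by
      intro e
      have h2 : σ.k + 1 ∣ 5 := e ▸ hka
      have : σ.k + 1 = 5 := (Nat.dvd_prime (by norm_num)).1 h2 |>.resolve_left (by omega)
      have h21 : finrank (ZMod 2) V = 21 := by
        rw [← hn, ha, e, show σ.k = 4 by omega]
      rw [h21] at hr
      exact absurd hr (by norm_num)
    have ha3 : 3 ≤ a := by
      have h2 : 2 ≤ a := by
        by_contra h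
        interval_cases a <;> omega
      by_contra h
      have ha2 : a = 2 := by omega
      have := Nat.le_of_dvd (by omega) hka
      have hk1 : σ.k = 1 := by omega
      rw [ha2, hk1] at ha
      omega
    obtain ⟨u, rfl⟩ := (line v).mkQ_surjective p
    have hu := hp
    rw [Ne, mkQ_eq_zero, not_or] at hu
    have hu' : v ≠ u := Ne.symm hu.2
    by_cases htop : sh.S ((line v).mkQ u) = ⊤
    · -- a subspace with transitive stabiliser
      obtain ⟨D, hDmem, hDdim, hDline, hDinv, hDv⟩ := hX.exists_design hv σ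
      let K := D v u
      have hvK : v ∈ K := (hDmem v u hv).1
      have huK : u ∈ K := (hDmem v u hv).2
      have hfix : ∀ g ∈ X, ∀ a ∈ K, ∀ b ∈ K, a ≠ 0 → b ≠ 0 → a ≠ b → g a = a → g b = b →
          g ∈ kStab X K := by
        intro g hg a ha b hb ha0 hb0 hab ga gb
        refine ⟨hg, fun x => ?_⟩
        have := hDinv g hg a b x ha0
        rwa [ga, gb, hDline v u a b hv hu.1 hu' ha hb ha0 hb0 hab] at this
      have htr : ∀ x y, x ∉ K → y ∉ K → ∃ g ∈ kStab X K, g x = y := by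
        intro x y hx hy
        have hx' : (line v).mkQ x ∉ σ.blk ((line v).mkQ u) := fun h => hx ((hDv u x).2 h)
        have hy' : (line v).mkQ y ∉ σ.blk ((line v).mkQ u) := fun h => hy ((hDv u y).2 h)
        obtain ⟨g, hg, e⟩ := sh.orb _ ((line v).mkQ x) ((line v).mkQ y) hp (by rw [htop]; trivial) hx'
          (by rw [htop]; trivial) hy'
        have hgK : g.1 ∈ kStab X K := ⟨g.2.1, fun z => by
          show g.1 z ∈ D v u ↔ z ∈ D v u
          rw [hDv, hDv]
          exact hg ((line v).mkQ z)⟩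
        rcases mkQ_eq_iff.1 e with e' | e'
        · exact ⟨g.1, hgK, e'⟩
        · have e2 : g.1 x = y + v := e'
          obtain ⟨t, ht, tv, tu, te⟩ := hX.elation hv hu.1 hu' (c := g.1 x) (fun h => hy (by
            have hgx : g.1 x ∈ K := Submodule.span_le.2 (by
              rintro z (rfl | rfl)
              exacts [hvK, huK]) h
            rw [show y = g.1 x + v by rw [e2, add_assoc, add_self, add_zero]]
            exact add_mem hgx hvK))
          refine ⟨t * g.1, mul_mem (hfix t ht v hvK u huK hv hu.1 hu' tv tu) hgK, ?_⟩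
          show t (g.1 x) = y
          rw [te, e2, add_assoc, add_self, add_zero]
      have hKd : finrank (ZMod 2) K = σ.k + 1 := hDdim v u hv hu.1 hu'
      obtain ⟨a', rfl⟩ : ∃ a', a = a' + 1 := ⟨a - 1, by omega⟩
      rw [Nat.mul_succ] at ha
      have hmul : σ.k * 2 ≤ σ.k * a' := Nat.mul_le_mul_left _ (by omega)
      have heven : σ.k = 1 → 3 ≤ a' ∧ Odd a' := fun h => by
        rw [h] at hka
        obtain ⟨c, hc⟩ := hka
        exact ⟨by omega, ⟨c - 1, by omega⟩⟩
      refine hX.exists_tv_of_subspace hv hu.1 hu' K hvK huK hfix htr (d := σ.k * a')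
        (by omega) ?_ (fun h6 => ?_) (fun h => ?_)
      · rw [hKd]
        by_cases h1 : σ.k = 1
        · have := heven h1
          rw [h1, one_mul]; omega
        · omega
      · have hkd : σ.k ∣ 6 := ⟨a', h6.symm⟩
        have := Nat.le_of_dvd (by norm_num) hkd
        obtain ⟨c, hc⟩ := hka
        interval_cases σ.k <;> omega
      · have h1 : σ.k = 1 := by omega
        rw [h1, one_mul]
        exact (heven h1).2
    · by_cases hhull : ∀ q, q ≠ 0 → sh.hull q = ⊤
      · exfalso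
        obtain ⟨H, C, hpH, hHtop, hHinv, hHC, hC⟩ := sh.exists_small_codim hF hk hhull hp htop
        have hC' : C + C + C ≤ finrank (ZMod 2) (V ⧸ line v) := hC.resolve_right fun e =>
          ha5 (Nat.eq_of_mul_eq_mul_left hk0 (by rw [← ha, e, mul_comm]))
        have hK := hX.kill J hJX hJc hJt hv hu.1 hu' (H.comap (line v).mkQ)
          (by show (line v).mkQ v ∈ H; rw [mkQ_self]; exact zero_mem _) hpH
          (fun g hg gv gu x hx => by
            show (line v).mkQ (g x) ∈ H
            exact hHinv ⟨g, hg, gv⟩ (congrArg (line v).mkQ gu) _ hx)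
          (C := C) (by rw [finrank_comap_mkQ hv]; omega) (by omega)
        refine hHtop (eq_top_iff.2 fun q _ => ?_)
        obtain ⟨x, rfl⟩ := (line v).mkQ_surjective q
        exact (hK.symm ▸ Submodule.mem_top : x ∈ H.comap (line v).mkQ)
      · push Not at hhull
        obtain ⟨q, hq, hqtop⟩ := hhull
        let σ' := sh.hullSpread hF hk q hq
        have hk' : σ'.k < finrank (ZMod 2) (V ⧸ line v) := Submodule.finrank_lt hqtop
        have hgt : σ.k < σ'.k := by
          obtain ⟨x, hx, hxq⟩ := sh.bigger q hq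
          have h1 := Submodule.finrank_lt_finrank_of_lt (lt_of_le_not_ge (sh.blk_le q) fun h => hxq (h hx))
          rw [σ.dim q hq] at h1
          exact h1.trans_le (Submodule.finrank_mono (sh.hull_closed (sh.mem_hull q)))
        exact ih _ (by omega) σ' rfl hk'

end TwoTrans

end Cfsg.Agent.SingerTransitive
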