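import Cfsg.Agent.Lib.SingerTransitive.Brauer

/-!
# A coset lemma from Fourier analysis, and functions of bounded degree

* `coset_invariant`: if each non-zero class of functionals on `P` lies in one orbit, orbits off `P` are unions
  of cosets of `P`
* `affProd`: span of products of `C` affine functions; `sum_affProd`, `indicator_mem`, `tri_mem`
-/

set_option autoImplicit false

namespace Cfsg.Agent.SingerTransitive

open Module

/-- The sign `(-1) ^ a`. -/
def sgn (a : ZMod 2) : ℤ := if a = 0 then 1 else -1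

theorem sgn_add (a b : ZMod 2) : sgn (a + b) = sgn a * sgn b := by revert a b; decide

theorem sgn_zero : sgn 0 = 1 := rfl

theorem sgn_one : sgn 1 = -1 := rfl

theorem sum_sgn {A : Type*} [AddCommGroup A] [Fintype A] (e : A →+ ZMod 2) (he : e ≠ 0) :
    ∑ a, sgn (e a) = 0 := by
  obtain ⟨a₀, ha⟩ : ∃ a, e a ≠ 0 := by
    by_contra h
    push Not at h
    exact he (AddMonoidHom.ext h)
  have h : ∑ a, sgn (e a) = -∑ a, sgn (e a) := by
    conv_lhs => rw [← Equiv.sum_comp (Equiv.addRight a₀) fun a => sgn (e a)]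
    rw [← Finset.sum_neg_distrib]
    refine Finset.sum_congr rfl fun a _ => ?_
    rw [Equiv.coe_addRight, map_add, sgn_add, zmod2_ne ha, sgn_one]
    ring
  omega

section

variable {G : Type*} [Group G] {V : Type*} [AddCommGroup V] [Module (ZMod 2) V] [Finite V]
  (ρ : G →* (V ≃ₗ[ZMod 2] V))

/-- If any two functionals with equal non-zero restriction to `P` are conjugate, an invariant set is a union
of cosets of `P` outside `P`. -/
theorem coset_invariant (O : Set V) (hO : ∀ g, ∀ x ∈ O, ρ g x ∈ O) (P : Submodule (ZMod 2) V)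
    (hP : ∀ f f' : Dual (ZMod 2) V, (∀ p ∈ P, f p = f' p) → (∃ p ∈ P, f p ≠ 0) →
      ∃ g, ∀ x, f' (ρ g x) = f x)
    {z : V} (hz : z ∉ P) {q : V} (hq : q ∈ P) : z + q ∈ O ↔ z ∈ O := by
  classical
  haveI : Finite (Dual (ZMod 2) V) := Module.finite_of_finite (ZMod 2)
  letI := Fintype.ofFinite V
  letI := Fintype.ofFinite P
  letI := Fintype.ofFinite (Dual (ZMod 2) V)
  let A := P.dualAnnihilator
  letI := Fintype.ofFinite A
  let h : V → ℤ := fun x => if x ∈ O then 1 else 0
  let S : Dual (ZMod 2) V → ℤ := fun f => ∑ x, h x * sgn (f x)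
  have hS : ∀ g f f', (∀ x, f' (ρ g x) = f x) → S f' = S f := by
    intro g f f' hg
    show ∑ x, h x * sgn (f' x) = _
    rw [← Equiv.sum_comp (ρ g).toEquiv]
    refine Finset.sum_congr rfl fun x _ => ?_
    show h (ρ g x) * sgn (f' (ρ g x)) = _
    have e : ρ g x ∈ O ↔ x ∈ O := ⟨fun hx => by
      have := hO g⁻¹ _ hx
      rwa [rep_inv_apply] at this, hO g x⟩
    simp only [h, e, hg]
  have hmain : ∀ f : Dual (ZMod 2) V, (∃ p ∈ P, f p ≠ 0) →
      ∑ p : P, h (z + p) * sgn (f p) = 0 := by
    intro f hf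
    have hzA : ∃ φ ∈ A, φ z ≠ 0 := by
      by_contra hc
      push Not at hc
      exact hz ((Subspace.forall_mem_dualAnnihilator_apply_eq_zero_iff P z).1 hc)
    obtain ⟨φ₀, hφ₀, hφ₀z⟩ := hzA
    have hsum : ∑ φ : A, sgn (φ.1 z) * S (f + φ.1) = 0 := by
      rw [Finset.sum_congr rfl fun (φ : A) _ => show sgn (φ.1 z) * S (f + φ.1) = sgn (φ.1 z) * S f by
        obtain ⟨g, hg⟩ := hP f (f + φ.1) (fun p hp => by
          rw [LinearMap.add_apply, (Submodule.mem_dualAnnihilator _).1 φ.2 p hp, add_zero]) hf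
        rw [hS g f _ hg], ← Finset.sum_mul]
      rw [show ∑ φ : A, sgn (φ.1 z) = 0 from sum_sgn (A := A) ⟨⟨fun φ => φ.1 z, rfl⟩, fun a b => rfl⟩
        (fun e => hφ₀z (by simpa using DFunLike.congr_fun e ⟨φ₀, hφ₀⟩)), zero_mul]
    have hinner : ∀ x : V, ∑ φ : A, sgn (φ.1 z) * (h x * sgn ((f + φ.1) x)) =
        if x + z ∈ P then (Fintype.card A : ℤ) * (h x * sgn (f x)) else 0 := by
      intro x
      rw [Finset.sum_congr rfl fun (φ : A) _ =>
        show sgn (φ.1 z) * (h x * sgn ((f + φ.1) x)) = h x * sgn (f x) * sgn (φ.1 (x + z)) by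
          rw [LinearMap.add_apply, sgn_add, map_add, sgn_add]; ring, ← Finset.mul_sum]
      split_ifs with hx
      · rw [Finset.sum_congr rfl fun (φ : A) _ => show sgn (φ.1 (x + z)) = 1 by
          rw [(Submodule.mem_dualAnnihilator _).1 φ.2 _ hx, sgn_zero]]
        rw [Finset.sum_const, Finset.card_univ, nsmul_one, mul_comm]
      · rw [show ∑ φ : A, sgn (φ.1 (x + z)) = 0 from
          sum_sgn (A := A) ⟨⟨fun φ => φ.1 (x + z), rfl⟩, fun a b => rfl⟩ (fun e => hx
          ((Subspace.forall_mem_dualAnnihilator_apply_eq_zero_iff P _).1 fun φ hφ => by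
            simpa using DFunLike.congr_fun e ⟨φ, hφ⟩)), mul_zero]
    have hS' : ∑ φ : A, sgn (φ.1 z) * S (f + φ.1) =
        (Fintype.card A : ℤ) * (sgn (f z) * ∑ p : P, h (z + p) * sgn (f p)) := by
      simp only [S, Finset.mul_sum]
      rw [Finset.sum_comm, Finset.sum_congr rfl fun x _ => hinner x, ← Finset.sum_filter]
      refine Finset.sum_bij' (fun x hx => ⟨x + z, (Finset.mem_filter.1 hx).2⟩) (fun p _ => z + p.1)
        (fun x hx => Finset.mem_univ _)
        (fun p _ => Finset.mem_filter.2 ⟨Finset.mem_univ _, by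
          rw [add_assoc, add_comm p.1 z, ← add_assoc, add_self, zero_add]; exact p.2⟩)
        (fun x hx => by show z + (x + z) = x; rw [add_comm x z, ← add_assoc, add_self, zero_add])
        (fun p _ => Subtype.ext (by
          show z + p.1 + z = p.1
          rw [add_comm z p.1, add_assoc, add_self, add_zero]))
        (fun x hx => ?_)
      show _ = (Fintype.card A : ℤ) * (sgn (f z) * (h (z + (x + z)) * sgn (f (x + z))))
      rw [add_comm x z, ← add_assoc z z x, add_self, zero_add, map_add, sgn_add]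
      have hsq : sgn (f z) * sgn (f z) = 1 := by rw [← sgn_add, zmod2_add_self, sgn_zero]
      linear_combination -((Fintype.card A : ℤ) * h x * sgn (f x)) * hsq
    rw [hsum] at hS'
    rcases mul_eq_zero.1 hS'.symm with h0 | h0
    · exact absurd h0 (by exact_mod_cast Fintype.card_ne_zero)
    · rcases mul_eq_zero.1 h0 with h1 | h1
      · rcases zmod2 (f z) with e | e <;> simp [e, sgn_zero, sgn_one] at h1
      · exact h1
  -- inversion
  haveI : Finite (Dual (ZMod 2) P) := Module.finite_of_finite (ZMod 2)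
  letI : Fintype (Dual (ZMod 2) P) := Fintype.ofFinite _
  have hext : ∀ a : Dual (ZMod 2) P, a ≠ 0 → ∑ p : P, h (z + p) * sgn (a p) = 0 := by
    intro a ha
    obtain ⟨f, rfl⟩ := Subspace.dualRestrict_surjective (W := P) a
    refine hmain f ?_
    by_contra hc
    push Not at hc
    exact ha (LinearMap.ext fun p => by simpa [Submodule.dualRestrict_apply] using hc p p.2)
  have hinv : ∀ s : P, ∑ a : Dual (ZMod 2) P, sgn (a s) * ∑ p : P, h (z + p) * sgn (a p) =
      (Fintype.card (Dual (ZMod 2) P) : ℤ) * h (z + s) := by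
    intro s
    simp only [Finset.mul_sum]
    rw [Finset.sum_comm, Finset.sum_eq_single s]
    · rw [Finset.sum_congr rfl fun (a : Dual (ZMod 2) P) _ =>
        show sgn (a s) * (h (z + s) * sgn (a s)) = h (z + s) by
          rw [mul_comm (h _), ← mul_assoc, ← sgn_add, zmod2_add_self, sgn_zero, one_mul]]
      rw [Finset.sum_const, Finset.card_univ, nsmul_eq_mul]
    · intro p _ hp
      rw [Finset.sum_congr rfl fun (a : Dual (ZMod 2) P) _ =>
        show sgn (a s) * (h (z + p) * sgn (a p)) = h (z + p) * sgn (a (s + p)) by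
          rw [map_add, sgn_add]; ring, ← Finset.mul_sum,
        show ∑ a : Dual (ZMod 2) P, sgn (a (s + p)) = 0 from
          sum_sgn (A := Dual (ZMod 2) P) ⟨⟨fun a => a (s + p), rfl⟩, fun a b => rfl⟩ (fun e => hp
          ((add_eq_zero_iff'.1 ((Module.forall_dual_apply_eq_zero_iff (ZMod 2) (s + p)).1 fun a => by
            simpa using DFunLike.congr_fun e a)).symm)), mul_zero]
    · exact fun h' => absurd (Finset.mem_univ s) h'
  have hconst : ∀ s : P, ∑ a : Dual (ZMod 2) P, sgn (a s) * ∑ p : P, h (z + p) * sgn (a p) =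
      ∑ p : P, h (z + p) := by
    intro s
    rw [Finset.sum_eq_single (0 : Dual (ZMod 2) P)]
    · simp [sgn_zero]
    · exact fun a _ ha => by rw [hext a ha, mul_zero]
    · exact fun h' => absurd (Finset.mem_univ _) h'
  have heq : h (z + (⟨q, hq⟩ : P)) = h (z + (0 : P)) := by
    refine mul_left_cancel₀ (a := (Fintype.card (Dual (ZMod 2) P) : ℤ))
      (by exact_mod_cast Fintype.card_ne_zero) ?_
    rw [← hinv, ← hinv, hconst, hconst]
  simp only [h, Submodule.coe_zero, add_zero] at heq
  split_ifs at heq with h1 h2 <;> tauto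

end

section Degree

variable {V : Type*} [AddCommGroup V] [Module (ZMod 2) V]

/-- Products of `C` affine functions. -/
def affSet (V : Type*) [AddCommGroup V] [Module (ZMod 2) V] (C : ℕ) : Set (V → ZMod 2) :=
  {φ | ∃ (f : Fin C → Dual (ZMod 2) V) (e : Fin C → ZMod 2), φ = fun x => ∏ i, (f i x + e i)}

/-- Functions of degree at most `C`. -/
def affProd (V : Type*) [AddCommGroup V] [Module (ZMod 2) V] (C : ℕ) :
    Submodule (ZMod 2) (V → ZMod 2) :=
  Submodule.span (ZMod 2) (affSet V C)

theorem affProd_mul {C D : ℕ} {φ ψ : V → ZMod 2} (hφ : φ ∈ affProd V C) (hψ : ψ ∈ affProd V D) :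
    φ * ψ ∈ affProd V (C + D) := by
  refine (?_ : Submodule.span (ZMod 2) (affSet V C) * Submodule.span (ZMod 2) (affSet V D) ≤
    affProd V (C + D)) (Submodule.mul_mem_mul hφ hψ)
  rw [Submodule.span_mul_span]
  refine Submodule.span_mono ?_
  rintro _ ⟨_, ⟨f, e, rfl⟩, _, ⟨f', e', rfl⟩, rfl⟩
  refine ⟨Fin.append f f', Fin.append e e', funext fun x => ?_⟩
  simp [Fin.prod_univ_add]

theorem affProd_comp {C : ℕ} {φ : V → ZMod 2} (hφ : φ ∈ affProd V C) (L : V →ₗ[ZMod 2] V) :
    (fun x => φ (L x)) ∈ affProd V C := by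
  refine (?_ : affProd V C ≤ (affProd V C).comap (LinearMap.funLeft (ZMod 2) (ZMod 2) L)) hφ
  refine Submodule.span_le.2 ?_
  rintro _ ⟨f, e, rfl⟩
  exact Submodule.subset_span ⟨fun i => (f i).comp L, e, rfl⟩

/-- A function of degree less than the dimension sums to zero. -/
theorem sum_affProd [Fintype V] {C : ℕ} (hC : C < finrank (ZMod 2) V) {φ : V → ZMod 2}
    (hφ : φ ∈ affProd V C) : ∑ x, φ x = 0 := by
  let σ : (V → ZMod 2) →ₗ[ZMod 2] ZMod 2 :=
    { toFun := fun φ => ∑ x, φ x
      map_add' := fun a b => by simp [Finset.sum_add_distrib]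
      map_smul' := fun c a => by simp [Finset.mul_sum] }
  refine (?_ : affProd V C ≤ LinearMap.ker σ) hφ
  refine Submodule.span_le.2 ?_
  rintro _ ⟨f, e, rfl⟩
  show ∑ x, ∏ i, (f i x + e i) = 0
  let L : V →ₗ[ZMod 2] (Fin C → ZMod 2) := LinearMap.pi f
  have hker : LinearMap.ker L ≠ ⊥ := LinearMap.ker_ne_bot_of_finrank_lt (f := L) (by simpa using hC)
  obtain ⟨t, ht, ht0⟩ := Submodule.exists_mem_ne_zero_of_ne_bot hker
  refine Finset.sum_involution (fun x _ => x + t) (fun x _ => ?_) (fun x _ _ h => ht0 ?_)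
    (fun x _ => Finset.mem_univ _) (fun x _ => ?_)
  · have : ∀ i, f i t = 0 := fun i => congrFun ht i
    simp only [map_add, this, add_zero]
    exact zmod2_add_self _
  · exact add_eq_left.1 h
  · rw [add_assoc, add_self, add_zero]

open Classical in
/-- The indicator of a subspace of codimension at most `C`. -/
theorem indicator_mem [Finite V] {C : ℕ} (U : Submodule (ZMod 2) V)
    (hU : finrank (ZMod 2) V ≤ finrank (ZMod 2) U + C) :
    (fun x => if x ∈ U then (1 : ZMod 2) else 0) ∈ affProd V C := by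
  let b := Module.finBasis (ZMod 2) U.dualAnnihilator
  let f : Fin C → Dual (ZMod 2) V := fun i =>
    if h : i.1 < finrank (ZMod 2) U.dualAnnihilator then (b ⟨i.1, h⟩).1 else 0
  refine Submodule.subset_span ⟨f, fun _ => 1, funext fun x => ?_⟩
  have hm : finrank (ZMod 2) U.dualAnnihilator ≤ C := by
    have := Subspace.finrank_add_finrank_dualAnnihilator_eq U
    omega
  split_ifs with hx
  · refine (Finset.prod_eq_one fun i _ => ?_).symm
    have : f i x = 0 := by
      simp only [f]
      split_ifs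
      · exact (Submodule.mem_dualAnnihilator _).1 (b _).2 x hx
      · rfl
    rw [this, zero_add]
  · obtain ⟨φ, hφ, hφx⟩ : ∃ φ ∈ U.dualAnnihilator, φ x ≠ 0 := by
      by_contra hc
      push Not at hc
      exact hx ((Subspace.forall_mem_dualAnnihilator_apply_eq_zero_iff U x).1 hc)
    obtain ⟨j, hj⟩ : ∃ j, (b j).1 x ≠ 0 := by
      by_contra hc
      push Not at hc
      refine hφx ?_
      have := congrArg (fun ψ : U.dualAnnihilator => ψ.1 x) (b.sum_repr ⟨φ, hφ⟩)
      simp only [Submodule.coe_sum, Submodule.coe_smul, LinearMap.coe_sum, Finset.sum_apply,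
        LinearMap.smul_apply, hc, smul_zero, Finset.sum_const_zero] at this
      exact this.symm
    refine (Finset.prod_eq_zero (Finset.mem_univ (⟨j.1, lt_of_lt_of_le j.2 hm⟩ : Fin C)) ?_).symm
    simp only [f, dif_pos j.2]
    rw [zmod2_ne hj, zmod2_add_self]

/-- A function of three variables with all slices of degree at most `C`, restricted to a linear image of
one variable, has degree at most `3C`. -/
theorem tri_mem [Finite V] {C : ℕ} (F : V → V → V → ZMod 2)
    (h1 : ∀ b c, (fun a => F a b c) ∈ affProd V C) (h2 : ∀ a c, (fun b => F a b c) ∈ affProd V C)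
    (h3 : ∀ a b, (fun c => F a b c) ∈ affProd V C) (L1 L2 L3 : V →ₗ[ZMod 2] V) :
    (fun x => F (L1 x) (L2 x) (L3 x)) ∈ affProd V (C + C + C) := by
  classical
  letI := Fintype.ofFinite V
  obtain ⟨π, hπ⟩ : ∃ π : (V → ZMod 2) →ₗ[ZMod 2] affProd V C, ∀ p : affProd V C, π p.1 = p := by
    obtain ⟨π, h⟩ := LinearMap.exists_leftInverse_of_injective (affProd V C).subtype
      (Submodule.ker_subtype _)
    exact ⟨π, fun p => LinearMap.congr_fun h p⟩
  let p : V → V → ZMod 2 := fun a' => (π (Pi.single a' 1)).1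
  have hrep : ∀ φ ∈ affProd V C, ∀ a, φ a = ∑ a', φ a' * p a' a := by
    intro φ hφ a
    have hsum : φ = ∑ a', φ a' • (Pi.single a' 1 : V → ZMod 2) := by
      funext y; simp [Finset.sum_apply, Pi.single_apply]
    have h := congrFun (congrArg Subtype.val (hπ ⟨φ, hφ⟩)) a
    refine h.symm.trans ?_
    show (π φ).1 a = _
    conv_lhs => rw [hsum, map_sum, Submodule.coe_sum, Finset.sum_apply]
    exact Finset.sum_congr rfl fun a' _ => by rw [map_smul]; rfl
  have hp : ∀ a', p a' ∈ affProd V C := fun a' => (π _).2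
  have hF : (fun x => F (L1 x) (L2 x) (L3 x)) =
      ∑ a', ∑ b', ∑ c', F a' b' c' • ((fun x => p a' (L1 x)) * (fun x => p b' (L2 x)) *
        (fun x => p c' (L3 x))) := by
    funext x
    simp only [Finset.sum_apply, Pi.smul_apply, Pi.mul_apply, smul_eq_mul]
    rw [hrep _ (h1 (L2 x) (L3 x)) (L1 x)]
    refine Finset.sum_congr rfl fun a' _ => ?_
    rw [hrep _ (h2 a' (L3 x)) (L2 x), Finset.sum_mul]
    refine Finset.sum_congr rfl fun b' _ => ?_
    rw [hrep _ (h3 a' b') (L3 x), Finset.sum_mul, Finset.sum_mul]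
    refine Finset.sum_congr rfl fun c' _ => ?_
    ring
  rw [hF]
  exact Submodule.sum_mem _ fun a' _ => Submodule.sum_mem _ fun b' _ => Submodule.sum_mem _ fun c' _ =>
    Submodule.smul_mem _ _ (affProd_mul (affProd_mul (affProd_comp (hp a') L1) (affProd_comp (hp b') L2))
      (affProd_comp (hp c') L3))

end Degree

end Cfsg.Agent.SingerTransitive
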