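import Cfsg.Agent.Lib.SingerTransitive.Shadow

/-!
# Duality and linearity of the shadow

* `Flag.dual`, `Spread.dualSpread`: the setting on functionals
* `Shadow.linear`: `S (p + q) ≤ S p ⊔ S q`
-/

set_option autoImplicit false

namespace Cfsg.Agent.SingerTransitive

open Module MulAction Finset

variable {G : Type*} [Group G] [Finite G] {W : Type*} [AddCommGroup W] [Module (ZMod 2) W] [Finite W]
  {ρ : G →* (W ≃ₗ[ZMod 2] W)}

instance finite_dual : Finite (Dual (ZMod 2) W) := Module.finite_of_finite (ZMod 2)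

theorem Flag.dual (hF : Flag ρ) : Flag (dualRep ρ) := by
  haveI := hF.nontrivial
  refine ⟨?_, fun f f' hf hf' => ?_, fun f hf φ φ' hφ hφ' => ?_⟩
  · obtain ⟨x, hx⟩ := exists_ne (0 : W)
    obtain ⟨f, hf⟩ : ∃ f : Dual (ZMod 2) W, f x ≠ 0 := by
      by_contra hc
      push Not at hc
      exact hx ((Module.forall_dual_apply_eq_zero_iff (ZMod 2) x).1 hc)
    exact ⟨f, 0, fun e => hf (by rw [e]; rfl)⟩
  · obtain ⟨g, hg⟩ := trans_dual ρ hF.trans hf hf'
    exact ⟨g, (dualRep_eq_iff ρ).2 hg⟩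
  · obtain ⟨x, rfl⟩ := (Module.evalEquiv (ZMod 2) W).surjective φ
    obtain ⟨x', rfl⟩ := (Module.evalEquiv (ZMod 2) W).surjective φ'
    change f x = 1 at hφ
    change f x' = 1 at hφ'
    have hx : x ≠ 0 := fun e => by simp [e] at hφ
    have hx' : x' ≠ 0 := fun e => by simp [e] at hφ'
    obtain ⟨g₁, e₁⟩ := hF.trans x x' hx hx'
    obtain ⟨g₂, e₂, h₂⟩ := hF.anti x' hx' (dualRep ρ g₁ f) f
      (by rw [dualRep_apply, ← e₁, rep_inv_apply, hφ]) hφ'
    have e : ρ (g₂ * g₁) x = x' := by rw [rep_mul, e₁, e₂]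
    refine ⟨g₂ * g₁, ?_, fun ψ => ?_⟩
    · rw [map_mul, LinearEquiv.mul_apply]
      exact (dualRep_eq_iff ρ).2 h₂
    · show dualRep ρ (g₂ * g₁) ψ x' = ψ x
      rw [dualRep_apply, ← e, rep_inv_apply]

omit [Finite G] in
theorem card_filter_ne_zero [Fintype W] (U : Submodule (ZMod 2) W) [DecidablePred (· ∈ U)] [DecidableEq W] :
    #{x | x ≠ 0 ∧ x ∈ U} = 2 ^ finrank (ZMod 2) U - 1 := by
  have h : #{x | x ∈ U} = 2 ^ finrank (ZMod 2) U := by
    rw [← card_eq_two_pow, Nat.card_eq_fintype_card, Fintype.card_subtype]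
  rw [← h, ← Finset.card_erase_of_mem (a := (0 : W))
    (Finset.mem_filter.2 ⟨Finset.mem_univ _, zero_mem U⟩)]
  congr 1
  ext x
  simp [and_comm]

namespace Spread

variable (σ : Spread ρ)

/-- The union of the blocks inside the kernel of a functional. -/
def inKer (f : Dual (ZMod 2) W) : Submodule (ZMod 2) W where
  carrier := {x | ∀ y ∈ σ.blk x, f y = 0}
  zero_mem' := fun y hy => by
    rw [σ.zero', Submodule.mem_bot] at hy
    rw [hy, map_zero]
  add_mem' := fun {a b} ha hb y hy => by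
    obtain ⟨c, hc, d, hd, rfl⟩ := Submodule.mem_sup.1
      (σ.closed a b (a + b) (Submodule.add_mem_sup (σ.mem a) (σ.mem b)) hy)
    rw [map_add, ha c hc, hb d hd, add_zero]
  smul_mem' := fun c x hx => by
    rcases zmod2 c with rfl | rfl
    · intro y hy
      rw [zero_smul, σ.zero', Submodule.mem_bot] at hy
      rw [hy, map_zero]
    · simpa using hx

theorem mem_inKer {f : Dual (ZMod 2) W} {x : W} : x ∈ σ.inKer f ↔ ∀ y ∈ σ.blk x, f y = 0 := Iff.rfl

theorem inKer_apply {f : Dual (ZMod 2) W} {x : W} (hx : x ∈ σ.inKer f) : f x = 0 := hx x (σ.mem x)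

theorem isClosed_inKer (f : Dual (ZMod 2) W) : σ.IsClosed (σ.inKer f) := by
  intro x hx y hy z hz
  by_cases h : y = 0
  · rw [h, σ.zero', Submodule.mem_bot] at hz
    rw [hz, map_zero]
  · rw [σ.eq_of_mem x y h hy] at hz
    exact hx z hz

theorem inKer_equiv (g : G) (f : Dual (ZMod 2) W) (x : W) :
    ρ g x ∈ σ.inKer (dualRep ρ g f) ↔ x ∈ σ.inKer f := by
  constructor
  · intro h y hy
    have := h _ ((σ.equiv g x y).2 hy)
    rwa [dualRep_apply, rep_inv_apply] at this
  · intro h y hy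
    rw [dualRep_apply]
    refine h _ ((σ.equiv g x _).1 ?_)
    rwa [rep_apply_inv]

theorem finrank_inKer (hF : Flag ρ) {f : Dual (ZMod 2) W} (hf : f ≠ 0) :
    finrank (ZMod 2) (σ.inKer f) = finrank (ZMod 2) W - σ.k := by
  classical
  letI := Fintype.ofFinite W
  letI := Fintype.ofFinite (Dual (ZMod 2) W)
  haveI := hF.nontrivial
  have hconst : ∀ φ : Dual (ZMod 2) W, φ ≠ 0 →
      finrank (ZMod 2) (σ.inKer φ) = finrank (ZMod 2) (σ.inKer f) := by
    intro φ hφ
    obtain ⟨g, hg⟩ := trans_dual ρ hF.trans hf hφ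
    have e : σ.inKer φ = (σ.inKer f).map (ρ g : W →ₗ[ZMod 2] W) := by
      ext x
      rw [show φ = dualRep ρ g f from ((dualRep_eq_iff ρ).2 hg).symm]
      constructor
      · intro h
        exact ⟨ρ g⁻¹ x, (σ.inKer_equiv g f _).1 (by rwa [rep_apply_inv]), rep_apply_inv ρ g x⟩
      · rintro ⟨y, hy, rfl⟩
        exact (σ.inKer_equiv g f y).2 hy
    rw [e]
    exact LinearEquiv.finrank_map_eq (ρ g) (σ.inKer f)
  have hann : ∀ p : W, p ≠ 0 → #{φ : Dual (ZMod 2) W | φ ≠ 0 ∧ p ∈ σ.inKer φ} =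
      2 ^ (finrank (ZMod 2) W - σ.k) - 1 := by
    intro p hp
    have h := Subspace.finrank_add_finrank_dualAnnihilator_eq (σ.blk p)
    rw [σ.dim p hp] at h
    rw [show finrank (ZMod 2) W - σ.k = finrank (ZMod 2) ↥(σ.blk p).dualAnnihilator by omega,
      ← card_filter_ne_zero]
    congr 1
    ext φ
    simp [Submodule.mem_dualAnnihilator, mem_inKer]
  have h := Finset.sum_card_bipartiteAbove_eq_sum_card_bipartiteBelow
    (r := fun (p : W) (φ : Dual (ZMod 2) W) => p ∈ σ.inKer φ)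
    (s := ({x | x ≠ 0} : Finset W)) (t := ({φ | φ ≠ 0} : Finset (Dual (ZMod 2) W)))
  have e1 : ∀ p ∈ ({x | x ≠ 0} : Finset W),
      #(Finset.bipartiteAbove (fun (p : W) (φ : Dual (ZMod 2) W) => p ∈ σ.inKer φ)
        {φ | φ ≠ 0} p) = 2 ^ (finrank (ZMod 2) W - σ.k) - 1 := fun p hp => by
    rw [← hann p (by simpa using hp), Finset.bipartiteAbove, Finset.filter_filter]
  have e2 : ∀ φ ∈ ({φ | φ ≠ 0} : Finset (Dual (ZMod 2) W)),
      #(Finset.bipartiteBelow (fun (p : W) (φ : Dual (ZMod 2) W) => p ∈ σ.inKer φ)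
        {x | x ≠ 0} φ) = 2 ^ finrank (ZMod 2) (σ.inKer f) - 1 := fun φ hφ => by
    rw [← hconst φ (by simpa using hφ), ← card_filter_ne_zero, Finset.bipartiteBelow,
      Finset.filter_filter]
  rw [Finset.sum_congr rfl e1, Finset.sum_congr rfl e2, Finset.sum_const, Finset.sum_const,
    smul_eq_mul, smul_eq_mul] at h
  have hc : ∀ {U : Type _} [AddCommGroup U] [Module (ZMod 2) U] [Finite U] [Fintype U] [DecidableEq U],
      #{x : U | x ≠ 0} = 2 ^ finrank (ZMod 2) U - 1 := by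
    intro U _ _ _ _ _
    rw [← card_eq_two_pow, Nat.card_eq_fintype_card, Finset.filter_ne', Finset.card_erase_of_mem
      (Finset.mem_univ _), Finset.card_univ]
  rw [hc, hc, Subspace.dual_finrank_eq] at h
  have hpos : 0 < 2 ^ finrank (ZMod 2) W - 1 :=
    Nat.sub_pos_of_lt (Nat.one_lt_two_pow Module.finrank_pos.ne')
  have h' := Nat.eq_of_mul_eq_mul_left hpos h
  have a1 := Nat.one_le_two_pow (n := finrank (ZMod 2) W - σ.k)
  have a2 := Nat.one_le_two_pow (n := finrank (ZMod 2) (σ.inKer f))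
  exact (Nat.pow_right_injective (le_refl 2) (by dsimp only; omega)).symm

theorem k_le (hF : Flag ρ) : σ.k ≤ finrank (ZMod 2) W := by
  haveI := hF.nontrivial
  obtain ⟨p, hp⟩ := exists_ne (0 : W)
  exact σ.dim p hp ▸ Submodule.finrank_le _

/-- The spread on functionals. -/
def dualSpread (hF : Flag ρ) : Spread (dualRep ρ) where
  k := σ.k
  blk f := (σ.inKer f).dualAnnihilator
  zero' := by
    have : σ.inKer 0 = ⊤ := eq_top_iff.2 fun x _ y _ => rfl
    rw [this, Submodule.dualAnnihilator_top]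
  mem f := (Submodule.mem_dualAnnihilator _).2 fun x hx => σ.inKer_apply hx
  eq_of_mem f h hh hmem := by
    rw [Submodule.mem_dualAnnihilator] at hmem
    have hle : σ.inKer f ≤ σ.inKer h := fun x hx y hy => hmem y (σ.isClosed_inKer f x hx hy)
    have hf : f ≠ 0 := fun e => hh (LinearMap.ext fun x => hmem x (by
      rw [e]
      intro y _
      rfl))
    rw [Submodule.eq_of_le_of_finrank_eq hle (by rw [σ.finrank_inKer hF hf, σ.finrank_inKer hF hh])]
  dim f hf := by
    have h := Subspace.finrank_add_finrank_dualAnnihilator_eq (σ.inKer f)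
    rw [σ.finrank_inKer hF hf] at h
    have := σ.k_le hF
    omega
  equiv g f φ := by
    rw [Submodule.mem_dualAnnihilator, Submodule.mem_dualAnnihilator]
    constructor
    · intro h x hx
      have := h _ ((σ.inKer_equiv g f x).2 hx)
      rwa [dualRep_apply, rep_inv_apply] at this
    · intro h x hx
      rw [dualRep_apply]
      refine h _ ((σ.inKer_equiv g f _).1 ?_)
      rwa [rep_apply_inv]
  closed f f' h hh φ hφ := by
    rw [← Subspace.dualAnnihilator_inf_eq, Submodule.mem_dualAnnihilator] at hh ⊢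
    rw [Submodule.mem_dualAnnihilator] at hφ
    exact fun x hx => hφ x fun y hy =>
      hh y ⟨σ.isClosed_inKer f x hx.1 hy, σ.isClosed_inKer f' x hx.2 hy⟩

theorem dualSpread_blk (hF : Flag ρ) (f : Dual (ZMod 2) W) :
    (σ.dualSpread hF).blk f = (σ.inKer f).dualAnnihilator := rfl

end Spread

/-- Sums of shadows contain shadows of sums. -/
theorem Shadow.linear {σ : Spread ρ} (sh : Shadow σ) (hF : Flag ρ) (hk : σ.k < finrank (ZMod 2) W)
    (p q : W) : sh.S (p + q) ≤ sh.S p ⊔ sh.S q := by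
  classical
  letI := Fintype.ofFinite W
  letI := Fintype.ofFinite (Dual (ZMod 2) W)
  haveI := hF.nontrivial
  let n := finrank (ZMod 2) W
  obtain ⟨T⟩ := (σ.dualSpread hF).exists_shadow hF.dual
    (by show σ.k < _; rwa [Subspace.dual_finrank_eq])
  let O1 : W → Dual (ZMod 2) W → Prop := fun p f => p ∈ σ.inKer f ∧ ∃ x ∈ sh.S p, f x ≠ 0
  let O2 : W → Dual (ZMod 2) W → Prop := fun p f => p ∈ σ.inKer f ∧ ∃ φ ∈ T.S f, φ p ≠ 0
  have hne1 : ∀ p f, O1 p f → p ≠ 0 ∧ f ≠ 0 := fun p f ⟨_, x, hx, h⟩ =>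
    ⟨fun e => h (by rw [e, sh.zero', Submodule.mem_bot] at hx; rw [hx, map_zero]),
      fun e => h (by rw [e]; rfl)⟩
  have hne2 : ∀ p f, O2 p f → p ≠ 0 ∧ f ≠ 0 := fun p f ⟨_, φ, hφ, h⟩ =>
    ⟨fun e => h (by rw [e, map_zero]),
      fun e => h (by rw [e, T.zero', Submodule.mem_bot] at hφ; rw [hφ]; rfl)⟩
  -- invariance
  have hT2 : ∀ g p f, O2 (ρ g p) (dualRep ρ g f) ↔ O2 p f := by
    intro g p f
    refine and_congr (σ.inKer_equiv g f p) ⟨?_, ?_⟩
    · rintro ⟨φ, hφ, h⟩
      refine ⟨dualRep ρ g⁻¹ φ, (T.equiv g f _).1 (by rwa [rep_apply_inv]), ?_⟩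
      rwa [dualRep_apply, inv_inv]
    · rintro ⟨φ, hφ, h⟩
      exact ⟨dualRep ρ g φ, (T.equiv g f φ).2 hφ, by rwa [dualRep_apply, rep_inv_apply]⟩
  have hT1 : ∀ g p f, O1 (ρ g p) (dualRep ρ g f) ↔ O1 p f := by
    intro g p f
    refine and_congr (σ.inKer_equiv g f p) ⟨?_, ?_⟩
    · rintro ⟨x, hx, h⟩
      exact ⟨ρ g⁻¹ x, (sh.equiv g p _).1 (by rwa [rep_apply_inv]), by rwa [dualRep_apply] at h⟩
    · rintro ⟨x, hx, h⟩
      exact ⟨ρ g x, (sh.equiv g p x).2 hx, by rwa [dualRep_apply, rep_inv_apply]⟩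
  have hB2 : ∀ p p' f, p ≠ 0 → p' ≠ 0 → p' ∈ σ.blk p → O2 p f → O2 p' f := by
    rintro p p' f hp hp' hpp ⟨hin, φ, hφ, h⟩
    refine ⟨σ.isClosed_inKer f p hin hpp, ?_⟩
    by_contra hc
    push Not at hc
    refine h ?_
    have hmem : p' ∈ σ.inKer φ := by
      rw [← Subspace.dualAnnihilator_dualCoannihilator_eq (W := σ.inKer φ),
        Submodule.mem_dualCoannihilator]
      exact fun ψ hψ => hc ψ (T.closed f φ hφ hψ)
    exact hmem p (by rw [σ.eq_of_mem p p' hp' hpp]; exact σ.mem p)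
  have hB1 : ∀ p f f', f ∈ (σ.dualSpread hF).blk f' → f ≠ 0 → O1 p f' → O1 p f := by
    rintro p f f' hff hf ⟨hin, x, hx, h⟩
    have heq : σ.inKer f = σ.inKer f' := by
      have := (σ.dualSpread hF).eq_of_mem f' f hf hff
      rw [σ.dualSpread_blk, σ.dualSpread_blk] at this
      rw [← Subspace.dualAnnihilator_dualCoannihilator_eq (W := σ.inKer f), this,
        Subspace.dualAnnihilator_dualCoannihilator_eq]
    refine ⟨heq ▸ hin, ?_⟩
    by_contra hc
    push Not at hc
    refine h (σ.inKer_apply ?_)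
    rw [← heq]
    exact fun y hy => hc y (sh.closed p x hx hy)
  -- transitivity
  have htr1 : ∀ p f p' f', O1 p f → O1 p' f' →
      ∃ g, ρ g p ∈ σ.blk p' ∧ dualRep ρ g f = f' := by
    intro p f p' f' h h'
    obtain ⟨g₁, e₁⟩ := hF.trans p p' (hne1 _ _ h).1 (hne1 _ _ h').1
    obtain ⟨hin, x, hx, hx'⟩ : O1 p' (dualRep ρ g₁ f) := by rw [← e₁]; exact (hT1 g₁ p f).2 h
    obtain ⟨g₂, hg₂, h₂⟩ := sh.dual p' (dualRep ρ g₁ f) f' (hne1 _ _ h').1 hin h'.1 ⟨x, hx, hx'⟩ h'.2
    refine ⟨g₂ * g₁, ?_, ?_⟩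
    · rw [rep_mul, e₁]; exact (hg₂ p').2 (σ.mem p')
    · rw [map_mul, LinearEquiv.mul_apply]; exact (dualRep_eq_iff ρ).2 h₂
  have htr2 : ∀ p f p' f', O2 p f → O2 p' f' →
      ∃ g, ρ g p = p' ∧ dualRep ρ g f ∈ (σ.dualSpread hF).blk f' := by
    intro p f p' f' h h'
    obtain ⟨g₁, e₁⟩ := hF.dual.trans f f' (hne2 _ _ h).2 (hne2 _ _ h').2
    obtain ⟨hin, φ, hφ, hφ'⟩ : O2 (ρ g₁ p) f' := by rw [← e₁]; exact (hT2 g₁ p f).2 h
    have hk' : ∀ x, x ∈ σ.inKer f' → ∀ ψ ∈ (σ.dualSpread hF).blk f',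
        Module.evalEquiv (ZMod 2) W x ψ = 0 := fun x hx ψ hψ =>
      (Submodule.mem_dualAnnihilator _).1 hψ x hx
    obtain ⟨g₂, hg₂, h₂⟩ := T.dual f' (Module.evalEquiv (ZMod 2) W (ρ g₁ p))
      (Module.evalEquiv (ZMod 2) W p') (hne2 _ _ h').2 (hk' _ hin) (hk' _ h'.1) ⟨φ, hφ, hφ'⟩ h'.2
    refine ⟨g₂ * g₁, ?_, ?_⟩
    · rw [rep_mul]
      rw [← sub_eq_zero]
      refine (Module.forall_dual_apply_eq_zero_iff (ZMod 2) _).1 fun ψ => ?_
      rw [map_sub, sub_eq_zero]
      have h3 : dualRep ρ g₂ (dualRep ρ g₂⁻¹ ψ) p' = dualRep ρ g₂⁻¹ ψ (ρ g₁ p) :=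
        h₂ (dualRep ρ g₂⁻¹ ψ)
      rw [rep_apply_inv, dualRep_apply, inv_inv] at h3
      exact h3.symm
    · rw [map_mul, LinearEquiv.mul_apply, e₁]
      exact (hg₂ f').2 ((σ.dualSpread hF).mem f')
  -- the two orbits meet
  have hmeet : ∃ p f, O1 p f ∧ O2 p f := by
    by_contra hcon
    push Not at hcon
    let P : Finset (W × Dual (ZMod 2) W) :=
      {a | a.1 ≠ 0 ∧ a.2 ≠ 0 ∧ a.1 ∈ σ.inKer a.2}
    let P1 : Finset (W × Dual (ZMod 2) W) := {a | O1 a.1 a.2}
    let P2 : Finset (W × Dual (ZMod 2) W) := {a | O2 a.1 a.2}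
    have hsub : P1 ∪ P2 ⊆ P := by
      intro a ha
      simp only [P, P1, P2, Finset.mem_union, Finset.mem_filter, Finset.mem_univ, true_and] at ha ⊢
      rcases ha with h | h
      exacts [⟨(hne1 _ _ h).1, (hne1 _ _ h).2, h.1⟩, ⟨(hne2 _ _ h).1, (hne2 _ _ h).2, h.1⟩]
    have hdisj : Disjoint P1 P2 := by
      rw [Finset.disjoint_left]
      intro a ha hb
      simp only [P1, P2, Finset.mem_filter, Finset.mem_univ, true_and] at ha hb
      exact hcon _ _ ha hb
    have hle := Finset.card_le_card hsub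
    rw [Finset.card_union_of_disjoint hdisj] at hle
    have hfib1 : ∀ (Q : W × Dual (ZMod 2) W → Prop) [DecidablePred Q],
        #{a | Q a} = ∑ x : W, #{f : Dual (ZMod 2) W | Q (x, f)} := fun Q _ => by
      rw [Finset.card_eq_sum_card_fiberwise (f := Prod.fst) (t := univ) fun _ _ => Finset.mem_univ _]
      refine Finset.sum_congr rfl fun x _ => ?_
      refine Finset.card_bij (fun a _ => a.2) (fun a ha => ?_) (fun a ha b hb e => ?_) fun f hf =>
        ⟨(x, f), ?_, rfl⟩
      · simp only [Finset.mem_filter, Finset.mem_univ, true_and] at ha ⊢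
        rw [← ha.2]; exact ha.1
      · simp only [Finset.mem_filter, Finset.mem_univ, true_and] at ha hb
        exact Prod.ext (ha.2.trans hb.2.symm) e
      · simpa using hf
    have hfib2 : ∀ (Q : W × Dual (ZMod 2) W → Prop) [DecidablePred Q],
        #{a | Q a} = ∑ f : Dual (ZMod 2) W, #{x : W | Q (x, f)} := fun Q _ => by
      rw [Finset.card_eq_sum_card_fiberwise (f := Prod.snd) (t := univ) fun _ _ => Finset.mem_univ _]
      refine Finset.sum_congr rfl fun x _ => ?_
      refine Finset.card_bij (fun a _ => a.1) (fun a ha => ?_) (fun a ha b hb e => ?_) fun f hf =>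
        ⟨(f, x), ?_, rfl⟩
      · simp only [Finset.mem_filter, Finset.mem_univ, true_and] at ha ⊢
        rw [← ha.2]; exact ha.1
      · simp only [Finset.mem_filter, Finset.mem_univ, true_and] at ha hb
        exact Prod.ext e (ha.2.trans hb.2.symm)
      · simpa using hf
    have hlow1 : (2 ^ n - 1) * 2 ^ (n - σ.k - 1) ≤ #P1 := by
      rw [hfib1]
      have hx : ∀ x ∈ ({x | x ≠ 0} : Finset W),
          2 ^ (n - σ.k - 1) ≤ #{f : Dual (ZMod 2) W | O1 (x, f).1 (x, f).2} := by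
        intro x hx
        replace hx : x ≠ 0 := by simpa using hx
        obtain ⟨y, hy, hyB⟩ := sh.bigger x hx
        have hA := Subspace.finrank_add_finrank_dualAnnihilator_eq (σ.blk x)
        have hS := Subspace.finrank_add_finrank_dualAnnihilator_eq (sh.S x)
        have hlt : finrank (ZMod 2) (σ.blk x) < finrank (ZMod 2) (sh.S x) :=
          Submodule.finrank_lt_finrank_of_lt (lt_of_le_not_ge (sh.blk_le x) fun h => hyB (h hy))
        rw [σ.dim x hx] at hA hlt
        have hset : ({f : Dual (ZMod 2) W | O1 (x, f).1 (x, f).2} : Finset _) =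
            ({f | f ≠ 0 ∧ f ∈ (σ.blk x).dualAnnihilator} : Finset _) \
              ({f | f ≠ 0 ∧ f ∈ (sh.S x).dualAnnihilator} : Finset _) := by
          ext f
          simp only [Finset.mem_filter, Finset.mem_univ, true_and, Finset.mem_sdiff, O1,
            Submodule.mem_dualAnnihilator, Spread.mem_inKer, not_and, not_forall, exists_prop]
          constructor
          · rintro ⟨a, z, hz, hz'⟩
            exact ⟨⟨fun e => hz' (by rw [e]; rfl), a⟩, fun _ => ⟨z, hz, hz'⟩⟩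
          · rintro ⟨⟨a, b⟩, c⟩
            exact ⟨b, c a⟩
        rw [hset, Finset.card_sdiff_of_subset (fun f hf => by
          simp only [Finset.mem_filter, Finset.mem_univ, true_and] at hf ⊢
          exact ⟨hf.1, Submodule.dualAnnihilator_anti (sh.blk_le x) hf.2⟩),
          card_filter_ne_zero, card_filter_ne_zero]
        have hp : 2 ^ finrank (ZMod 2) ↥(sh.S x).dualAnnihilator ≤ 2 ^ (n - σ.k - 1) :=
          Nat.pow_le_pow_right (by norm_num) (by simp only [n]; omega)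
        have hq : 2 ^ finrank (ZMod 2) ↥(σ.blk x).dualAnnihilator = 2 * 2 ^ (n - σ.k - 1) := by
          rw [← pow_succ']; congr 1; simp only [n]; omega
        have := Nat.one_le_two_pow (n := finrank (ZMod 2) ↥(sh.S x).dualAnnihilator)
        omega
      refine le_trans ?_ ((Finset.sum_le_sum hx).trans
        (Finset.sum_le_sum_of_subset (Finset.subset_univ _)))
      rw [Finset.sum_const, Finset.filter_ne', Finset.card_erase_of_mem (Finset.mem_univ _),
        Finset.card_univ, ← Nat.card_eq_fintype_card, card_eq_two_pow, smul_eq_mul]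
    have hlow2 : (2 ^ n - 1) * 2 ^ (n - σ.k - 1) ≤ #P2 := by
      rw [hfib2]
      have hx : ∀ f ∈ ({f | f ≠ 0} : Finset (Dual (ZMod 2) W)),
          2 ^ (n - σ.k - 1) ≤ #{x : W | O2 (x, f).1 (x, f).2} := by
        intro f hf
        replace hf : f ≠ 0 := by simpa using hf
        obtain ⟨φ, hφ, hφB⟩ := T.bigger f hf
        let D' := σ.inKer f ⊓ (T.S f).dualCoannihilator
        have hlt : D' < σ.inKer f := lt_of_le_not_ge inf_le_left fun h => hφB <| by
          rw [σ.dualSpread_blk, Submodule.mem_dualAnnihilator]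
          exact fun x hx => (Submodule.mem_dualCoannihilator _).1 (h hx).2 φ hφ
        have hltk := Submodule.finrank_lt_finrank_of_lt hlt
        have hset : ({x : W | O2 (x, f).1 (x, f).2} : Finset _) =
            ({x | x ≠ 0 ∧ x ∈ σ.inKer f} : Finset _) \ ({x | x ≠ 0 ∧ x ∈ D'} : Finset _) := by
          ext x
          simp only [Finset.mem_filter, Finset.mem_univ, true_and, Finset.mem_sdiff, O2, D',
            Submodule.mem_inf, Submodule.mem_dualCoannihilator, not_and, not_forall, exists_prop]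
          constructor
          · rintro ⟨a, ψ, hψ, h⟩
            exact ⟨⟨fun e => h (by rw [e, map_zero]), a⟩, fun _ _ => ⟨ψ, hψ, h⟩⟩
          · rintro ⟨⟨a, b⟩, c⟩
            exact ⟨b, c a b⟩
        rw [hset, Finset.card_sdiff_of_subset (fun x hx => by
          simp only [Finset.mem_filter, Finset.mem_univ, true_and] at hx ⊢
          exact ⟨hx.1, hx.2.1⟩), card_filter_ne_zero, card_filter_ne_zero, σ.finrank_inKer hF hf]
        rw [σ.finrank_inKer hF hf] at hltk
        have hp : 2 ^ finrank (ZMod 2) D' ≤ 2 ^ (n - σ.k - 1) :=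
          Nat.pow_le_pow_right (by norm_num) (by simp only [n]; omega)
        have hq : 2 ^ (finrank (ZMod 2) W - σ.k) = 2 * 2 ^ (n - σ.k - 1) := by
          rw [← pow_succ']; congr 1; simp only [n]; omega
        have := Nat.one_le_two_pow (n := finrank (ZMod 2) D')
        omega
      refine le_trans ?_ ((Finset.sum_le_sum hx).trans
        (Finset.sum_le_sum_of_subset (Finset.subset_univ _)))
      rw [Finset.sum_const, Finset.filter_ne', Finset.card_erase_of_mem (Finset.mem_univ _),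
        Finset.card_univ, ← Nat.card_eq_fintype_card, card_eq_two_pow, smul_eq_mul,
        Subspace.dual_finrank_eq]
    have hup : #P = (2 ^ n - 1) * (2 ^ (n - σ.k) - 1) := by
      rw [hfib2, ← Finset.sum_filter_of_ne (p := fun f : Dual (ZMod 2) W => f ≠ 0) (fun f _ h e => h (by
        rw [Finset.card_eq_zero, Finset.filter_eq_empty_iff]; exact fun x _ hx => hx.2.1 e)),
        Finset.sum_congr rfl fun f hf => show
          #{x : W | (x, f).1 ≠ 0 ∧ (x, f).2 ≠ 0 ∧ (x, f).1 ∈ σ.inKer (x, f).2} =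
            2 ^ (n - σ.k) - 1 by
          have hf' : f ≠ 0 := (Finset.mem_filter.1 hf).2
          rw [← σ.finrank_inKer hF hf', ← card_filter_ne_zero]
          simp [hf']]
      rw [Finset.sum_const, Finset.filter_ne', Finset.card_erase_of_mem (Finset.mem_univ _),
        Finset.card_univ, ← Nat.card_eq_fintype_card, card_eq_two_pow, smul_eq_mul,
        Subspace.dual_finrank_eq]
    have hq : 2 ^ (n - σ.k) = 2 * 2 ^ (n - σ.k - 1) := by
      rw [← pow_succ']; congr 1; simp only [n]; omega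
    have hN : 0 < 2 ^ n - 1 := Nat.sub_pos_of_lt (Nat.one_lt_two_pow Module.finrank_pos.ne')
    rw [hup, hq, Nat.mul_sub, mul_one, ← mul_assoc, mul_comm (2 ^ n - 1) 2, mul_assoc] at hle
    have hpos : 0 < (2 ^ n - 1) * 2 ^ (n - σ.k - 1) := Nat.mul_pos hN (Nat.two_pow_pos _)
    omega
  obtain ⟨p₀, f₀, h₁, h₂⟩ := hmeet
  have h12 : ∀ p f, O1 p f → O2 p f := by
    intro p f h
    obtain ⟨g, hg, hgf⟩ := htr1 p₀ f₀ p f h₁ h
    have h' := (hT2 g p₀ f₀).2 h₂
    rw [hgf] at h'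
    exact hB2 _ p f (hne2 _ _ h').1 (hne1 _ _ h).1
      (by rw [σ.eq_of_mem p _ (hne2 _ _ h').1 hg]; exact σ.mem p) h'
  have h21 : ∀ p f, O2 p f → O1 p f := by
    intro p f h
    obtain ⟨g, hg, hgf⟩ := htr2 p₀ f₀ p f h₂ h
    have h' := (hT1 g p₀ f₀).2 h₁
    rw [hg] at h'
    exact hB1 p f _ (by rw [(σ.dualSpread hF).eq_of_mem f _ (hne1 _ _ h').2 hgf]; exact (σ.dualSpread hF).mem f)
      (hne2 _ _ h).2 h'
  rw [← Subspace.dualAnnihilator_dualCoannihilator_eq (W := sh.S p ⊔ sh.S q)]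
  intro x hx
  rw [Submodule.mem_dualCoannihilator]
  intro f hf
  rw [Submodule.mem_dualAnnihilator] at hf
  have hp : p ∈ σ.inKer f := fun y hy => hf y (Submodule.mem_sup_left (sh.blk_le p hy))
  have hq : q ∈ σ.inKer f := fun y hy => hf y (Submodule.mem_sup_right (sh.blk_le q hy))
  by_contra hfx
  obtain ⟨hpq, φ, hφ, hφ'⟩ := h12 _ f ⟨add_mem hp hq, x, hx, hfx⟩
  have key : φ p ≠ 0 ∨ φ q ≠ 0 := by
    by_contra hc
    push Not at hc
    exact hφ' (by rw [map_add, hc.1, hc.2, add_zero])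
  rcases key with h | h
  · obtain ⟨-, y, hy, hy'⟩ := h21 p f ⟨hp, φ, hφ, h⟩
    exact hy' (hf y (Submodule.mem_sup_left hy))
  · obtain ⟨-, y, hy, hy'⟩ := h21 q f ⟨hq, φ, hφ, h⟩
    exact hy' (hf y (Submodule.mem_sup_right hy))

end Cfsg.Agent.SingerTransitive
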