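import Cfsg.Agent.Lib.SingerTransitive.Spread

/-!
# The shadow of a block

* `Spread.pair_trans`, `Spread.pair_stab_trans`: the action on the sum of two blocks
* `Spread.exists_base`: for some pair subspace the stabiliser of a block is transitive on the functionals
  vanishing on the block but not on the pair subspace
* `Shadow`, `Spread.exists_shadow`
-/

set_option autoImplicit false

namespace Cfsg.Agent.SingerTransitive

open Module MulAction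

variable {G : Type*} [Group G] [Finite G] {W : Type*} [AddCommGroup W] [Module (ZMod 2) W] [Finite W]
  {ρ : G →* (W ≃ₗ[ZMod 2] W)}

/-- The subspace of blocks adjacent to a block. -/
structure Shadow (σ : Spread ρ) where
  S : W → Submodule (ZMod 2) W
  zero' : S 0 = ⊥
  closed : ∀ p, σ.IsClosed (S p)
  blk_le : ∀ p, σ.blk p ≤ S p
  of_mem : ∀ p q, q ≠ 0 → q ∈ σ.blk p → S q = S p
  equiv : ∀ g p x, ρ g x ∈ S (ρ g p) ↔ x ∈ S p
  symm : ∀ p q, p ≠ 0 → q ≠ 0 → q ∈ S p → p ∈ S q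
  bigger : ∀ p, p ≠ 0 → ∃ x ∈ S p, x ∉ σ.blk p
  orb : ∀ p x y, p ≠ 0 → x ∈ S p → x ∉ σ.blk p → y ∈ S p → y ∉ σ.blk p →
    ∃ g, g ∈ subStab ρ (σ.blk p) ∧ ρ g x = y
  coset : ∀ p z s, p ≠ 0 → z ∉ S p → s ∈ S p → ∃ g, g ∈ subStab ρ (σ.blk p) ∧ ρ g z = z + s
  dual : ∀ p (f f' : Dual (ZMod 2) W), p ≠ 0 → (∀ x ∈ σ.blk p, f x = 0) → (∀ x ∈ σ.blk p, f' x = 0) →
    (∃ x ∈ S p, f x ≠ 0) → (∃ x ∈ S p, f' x ≠ 0) →
    ∃ g, g ∈ subStab ρ (σ.blk p) ∧ ∀ x, f' (ρ g x) = f x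

namespace Spread

variable (σ : Spread ρ)

theorem pair_trans (hF : Flag ρ) {p q a b : W} (hp : p ≠ 0) (hq : q ∉ σ.blk p)
    (ha : a ∈ σ.blk p ⊔ σ.blk q) (hb : b ∈ σ.blk p ⊔ σ.blk q) (ha0 : a ≠ 0) (hb0 : b ≠ 0) :
    ∃ g ∈ subStab ρ (σ.blk p ⊔ σ.blk q), ρ g a = b := by
  have key : ∀ a b : W, a ∈ σ.blk p ⊔ σ.blk q → b ∈ σ.blk p ⊔ σ.blk q → a ≠ 0 → b ∉ σ.blk a →
      ∃ g ∈ subStab ρ (σ.blk p ⊔ σ.blk q), ρ g a = b := by
    intro a b ha hb ha0 hab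
    have hz : a + b ∉ σ.blk a := fun h => hab <| by
      have := add_mem (σ.mem a) h
      rwa [← add_assoc, add_self, zero_add] at this
    obtain ⟨g, hg, -, hga⟩ := σ.pair_translate hF hp hq (add_mem ha hb) ha
      (fun e => hz (e ▸ zero_mem _)) (σ.not_mem_symm ha0 hz)
    exact ⟨g, hg, by rw [hga, ← add_assoc, add_self, zero_add]⟩
  by_cases hab : b ∈ σ.blk a
  · obtain ⟨c, hc, hca⟩ : ∃ c ∈ σ.blk p ⊔ σ.blk q, c ∉ σ.blk a := by
      by_contra h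
      push Not at h
      have h1 := Submodule.finrank_mono (show σ.blk p ⊔ σ.blk q ≤ σ.blk a from h)
      rw [σ.pair_dim hp hq, σ.dim a ha0] at h1
      have h2 : 0 < finrank (ZMod 2) (σ.blk a) :=
        Nat.pos_of_ne_zero fun e => ha0 (by
          have := σ.mem a
          rw [Submodule.finrank_eq_zero.1 e, Submodule.mem_bot] at this
          exact this)
      rw [σ.dim a ha0] at h2
      omega
    have hc0 : c ≠ 0 := fun e => hca (e ▸ zero_mem _)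
    obtain ⟨g1, hg1, e1⟩ := key a c ha hc ha0 hca
    obtain ⟨g2, hg2, e2⟩ := key c b hc hb hc0 fun h =>
      hca (σ.eq_of_mem a b hb0 hab ▸ (σ.eq_of_mem c b hb0 h).symm ▸ σ.mem c)
    exact ⟨g2 * g1, mul_mem hg2 hg1, by rw [rep_mul, e1, e2]⟩
  · exact key a b ha hb ha0 hab

theorem pair_stab_trans (hF : Flag ρ) {p q x y : W} (hp : p ≠ 0) (hq : q ∉ σ.blk p)
    (hx : x ∈ σ.blk p ⊔ σ.blk q) (hy : y ∈ σ.blk p ⊔ σ.blk q) (hxp : x ∉ σ.blk p)
    (hyp : y ∉ σ.blk p) :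
    ∃ g ∈ subStab ρ (σ.blk p ⊔ σ.blk q) ⊓ subStab ρ (σ.blk p), ρ g x = y := by
  have hpP : p ∈ σ.blk p ⊔ σ.blk q := Submodule.mem_sup_left (σ.mem p)
  obtain ⟨g1, hg1, e1⟩ := σ.pair_trans hF hp hq hx hy (fun e => hxp (e ▸ zero_mem _))
    (fun e => hyp (e ▸ zero_mem _))
  have hp1 : ρ g1 p ≠ 0 := fun e => hp ((ρ g1).map_eq_zero_iff.1 e)
  by_cases hin : ρ g1 p ∈ σ.blk p
  · exact ⟨g1, ⟨hg1, σ.subStab_blk (σ.eq_of_mem p _ hp1 hin)⟩, e1⟩
  · have hy1 : y ∉ σ.blk (ρ g1 p) := fun h => hxp ((σ.equiv g1 p x).1 (by rwa [e1]))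
    have hP := σ.pair_eq hp hq hpP ((hg1 p).2 hpP) hp hin
    obtain ⟨b, hb, c, hc, hbc⟩ : ∃ b ∈ σ.blk p, ∃ c ∈ σ.blk (ρ g1 p), b + c = y :=
      Submodule.mem_sup.1 (hP.symm ▸ hy)
    have hc0 : c ≠ 0 := fun e => hyp (by rw [← hbc, e, add_zero]; exact hb)
    have hb0 : b ≠ 0 := fun e => hy1 (by rw [← hbc, e, zero_add]; exact hc)
    have hcblk := σ.eq_of_mem _ c hc0 hc
    have hcP : c ∈ σ.blk p ⊔ σ.blk q := hP ▸ Submodule.mem_sup_right hc
    obtain ⟨g2, hg2, e2, e3⟩ := σ.pair_translate hF hp hq hy hcP (fun e => hyp (e ▸ zero_mem _))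
      (σ.not_mem_symm hc0 (by rw [hcblk]; exact hy1))
    refine ⟨g2 * g1, ⟨mul_mem hg2 hg1, σ.subStab_blk ?_⟩, by rw [rep_mul, e1, e2]⟩
    have hmem : ρ g2 (ρ g1 p) ∈ σ.blk p := by
      have h := (σ.equiv g2 c (ρ g1 p)).2 (by rw [hcblk]; exact σ.mem _)
      rwa [e3, ← hbc, add_left_comm, add_self, add_zero, σ.eq_of_mem p b hb0 hb] at h
    rw [rep_mul]
    exact σ.eq_of_mem p _ (fun e => hp1 ((ρ g2).map_eq_zero_iff.1 e)) hmem

theorem exists_base (hF : Flag ρ) (hk : σ.k < finrank (ZMod 2) W) : ∃ p x : W, p ≠ 0 ∧ x ∉ σ.blk p ∧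
    ∀ f f' : Dual (ZMod 2) W, (∀ z ∈ σ.blk p, f z = 0) → (∀ z ∈ σ.blk p, f' z = 0) →
      (∃ z ∈ σ.blk p ⊔ σ.blk x, f z ≠ 0) → (∃ z ∈ σ.blk p ⊔ σ.blk x, f' z ≠ 0) →
      ∃ g ∈ subStab ρ (σ.blk p), ∀ z, f' (ρ g z) = f z := by
  classical
  haveI : Fact (Nat.Prime 2) := ⟨Nat.prime_two⟩
  haveI : Finite (Dual (ZMod 2) W) := Module.finite_of_finite (ZMod 2)
  letI : MulAction G (Dual (ZMod 2) W) := MulAction.compHom _ (dualRep ρ)
  obtain ⟨T⟩ : Nonempty (Sylow 2 G) := inferInstance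
  let τ := ρ.comp (T : Subgroup G).subtype
  haveI := hF.nontrivial
  obtain ⟨p, -, hp, hfix⟩ := exists_fixed_mod τ T.2 (U := ⊥) (U' := ⊤)
    (fun g x hx => by rw [Submodule.mem_bot] at hx ⊢; simp [hx]) (fun _ _ _ => Submodule.mem_top)
    bot_lt_top
  rw [Submodule.mem_bot] at hp
  have hTp : ∀ t ∈ (T : Subgroup G), ρ t p = p := fun t ht =>
    sub_eq_zero.1 ((Submodule.mem_bot _).1 (hfix ⟨t, ht⟩))
  have hTB : ∀ t ∈ (T : Subgroup G), t ∈ subStab ρ (σ.blk p) :=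
    fun t ht => σ.subStab_of_fix (hTp t ht)
  have hBtop : σ.blk p ≠ ⊤ := fun e => by
    have := σ.dim p hp
    rw [e, finrank_top] at this
    omega
  obtain ⟨x, -, hx, hxfix⟩ := exists_fixed_mod τ T.2 (U := σ.blk p) (U' := ⊤)
    (fun g z hz => (hTB g.1 g.2 z).2 hz) (fun _ _ _ => Submodule.mem_top) hBtop.lt_top
  let P := σ.blk p ⊔ σ.blk x
  have hxP : x ∈ P := Submodule.mem_sup_right (σ.mem x)
  have hpP : p ∈ P := Submodule.mem_sup_left (σ.mem p)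
  have hTP : ∀ t ∈ (T : Subgroup G), t ∈ subStab ρ P := fun t ht => mem_subStab_of fun z hz => by
    have h : ρ t x ∈ P := by
      have := add_mem (Submodule.mem_sup_left (T := σ.blk x) (hxfix ⟨t, ht⟩)) hxP
      rwa [sub_add_cancel] at this
    have h2 := (σ.equiv_sup (g := t)).2 hz
    rw [hTp t ht] at h2
    exact sup_le le_sup_left (σ.closed p x _ h) h2
  obtain ⟨f₂, hf₂x, hf₂B⟩ : ∃ f : Dual (ZMod 2) W, f x = 1 ∧ ∀ z ∈ σ.blk p, f z = 0 := by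
    by_contra hc
    push Not at hc
    refine hx ((Subspace.forall_mem_dualAnnihilator_apply_eq_zero_iff _ x).1 fun φ hφ => ?_)
    rcases zmod2 (φ x) with h | h
    · exact h
    · obtain ⟨z, hz, hz'⟩ := hc φ h
      exact absurd ((Submodule.mem_dualAnnihilator _).1 hφ z hz) hz'
  obtain ⟨f₁, hf₁⟩ : ∃ f : Dual (ZMod 2) W, f p = 1 := by
    by_contra hc
    push Not at hc
    exact hp ((Module.forall_dual_apply_eq_zero_iff (ZMod 2) p).1 fun φ =>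
      (zmod2 (φ p)).resolve_right (hc φ))
  have hdual : ∀ (t : (T : Subgroup G)) (U : Submodule (ZMod 2) W),
      t.1 ∈ subStab ρ U → ∀ φ ∈ U.dualAnnihilator,
        (dualRep ρ).comp (T : Subgroup G).subtype t φ ∈ U.dualAnnihilator := by
    intro t U ht φ hφ
    rw [Submodule.mem_dualAnnihilator] at hφ ⊢
    exact fun z hz => hφ _ (((inv_mem ht : t.1⁻¹ ∈ subStab ρ U) z).2 hz)
  obtain ⟨f₀, hf₀B, hf₀P, hf₀fix⟩ := exists_fixed_mod ((dualRep ρ).comp (T : Subgroup G).subtype) T.2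
    (U := P.dualAnnihilator) (U' := (σ.blk p).dualAnnihilator)
    (fun t => hdual t P (hTP t.1 t.2)) (fun t => hdual t _ (hTB t.1 t.2))
    (lt_of_le_not_ge (Submodule.dualAnnihilator_anti le_sup_left) fun h => by
      have := (Submodule.mem_dualAnnihilator _).1
        (h ((Submodule.mem_dualAnnihilator _).2 hf₂B)) x hxP
      simp [hf₂x] at this)
  rw [Submodule.mem_dualAnnihilator] at hf₀B hf₀P
  push Not at hf₀P
  obtain ⟨z₀, hz₀, hz₀'⟩ := hf₀P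
  have hf₀T : ∀ t ∈ (T : Subgroup G), ∀ z ∈ P, f₀ (ρ t z) = f₀ z := by
    intro t ht z hz
    have := (Submodule.mem_dualAnnihilator _).1 (hf₀fix ⟨t⁻¹, inv_mem ht⟩) z hz
    rw [LinearMap.sub_apply, sub_eq_zero] at this
    have h' : f₀ (ρ t⁻¹⁻¹ z) = f₀ z := this
    rwa [inv_inv] at h'
  -- the stabiliser of the class of `f₀` is transitive on it
  let K : Subgroup G :=
    { carrier := {g | g ∈ subStab ρ P ∧ ∀ z ∈ P, f₀ (ρ g z) = f₀ z}
      mul_mem' := fun {a b} ha hb => ⟨mul_mem ha.1 hb.1, fun z hz => by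
        rw [rep_mul, ha.2 _ ((hb.1 z).2 hz), hb.2 z hz]⟩
      one_mem' := ⟨one_mem _, fun z _ => by rw [map_one]; rfl⟩
      inv_mem' := fun {a} ha => ⟨inv_mem ha.1, fun z hz => by
        rw [← ha.2 _ (((inv_mem ha.1) z).2 hz), rep_apply_inv]⟩ }
  have hTK : (T : Subgroup G) ≤ K := fun t ht => ⟨hTP t ht, hf₀T t ht⟩
  have hTv : (T : Subgroup G) ≤ vStab ρ p := hTp
  obtain ⟨g₁, hg₁⟩ := trans_dual (restrictRep (ρ := ρ) P) (fun a b ha hb => by
      obtain ⟨g, hg, e⟩ := σ.pair_trans hF hp hx a.2 b.2 (fun h => ha (Subtype.ext h))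
        (fun h => hb (Subtype.ext h))
      exact ⟨⟨g, hg⟩, Subtype.ext e⟩)
    (f := f₀.comp P.subtype) (f' := f₁.comp P.subtype)
    (fun e => hz₀' (LinearMap.congr_fun e ⟨z₀, hz₀⟩))
    (fun e => by
      have := LinearMap.congr_fun e ⟨p, hpP⟩
      simp [hf₁] at this)
  have hg₁' : ∀ z ∈ P, f₁ (ρ g₁.1 z) = f₀ z := fun z hz => hg₁ ⟨z, hz⟩
  have horbp : ∀ φ, φ ∈ orbit (vStab ρ p) f₁ ↔ φ p = 1 := by
    refine fun φ => ⟨?_, fun h => ?_⟩
    · rintro ⟨g, rfl⟩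
      show f₁ (ρ g.1⁻¹ p) = 1
      rw [show ρ g.1⁻¹ p = p from (g⁻¹).2, hf₁]
    · obtain ⟨g, hg, hgx⟩ := hF.anti p hp f₁ φ hf₁ h
      exact ⟨⟨g, hg⟩, (dualRep_eq_iff ρ).2 hgx⟩
  have hcardp : ∃ m, Nat.card (orbit (vStab ρ p) f₁) = 2 ^ m := by
    refine ⟨finrank (ZMod 2) ↥(Submodule.span (ZMod 2) {p}).dualAnnihilator, ?_⟩
    rw [← card_eq_two_pow]
    have hA : ∀ φ : Dual (ZMod 2) W, φ ∈ (Submodule.span (ZMod 2) {p}).dualAnnihilator ↔ φ p = 0 :=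
      fun φ => by
        rw [Submodule.mem_dualAnnihilator]
        refine ⟨fun h => h p (Submodule.mem_span_singleton_self p), fun h z hz => ?_⟩
        rcases mem_span_single.1 hz with rfl | e
        · exact map_zero φ
        · rw [e, h]
    exact Nat.card_congr
      { toFun := fun φ => ⟨φ.1 + f₁, (hA _).2 (by
          rw [LinearMap.add_apply, (horbp _).1 φ.2, hf₁, zmod2_add_self])⟩
        invFun := fun a => ⟨a.1 + f₁, (horbp _).2 (by rw [LinearMap.add_apply, (hA _).1 a.2, hf₁, zero_add])⟩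
        left_inv := fun φ => Subtype.ext (by simp [add_assoc, add_self])
        right_inv := fun a => Subtype.ext (by simp [add_assoc, add_self]) }
  have hTtrans : ∀ φ φ' : Dual (ZMod 2) W, φ p = 1 → φ' p = 1 →
      ∃ t ∈ (T : Subgroup G), ∀ z, φ' (ρ t z) = φ z := by
    intro φ φ' h h'
    obtain ⟨m, hm⟩ := hcardp
    obtain ⟨a, ha, hae⟩ := sylow_orbit (T.subtype hTv) f₁ hm ((horbp φ).2 h)
    obtain ⟨b, hb, hbe⟩ := sylow_orbit (T.subtype hTv) f₁ hm ((horbp φ').2 h')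
    refine ⟨b.1 * a.1⁻¹, mul_mem (Subgroup.mem_subgroupOf.1 hb) (inv_mem (Subgroup.mem_subgroupOf.1 ha)),
      (dualRep_eq_iff ρ).1 ?_⟩
    rw [map_mul, LinearEquiv.mul_apply]
    have ha' : dualRep ρ a.1 f₁ = φ := hae
    have hb' : dualRep ρ b.1 f₁ = φ' := hbe
    rw [← ha', rep_inv_apply, hb']
  have horbK : ∀ φ, φ ∈ orbit K f₀ ↔ ∀ z ∈ P, φ z = f₀ z := by
    refine fun φ => ⟨?_, fun h => ?_⟩
    · rintro ⟨g, rfl⟩ z hz
      exact (g⁻¹).2.2 z hz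
    · have hφ : ∀ ψ : Dual (ZMod 2) W, (∀ z ∈ P, ψ z = f₀ z) → ∀ z ∈ P,
          dualRep ρ g₁.1 ψ z = f₁ z := by
        intro ψ hψ z hz
        rw [dualRep_apply, hψ _ (((inv_mem g₁.2) z).2 hz), ← hg₁' _ (((inv_mem g₁.2) z).2 hz),
          rep_apply_inv]
      obtain ⟨t, ht, htx⟩ := hTtrans _ _ ((hφ f₀ (fun z _ => rfl) p hpP).trans hf₁)
        ((hφ φ h p hpP).trans hf₁)
      have hz : ∀ z, φ (ρ (g₁.1⁻¹ * t * g₁.1) z) = f₀ z := fun z => by
        have := htx (ρ g₁.1 z)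
        rw [dualRep_apply, dualRep_apply, rep_inv_apply] at this
        rwa [rep_mul, rep_mul]
      have hmem : g₁.1⁻¹ * t * g₁.1 ∈ subStab ρ P :=
        mul_mem (mul_mem (inv_mem g₁.2) (hTP t ht)) g₁.2
      refine ⟨⟨g₁.1⁻¹ * t * g₁.1, hmem, fun z hzP => ?_⟩, (dualRep_eq_iff ρ).2 hz⟩
      rw [← h _ ((hmem z).2 hzP), hz]
  have hT0 : ∀ φ : Dual (ZMod 2) W, (∀ z ∈ P, φ z = f₀ z) →
      ∃ t ∈ (T : Subgroup G), ∀ z, φ (ρ t z) = f₀ z := by
    intro φ h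
    have hcard : Nat.card (orbit K f₀) = 2 ^ finrank (ZMod 2) ↥P.dualAnnihilator := by
      rw [← card_eq_two_pow]
      exact Nat.card_congr
        { toFun := fun φ => ⟨φ.1 + f₀, (Submodule.mem_dualAnnihilator _).2 fun z hz => by
            rw [LinearMap.add_apply, (horbK _).1 φ.2 z hz, zmod2_add_self]⟩
          invFun := fun a => ⟨a.1 + f₀, (horbK _).2 fun z hz => by
            rw [LinearMap.add_apply, (Submodule.mem_dualAnnihilator _).1 a.2 z hz, zero_add]⟩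
          left_inv := fun φ => Subtype.ext (by simp [add_assoc, add_self])
          right_inv := fun a => Subtype.ext (by simp [add_assoc, add_self]) }
    obtain ⟨t, ht, hte⟩ := sylow_orbit (T.subtype hTK) f₀ hcard ((horbK φ).2 h)
    exact ⟨t.1, Subgroup.mem_subgroupOf.1 ht, (dualRep_eq_iff ρ).1 hte⟩
  -- all classes
  have hall : ∀ f : Dual (ZMod 2) W, (∀ z ∈ σ.blk p, f z = 0) → (∃ z ∈ P, f z ≠ 0) →
      ∃ g ∈ subStab ρ (σ.blk p), ∀ z, f (ρ g z) = f₀ z := by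
    intro f hfB ⟨z₁, hz₁, hz₁'⟩
    let G2 := subStab ρ P ⊓ subStab ρ (σ.blk p)
    let B' : Submodule (ZMod 2) P := (σ.blk p).comap P.subtype
    let κ : P → Option Bool := fun z => if z = 0 then none else some (decide (z ∈ B'))
    let κ' : Dual (ZMod 2) P → Option Bool := fun φ =>
      if φ = 0 then none else some (decide (∀ z ∈ B', φ z = 0))
    suffices hh : ∃ g : G2, ∀ z : P, (f.comp P.subtype)
        (((restrictRep (ρ := ρ) P).comp (Subgroup.inclusion inf_le_left)) g z) =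
        (f₀.comp P.subtype) z by
      obtain ⟨g, hg⟩ := hh
      obtain ⟨t, ht, htx⟩ := hT0 (dualRep ρ g.1⁻¹ f) fun z hz => by
        rw [dualRep_apply, inv_inv]; exact hg ⟨z, hz⟩
      refine ⟨g.1 * t, mul_mem g.2.2 (hTB t ht), fun z => ?_⟩
      have := htx z
      rwa [dualRep_apply, inv_inv, ← rep_mul] at this
    refine dual_classes _ κ κ' ?_ ?_ ?_ (Nat.card_le_card_of_injective _ Subtype.val_injective) ?_
    · intro a b hab
      by_cases ha : a = 0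
      · by_cases hb : b = 0
        · exact ⟨1, by rw [ha, hb, map_zero]⟩
        · simp [κ, ha, hb] at hab
      · by_cases hb : b = 0
        · simp [κ, ha, hb] at hab
        · simp only [κ, if_neg ha, if_neg hb, Option.some.injEq, decide_eq_decide] at hab
          by_cases haB : a ∈ B'
          · obtain ⟨g, hg, e⟩ := σ.pair_trans hF hp hx a.2 b.2 (fun h => ha (Subtype.ext h))
              (fun h => hb (Subtype.ext h))
            have hgp : ρ g p ∈ σ.blk p := by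
              have h := (σ.equiv g a.1 p).2 (by
                rw [σ.eq_of_mem p a.1 (fun h => ha (Subtype.ext h)) haB]; exact σ.mem p)
              rwa [e, σ.eq_of_mem p b.1 (fun h => hb (Subtype.ext h)) (hab.1 haB)] at h
            exact ⟨⟨g, hg, σ.subStab_blk
              (σ.eq_of_mem p _ (fun h => hp ((ρ g).map_eq_zero_iff.1 h)) hgp)⟩, Subtype.ext e⟩
          · obtain ⟨g, hg, e⟩ := σ.pair_stab_trans hF hp hx a.2 b.2 haB fun h => haB (hab.2 h)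
            exact ⟨⟨g, hg⟩, Subtype.ext e⟩
    · intro g φ
      have h0 : dualRep ((restrictRep (ρ := ρ) P).comp (Subgroup.inclusion inf_le_left)) g φ = 0 ↔
          φ = 0 := LinearEquiv.map_eq_zero_iff _
      have h1 : (∀ z ∈ B', dualRep ((restrictRep (ρ := ρ) P).comp
          (Subgroup.inclusion inf_le_left)) g φ z = 0) ↔ ∀ z ∈ B', φ z = 0 := by
        constructor
        · intro h z hz
          have := h ⟨ρ g.1 z.1, (g.2.1 _).2 z.2⟩ ((g.2.2 _).2 hz)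
          rw [dualRep_apply] at this
          refine (congrArg φ ?_).symm.trans this
          exact Subtype.ext (rep_inv_apply ρ g.1 z.1)
        · intro h z hz
          exact h _ (((inv_mem g.2.2 : g.1⁻¹ ∈ subStab ρ (σ.blk p)) z.1).2 hz)
      simp only [κ', h0, h1]
    · have hp' : f₁.comp P.subtype ≠ 0 := fun e => by
        have := LinearMap.congr_fun e ⟨p, hpP⟩
        simp [hf₁] at this
      have h0' : f₀.comp P.subtype ≠ 0 := fun e => hz₀' (LinearMap.congr_fun e ⟨z₀, hz₀⟩)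
      rintro (_ | _ | _)
      · exact ⟨0, by simp [κ']⟩
      · refine ⟨f₁.comp P.subtype, ?_⟩
        have : ¬ ∀ z ∈ B', (f₁.comp P.subtype) z = 0 := fun h => by
          have := h ⟨p, hpP⟩ (σ.mem p)
          simp [hf₁] at this
        simp only [κ', if_neg hp', decide_eq_false this]
      · refine ⟨f₀.comp P.subtype, ?_⟩
        have : ∀ z ∈ B', (f₀.comp P.subtype) z = 0 := fun z hz => hf₀B z.1 hz
        simp only [κ', if_neg h0', decide_eq_true this]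
    · have h0' : f₀.comp P.subtype ≠ 0 := fun e => hz₀' (LinearMap.congr_fun e ⟨z₀, hz₀⟩)
      have h' : f.comp P.subtype ≠ 0 := fun e => hz₁' (LinearMap.congr_fun e ⟨z₁, hz₁⟩)
      have a0 : ∀ z ∈ B', (f₀.comp P.subtype) z = 0 := fun z hz => hf₀B z.1 hz
      have a1 : ∀ z ∈ B', (f.comp P.subtype) z = 0 := fun z hz => hfB z.1 hz
      simp only [κ', if_neg h0', if_neg h', decide_eq_true a0, decide_eq_true a1]
  refine ⟨p, x, hp, hx, fun f f' hf hf' hne hne' => ?_⟩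
  obtain ⟨a, ha, hax⟩ := hall f hf hne
  obtain ⟨b, hb, hbx⟩ := hall f' hf' hne'
  refine ⟨b * a⁻¹, mul_mem hb (inv_mem ha), fun z => ?_⟩
  rw [rep_mul, hbx, ← hax, rep_apply_inv]

theorem exists_shadow (hF : Flag ρ) (hk : σ.k < finrank (ZMod 2) W) : Nonempty (Shadow σ) := by
  classical
  obtain ⟨p₀, x₀, hp₀, hx₀, hbase⟩ := σ.exists_base hF hk
  let B := σ.blk p₀
  let N := subStab ρ B
  let O : Set W := {y | ∃ g ∈ N, ρ g x₀ = y}
  have hON : ∀ g ∈ N, ∀ y ∈ O, ρ g y ∈ O := fun g hg y ⟨h, hh, e⟩ =>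
    ⟨g * h, mul_mem hg hh, by rw [rep_mul, e]⟩
  have hOB : ∀ y ∈ O, y ∉ B := fun y ⟨g, hg, e⟩ h => hx₀ ((hg x₀).1 (e ▸ h))
  have hpair : ∀ g ∈ N, ∀ z, ρ g z ∈ B ⊔ σ.blk (ρ g x₀) ↔ z ∈ B ⊔ σ.blk x₀ := fun g hg z => by
    have := σ.equiv_sup (g := g) (p := p₀) (q := x₀) (x := z)
    rwa [σ.blk_map_eq hp₀ hg] at this
  have hOpair : ∀ y ∈ O, ∀ z ∈ B ⊔ σ.blk y, z ∉ B → z ∈ O := by
    intro y ⟨g, hg, e⟩ z hz hzB
    subst e
    have h1 : ρ g⁻¹ z ∈ B ⊔ σ.blk x₀ := (hpair g hg _).1 (by rwa [rep_apply_inv])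
    have h2 : ρ g⁻¹ z ∉ B := fun h => hzB (((inv_mem hg) z).1 h)
    obtain ⟨k, hk, e⟩ := σ.pair_stab_trans hF hp₀ hx₀ (Submodule.mem_sup_right (σ.mem x₀)) h1 hx₀ h2
    exact ⟨g * k, mul_mem hg hk.2, by rw [rep_mul, e, rep_apply_inv]⟩
  have hclass : ∀ y ∈ O, ∀ f f' : Dual (ZMod 2) W, (∀ z ∈ B, f z = 0) → (∀ z ∈ B, f' z = 0) →
      (∃ z ∈ B ⊔ σ.blk y, f z ≠ 0) → (∃ z ∈ B ⊔ σ.blk y, f' z ≠ 0) →
      ∃ g ∈ N, ∀ z, f' (ρ g z) = f z := by
    intro y ⟨h, hh, e⟩ f f' hf hf' hne hne'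
    subst e
    have hback : ∀ φ : Dual (ZMod 2) W, (∀ z ∈ B, φ z = 0) → (∃ z ∈ B ⊔ σ.blk (ρ h x₀), φ z ≠ 0) →
        (∀ z ∈ B, dualRep ρ h⁻¹ φ z = 0) ∧ ∃ z ∈ B ⊔ σ.blk x₀, dualRep ρ h⁻¹ φ z ≠ 0 := by
      intro φ hφ ⟨z, hz, hz'⟩
      refine ⟨fun w hw => ?_, ρ h⁻¹ z, (hpair h hh _).1 (by rwa [rep_apply_inv]), ?_⟩
      · rw [dualRep_apply, inv_inv]; exact hφ _ ((hh w).2 hw)
      · rwa [dualRep_apply, inv_inv, rep_apply_inv]
    obtain ⟨g, hg, hgx⟩ := hbase _ _ (hback f hf hne).1 (hback f' hf' hne').1 (hback f hf hne).2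
      (hback f' hf' hne').2
    refine ⟨h * g * h⁻¹, mul_mem (mul_mem hh hg) (inv_mem hh), fun z => ?_⟩
    have := hgx (ρ h⁻¹ z)
    rw [dualRep_apply, dualRep_apply, inv_inv, rep_apply_inv] at this
    rwa [rep_mul, rep_mul]
  have hoff : ∀ y ∈ O, ∀ z, z ∉ B ⊔ σ.blk y → ∀ q ∈ B ⊔ σ.blk y, ∃ g ∈ N, ρ g z = z + q := by
    intro y hy z hz q hq
    have h := coset_invariant (ρ.comp N.subtype) {w | ∃ g ∈ N, ρ g z = w}
      (fun g w ⟨k, hk, e⟩ => ⟨g.1 * k, mul_mem g.2 hk, by rw [rep_mul, e]; rfl⟩)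
      (B ⊔ σ.blk y) ?_ hz hq
    · exact h.2 ⟨1, one_mem _, by rw [map_one]; rfl⟩
    · intro f f' heq hne
      by_cases hfB : ∀ b ∈ B, f b = 0
      · have hf'B : ∀ b ∈ B, f' b = 0 := fun b hb => by
          rw [← heq b (Submodule.mem_sup_left hb), hfB b hb]
        obtain ⟨g, hg, hgx⟩ := hclass y hy f f' hfB hf'B hne (by
          obtain ⟨w, hw, hw'⟩ := hne
          exact ⟨w, hw, by rwa [← heq w hw]⟩)
        exact ⟨⟨g, hg⟩, hgx⟩
      · push Not at hfB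
        obtain ⟨b, hb, hfb⟩ := hfB
        have hb0 : b ≠ 0 := fun e => hfb (e ▸ map_zero f)
        obtain ⟨g, hgb, hgx⟩ := hF.anti b hb0 f f' (zmod2_ne hfb)
          (by rw [← heq b (Submodule.mem_sup_left hb)]; exact zmod2_ne hfb)
        refine ⟨⟨g, ?_⟩, hgx⟩
        have := σ.subStab_of_fix hgb
        rwa [σ.eq_of_mem p₀ b hb0 hb] at this
  let S₀ : Submodule (ZMod 2) W :=
    { carrier := {y | y ∈ B ∨ y ∈ O}
      zero_mem' := Or.inl (zero_mem _)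
      smul_mem' := fun c y hy => by
        rcases zmod2 c with rfl | rfl
        · exact Or.inl (by simp)
        · simpa using hy
      add_mem' := by
        intro a b ha hb
        have key : ∀ a b : W, a ∈ B ∨ a ∈ O → b ∈ O → a ∈ B ⊔ σ.blk b → a + b ∈ B ∨ a + b ∈ O :=
          fun a b _ hb h => (em (a + b ∈ B)).imp id fun h' =>
            hOpair b hb _ (add_mem h (Submodule.mem_sup_right (σ.mem b))) h'
        rcases hb with hb | hb
        · rcases ha with ha | ha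
          · exact Or.inl (add_mem ha hb)
          · rw [add_comm]; exact key b a (Or.inl hb) ha (Submodule.mem_sup_left hb)
        · rcases ha with ha | ha
          · exact key a b (Or.inl ha) hb (Submodule.mem_sup_left ha)
          · by_cases h : a ∈ B ⊔ σ.blk b
            · exact key a b (Or.inr ha) hb h
            · obtain ⟨g, hg, e⟩ := hoff b hb a h b (Submodule.mem_sup_right (σ.mem b))
              exact Or.inr (e ▸ hON g hg a ha) }
  have hS₀ : ∀ y, y ∈ S₀ ↔ y ∈ B ∨ y ∈ O := fun y => Iff.rfl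
  have hinv : ∀ g ∈ N, ∀ y ∈ S₀, ρ g y ∈ S₀ := fun g hg y hy =>
    (hS₀ y).1 hy |>.elim (fun h => Or.inl ((hg y).2 h)) fun h => Or.inr (hON g hg y h)
  have hclosed₀ : σ.IsClosed S₀ := by
    intro y hy w hw
    rcases (hS₀ y).1 hy with h | h
    · exact Or.inl (σ.isClosed_blk p₀ y h hw)
    · exact (em (w ∈ B)).imp id fun h' => hOpair y h w (Submodule.mem_sup_right hw) h'
  choose γ hγ using fun p : W => show ∃ g, p ≠ 0 → ρ g p = p₀ from
    if h : p = 0 then ⟨1, fun h' => absurd h h'⟩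
    else ⟨(hF.trans p p₀ h hp₀).choose, fun _ => (hF.trans p p₀ h hp₀).choose_spec⟩
  let S : W → Submodule (ZMod 2) W := fun p =>
    if p = 0 then ⊥ else S₀.comap (ρ (γ p) : W →ₗ[ZMod 2] W)
  have hSeq : ∀ p g, p ≠ 0 → ρ g p ∈ B → ∀ y, y ∈ S p ↔ ρ g y ∈ S₀ := by
    intro p g hp hgp y
    have hmem : g * (γ p)⁻¹ ∈ N := by
      refine σ.subStab_blk (σ.eq_of_mem p₀ _ (fun e => hp₀ ((ρ _).map_eq_zero_iff.1 e)) ?_)
      rw [rep_mul, show ρ (γ p)⁻¹ p₀ = p by rw [← hγ p hp, rep_inv_apply]]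
      exact hgp
    show y ∈ (if p = 0 then ⊥ else S₀.comap (ρ (γ p) : W →ₗ[ZMod 2] W)) ↔ _
    rw [if_neg hp]
    constructor
    · intro h
      have := hinv _ hmem _ h
      rwa [show ((ρ (γ p) : W →ₗ[ZMod 2] W) y) = ρ (γ p) y from rfl, ← rep_mul,
        inv_mul_cancel_right] at this
    · intro h
      have := hinv _ (inv_mem hmem) _ h
      rwa [← rep_mul, mul_inv_rev, inv_inv, inv_mul_cancel_right] at this
  have hS0 : S 0 = ⊥ := if_pos rfl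
  have hγB : ∀ p, p ≠ 0 → ρ (γ p) p ∈ B := fun p hp => (hγ p hp).symm ▸ σ.mem p₀
  have hblk : ∀ p, p ≠ 0 → ∀ y, ρ (γ p) y ∈ B ↔ y ∈ σ.blk p := fun p hp y => by
    have := σ.equiv (γ p) p y
    rwa [hγ p hp] at this
  have hconj : ∀ p, p ≠ 0 → ∀ k ∈ N, (γ p)⁻¹ * k * γ p ∈ subStab ρ (σ.blk p) := by
    intro p hp k hk y
    rw [← hblk p hp, ← rep_mul, show γ p * ((γ p)⁻¹ * k * γ p) = k * γ p by group, rep_mul, hk,
      hblk p hp]
  have hequiv : ∀ g p x, ρ g x ∈ S (ρ g p) ↔ x ∈ S p := by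
    intro g p x
    by_cases hp : p = 0
    · subst hp
      rw [map_zero, hS0, Submodule.mem_bot, Submodule.mem_bot, LinearEquiv.map_eq_zero_iff]
    · have hp' : ρ g p ≠ 0 := fun e => hp ((ρ g).map_eq_zero_iff.1 e)
      rw [hSeq p (γ (ρ g p) * g) hp (by rw [rep_mul]; exact hγB _ hp'),
        hSeq _ (γ (ρ g p)) hp' (hγB _ hp'), rep_mul]
  refine ⟨⟨S, hS0, ?_, ?_, ?_, hequiv, ?_, ?_, ?_, ?_, ?_⟩⟩
  · intro p y hy w hw
    by_cases hp : p = 0
    · subst hp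
      rw [hS0, Submodule.mem_bot] at hy ⊢
      subst hy
      rwa [σ.zero', Submodule.mem_bot] at hw
    · rw [hSeq p _ hp (hγB p hp)] at hy ⊢
      exact hclosed₀ _ hy ((σ.equiv _ _ _).2 hw)
  · intro p y hy
    by_cases hp : p = 0
    · subst hp; rw [σ.zero'] at hy; rw [hS0]; exact hy
    · rw [hSeq p _ hp (hγB p hp)]
      exact Or.inl ((hblk p hp y).2 hy)
  · intro p q hq hqp
    have hp : p ≠ 0 := fun e => hq (by rwa [e, σ.zero', Submodule.mem_bot] at hqp)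
    refine Submodule.ext fun y => ?_
    rw [hSeq q (γ p) hq ((hblk p hp q).2 hqp), hSeq p _ hp (hγB p hp)]
  · intro p q hp hq hqp
    rw [hSeq p _ hp (hγB p hp)] at hqp
    rw [← hequiv (γ p), hγ p hp]
    generalize hq' : ρ (γ p) q = q' at hqp
    have hq0 : q' ≠ 0 := fun e => hq ((ρ (γ p)).map_eq_zero_iff.1 (hq'.trans e))
    rcases (hS₀ q').1 hqp with h | ⟨k, hk, e⟩
    · rw [hSeq q' 1 hq0 (by rw [map_one]; exact h), map_one]
      exact Or.inl (σ.mem p₀)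
    · subst e
      obtain ⟨g, hg, e⟩ := σ.pair_trans hF hp₀ hx₀ (Submodule.mem_sup_right (σ.mem x₀))
        (Submodule.mem_sup_left (σ.mem p₀)) (fun e => hx₀ (e ▸ zero_mem _)) hp₀
      rw [hSeq _ (g * k⁻¹) hq0 (by rw [rep_mul, rep_inv_apply, e]; exact σ.mem p₀), rep_mul]
      have h1 : ρ k⁻¹ p₀ ∈ B ⊔ σ.blk x₀ :=
        Submodule.mem_sup_left (((inv_mem hk) p₀).2 (σ.mem p₀))
      have h2 := (hg _).2 h1
      exact (em (ρ g (ρ k⁻¹ p₀) ∈ B)).imp id fun h' =>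
        hOpair x₀ ⟨1, one_mem _, by rw [map_one]; rfl⟩ _ h2 h'
  · intro p hp
    refine ⟨ρ (γ p)⁻¹ x₀, ?_, fun h => hx₀ ?_⟩
    · rw [hSeq p _ hp (hγB p hp), rep_apply_inv]
      exact Or.inr ⟨1, one_mem _, by rw [map_one]; rfl⟩
    · have := (hblk p hp _).2 h
      rwa [rep_apply_inv] at this
  · intro p x y hp hx hxp hy hyp
    rw [hSeq p _ hp (hγB p hp)] at hx hy
    obtain ⟨a, ha, ea⟩ := ((hS₀ _).1 hx).resolve_left fun h => hxp ((hblk p hp x).1 h)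
    obtain ⟨b, hb, eb⟩ := ((hS₀ _).1 hy).resolve_left fun h => hyp ((hblk p hp y).1 h)
    refine ⟨(γ p)⁻¹ * (b * a⁻¹) * γ p, hconj p hp _ (mul_mem hb (inv_mem ha)), ?_⟩
    rw [rep_mul, rep_mul, rep_mul, ← ea, rep_inv_apply, eb, rep_inv_apply]
  · intro p z s hp hz hs
    rw [hSeq p _ hp (hγB p hp)] at hz hs
    obtain ⟨k, hk, e⟩ : ∃ k ∈ N, ρ k (ρ (γ p) z) = ρ (γ p) z + ρ (γ p) s := by
      rcases (hS₀ _).1 hs with h | h
      · refine hoff x₀ ⟨1, one_mem _, by rw [map_one]; rfl⟩ _ (fun h' => hz ?_) _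
          (Submodule.mem_sup_left h)
        exact (em (ρ (γ p) z ∈ B)).imp id fun h'' =>
          hOpair x₀ ⟨1, one_mem _, by rw [map_one]; rfl⟩ _ h' h''
      · refine hoff _ h _ (fun h' => hz ?_) _ (Submodule.mem_sup_right (σ.mem _))
        exact (em (ρ (γ p) z ∈ B)).imp id fun h'' => hOpair _ h _ h' h''
    refine ⟨(γ p)⁻¹ * k * γ p, hconj p hp k hk, ?_⟩
    rw [rep_mul, rep_mul, e, ← map_add, rep_inv_apply]
  · intro p f f' hp hf hf' hne hne'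
    have hmove : ∀ φ : Dual (ZMod 2) W, (∀ y ∈ σ.blk p, φ y = 0) → (∃ y ∈ S p, φ y ≠ 0) →
        ∃ k ∈ N, (∀ y ∈ B, dualRep ρ (k * γ p) φ y = 0) ∧
          ∃ y ∈ B ⊔ σ.blk x₀, dualRep ρ (k * γ p) φ y ≠ 0 := by
      intro φ hφ ⟨y, hy, hy'⟩
      rw [hSeq p _ hp (hγB p hp)] at hy
      obtain ⟨a, ha, ea⟩ := ((hS₀ _).1 hy).resolve_left fun h => hy' (hφ y ((hblk p hp y).1 h))
      refine ⟨a⁻¹, inv_mem ha, fun w hw => ?_, x₀, Submodule.mem_sup_right (σ.mem x₀), ?_⟩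
      · rw [dualRep_apply]
        refine hφ _ ((hblk p hp _).1 ?_)
        rw [← rep_mul, mul_inv_rev, inv_inv, mul_inv_cancel_left]
        exact (ha w).2 hw
      · rwa [dualRep_apply, mul_inv_rev, inv_inv, rep_mul, ea, rep_inv_apply]
    obtain ⟨a, ha, ha1, ha2⟩ := hmove f hf hne
    obtain ⟨b, hb, hb1, hb2⟩ := hmove f' hf' hne'
    obtain ⟨g, hg, hgx⟩ := hbase _ _ ha1 hb1 ha2 hb2
    refine ⟨(γ p)⁻¹ * (b⁻¹ * g * a) * γ p, hconj p hp _ (mul_mem (mul_mem (inv_mem hb) hg) ha),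
      fun z => ?_⟩
    have := hgx (ρ (a * γ p) z)
    rw [dualRep_apply, dualRep_apply, rep_inv_apply, ← rep_mul, ← rep_mul] at this
    rwa [show (b * γ p)⁻¹ * g * (a * γ p) = (γ p)⁻¹ * (b⁻¹ * g * a) * γ p by group] at this

end Spread

end Cfsg.Agent.SingerTransitive
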