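import Cfsg.Agent.Lib.SingerTransitive.TwoTrans
import Cfsg.Agent.Lib.SpreadField.Commute
import Mathlib.FieldTheory.Finite.Basic
import Mathlib.FieldTheory.Galois.Basic
import Mathlib.RingTheory.LittleWedderburn

/-!
# An element of primitive prime order and its normaliser

* `Prim`: `z` has prime order `p` dividing no `2 ^ j - 1` below the dimension
* `Prim.comm`, `Prim.pow_card`: the centraliser is a cyclic field group
* `Prim.normal`, `Prim.norm_pow`, `Prim.norm_comm`, `Prim.card_dvd`: the semilinear normaliser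
-/

set_option autoImplicit false

namespace Cfsg.Agent.SingerTransitive

open Module

variable {Z : Type*} [AddCommGroup Z] [Module (ZMod 2) Z] [Finite Z]

/-- An element whose order is a primitive prime divisor for the dimension. -/
structure Prim (z : Z ≃ₗ[ZMod 2] Z) (p : ℕ) : Prop where
  prime : p.Prime
  odd : p ≠ 2
  ord : orderOf z = p
  dim_pos : 0 < finrank (ZMod 2) Z
  prim : ∀ j : ℕ, 0 < j → j < finrank (ZMod 2) Z → ¬ p ∣ 2 ^ j - 1

theorem coe_pow' (g : Z ≃ₗ[ZMod 2] Z) (n : ℕ) (x : Z) : (g ^ n) x = (⇑g)^[n] x := by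
  induction n generalizing x with
  | zero => rfl
  | succ n ih => rw [pow_succ, LinearEquiv.mul_apply, ih, Function.iterate_succ_apply]

namespace Prim

variable {z : Z ≃ₗ[ZMod 2] Z} {p : ℕ}

theorem no_invariant (hz : Prim z p) {U : Submodule (ZMod 2) Z} (hU : ∀ x ∈ U, z x ∈ U) :
    U = ⊥ ∨ U = ⊤ := by
  classical
  by_contra hc
  rw [not_or] at hc
  obtain ⟨hb, ht⟩ := hc
  obtain ⟨u, hu, hu0⟩ := Submodule.exists_mem_ne_zero_of_ne_bot hb
  have hit : ∀ x, (⇑z)^[p] x = x := fun x => by
    rw [← coe_pow', ← hz.ord, pow_orderOf_eq_one]; rfl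
  let σ : U →+ U :=
    { toFun := fun x => ⟨z x.1, hU _ x.2⟩
      map_zero' := Subtype.ext (map_zero z)
      map_add' := fun a b => Subtype.ext (map_add z _ _) }
  have hσ : ∀ x, (⇑σ)^[p] x = x := fun x => Subtype.ext <| by
    have : ∀ n, ((⇑σ)^[n] x).1 = (⇑z)^[n] x.1 := fun n => by
      induction n with
      | zero => rfl
      | succ n ih =>
        rw [Function.iterate_succ_apply', Function.iterate_succ_apply']
        exact congrArg z ih
    rw [this, hit]
  have hid := SpreadField.eq_id_of_fixed hz.prime hz.odd hz.prim (card_eq_two_pow (V := U))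
    (Submodule.finrank_le U) σ hσ (Or.inl (Submodule.finrank_lt ht))
  have hall := SpreadField.eq_id_of_fixed hz.prime hz.odd hz.prim (card_eq_two_pow (V := Z))
    le_rfl z.toLinearMap.toAddMonoidHom hit
    (Or.inr ⟨u, hu0, congrArg Subtype.val (hid ⟨u, hu⟩)⟩)
  have : z = 1 := LinearEquiv.ext hall
  have h1 := hz.ord
  rw [this, orderOf_one] at h1
  exact hz.prime.ne_one h1.symm

variable (z) in
/-- The centraliser algebra. -/
def cent : Subalgebra (ZMod 2) (Module.End (ZMod 2) Z) :=
  Subalgebra.centralizer (ZMod 2) {(z : Z →ₗ[ZMod 2] Z)}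

theorem mem_cent {a : Module.End (ZMod 2) Z} : a ∈ cent z ↔ ∀ x, a (z x) = z (a x) := by
  rw [cent, Subalgebra.mem_centralizer_iff]
  simp only [Set.mem_singleton_iff, forall_eq]
  exact ⟨fun h x => (LinearMap.congr_fun h x).symm, fun h => LinearMap.ext fun x => (h x).symm⟩

theorem coe_mem_cent {g : Z ≃ₗ[ZMod 2] Z} (h : g * z = z * g) :
    (g : Z →ₗ[ZMod 2] Z) ∈ cent z :=
  mem_cent.2 fun x => LinearEquiv.congr_fun h x

theorem inj_of_mem (hz : Prim z p) {a : Module.End (ZMod 2) Z} (ha : a ∈ cent z) (h0 : a ≠ 0) :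
    Function.Injective a := by
  rw [← LinearMap.ker_eq_bot]
  refine (hz.no_invariant fun x hx => ?_).resolve_right fun h => h0 (LinearMap.ker_eq_top.1 h)
  rw [LinearMap.mem_ker] at hx ⊢
  rw [mem_cent.1 ha, hx, map_zero]

instance finite_end : Finite (Module.End (ZMod 2) Z) :=
  Finite.of_injective (fun f : Module.End (ZMod 2) Z => (f : Z → Z)) DFunLike.coe_injective

instance finite_cent : Finite (cent z) := Subtype.finite

theorem isDomain (hz : Prim z p) : IsDomain (cent z) := by
  haveI : Nontrivial Z := Module.finrank_pos_iff.1 hz.dim_pos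
  haveI : Nontrivial (cent z) := ⟨⟨1, 0, fun h => by
    obtain ⟨x, hx⟩ := exists_ne (0 : Z)
    exact hx (LinearMap.congr_fun (congrArg Subtype.val h) x)⟩⟩
  haveI : NoZeroDivisors (cent z) := ⟨fun {a b} h => by
    by_cases ha : a = 0
    · exact Or.inl ha
    · refine Or.inr (Subtype.ext (LinearMap.ext fun x => hz.inj_of_mem a.2 (fun e => ha (Subtype.ext e)) ?_))
      show a.1 (b.1 x) = a.1 0
      rw [map_zero]
      exact LinearMap.congr_fun (congrArg Subtype.val h) x⟩
  exact NoZeroDivisors.to_isDomain _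

/-- The field structure. -/
noncomputable abbrev field (hz : Prim z p) : Field (cent z) :=
  haveI := hz.isDomain
  (Finite.isDomain_to_isField (cent z)).toField

theorem comm (hz : Prim z p) {a b : Module.End (ZMod 2) Z} (ha : a ∈ cent z) (hb : b ∈ cent z) :
    a * b = b * a := by
  haveI := hz.isDomain
  exact congrArg Subtype.val ((Finite.isDomain_to_isField (cent z)).mul_comm ⟨a, ha⟩ ⟨b, hb⟩)

theorem card_cent (hz : Prim z p) : Nat.card (cent z) = 2 ^ finrank (ZMod 2) Z := by
  letI := hz.field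
  haveI : Nontrivial Z := Module.finrank_pos_iff.1 hz.dim_pos
  obtain ⟨x, hx⟩ := exists_ne (0 : Z)
  let ev : cent z →ₗ[ZMod 2] Z :=
    { toFun := fun a => a.1 x
      map_add' := fun a b => rfl
      map_smul' := fun c a => rfl }
  have hev : Function.Injective ev := (injective_iff_map_eq_zero ev).2 fun a ha => by
    by_contra h
    exact hx (hz.inj_of_mem a.2 (fun e => h (Subtype.ext e)) (by rw [map_zero]; exact ha))
  have hle := LinearMap.finrank_le_finrank_of_injective hev
  rw [card_eq_two_pow]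
  congr 1
  refine le_antisymm hle (le_of_not_gt fun hlt => ?_)
  letI := Fintype.ofFinite (cent z)
  let ζ : cent z := ⟨(z : Z →ₗ[ZMod 2] Z), coe_mem_cent rfl⟩
  have hζ : ζ ≠ 0 := fun e => hx (z.map_eq_zero_iff.1 (LinearMap.congr_fun (congrArg Subtype.val e) x))
  have hpow := congrArg Subtype.val (FiniteField.pow_card_sub_one_eq_one ζ hζ)
  rw [← Nat.card_eq_fintype_card, card_eq_two_pow] at hpow
  refine hz.prim _ Module.finrank_pos hlt ?_
  rw [← hz.ord]
  refine orderOf_dvd_of_pow_eq_one (LinearEquiv.ext fun y => ?_)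
  have := LinearMap.congr_fun hpow y
  rw [SubmonoidClass.coe_pow, Module.End.coe_pow] at this
  rw [coe_pow']
  exact this

/-- An element commuting with `z` has order dividing the order of the multiplicative group. -/
theorem pow_card (hz : Prim z p) {g : Z ≃ₗ[ZMod 2] Z} (hg : g * z = z * g) :
    g ^ (2 ^ finrank (ZMod 2) Z - 1) = 1 := by
  letI := hz.field
  letI := Fintype.ofFinite (cent z)
  haveI : Nontrivial Z := Module.finrank_pos_iff.1 hz.dim_pos
  obtain ⟨x, hx⟩ := exists_ne (0 : Z)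
  let a : cent z := ⟨(g : Z →ₗ[ZMod 2] Z), coe_mem_cent hg⟩
  have ha : a ≠ 0 := fun e => hx (g.map_eq_zero_iff.1 (LinearMap.congr_fun (congrArg Subtype.val e) x))
  have hpow := congrArg Subtype.val (FiniteField.pow_card_sub_one_eq_one a ha)
  rw [← Nat.card_eq_fintype_card, hz.card_cent] at hpow
  refine LinearEquiv.ext fun y => ?_
  have := LinearMap.congr_fun hpow y
  rw [SubmonoidClass.coe_pow, Module.End.coe_pow] at this
  rw [coe_pow']
  exact this

variable (z) in
/-- The normaliser of the centraliser. -/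
def norm : Subgroup (Z ≃ₗ[ZMod 2] Z) where
  carrier := {n | ∀ a, a ∈ cent z → n.conjAlgEquiv (ZMod 2) a ∈ cent z}
  mul_mem' := fun {m n} hm hn a ha => by
    have h := hm _ (hn a ha)
    rwa [show (m * n).conjAlgEquiv (ZMod 2) a = m.conjAlgEquiv (ZMod 2) (n.conjAlgEquiv (ZMod 2) a) from
      LinearMap.ext fun x => rfl]
  one_mem' := fun a ha => by rwa [show (1 : Z ≃ₗ[ZMod 2] Z).conjAlgEquiv (ZMod 2) a = a from
    LinearMap.ext fun x => rfl]
  inv_mem' := fun {n} hn a ha => by
    have hinj : Function.Injective fun b : cent z =>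
        (⟨n.conjAlgEquiv (ZMod 2) b.1, hn b.1 b.2⟩ : cent z) := fun b c e =>
      Subtype.ext ((n.conjAlgEquiv (ZMod 2)).injective (congrArg Subtype.val e))
    obtain ⟨b, hb⟩ := (Finite.injective_iff_surjective.1 hinj) ⟨a, ha⟩
    rw [← show n.conjAlgEquiv (ZMod 2) b.1 = a from congrArg Subtype.val hb,
      show n⁻¹.conjAlgEquiv (ZMod 2) (n.conjAlgEquiv (ZMod 2) b.1) = b.1 from LinearMap.ext fun x => by
        show n.symm (n (b.1 (n.symm (n x)))) = b.1 x
        rw [n.symm_apply_apply, n.symm_apply_apply]]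
    exact b.2

/-- It is enough that the conjugate of `z` commutes with `z`. -/
theorem normal (hz : Prim z p) {n : Z ≃ₗ[ZMod 2] Z} (h : n * z * n⁻¹ * z = z * (n * z * n⁻¹)) :
    n ∈ norm z := by
  let w : Module.End (ZMod 2) Z := n.conjAlgEquiv (ZMod 2) (z : Z →ₗ[ZMod 2] Z)
  have hw : w ∈ cent z := mem_cent.2 fun x => LinearEquiv.congr_fun h x
  have hpre : ∀ b : cent z, (n.conjAlgEquiv (ZMod 2)).symm b.1 ∈ cent z := fun b => by
    refine mem_cent.2 fun x => ?_
    have := LinearMap.congr_fun (hz.comm b.2 hw) (n x)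
    change b.1 (n (z (n.symm (n x)))) = n (z (n.symm (b.1 (n x)))) at this
    show n.symm (b.1 (n (z x))) = z (n.symm (b.1 (n x)))
    rw [n.symm_apply_apply] at this
    rw [this, n.symm_apply_apply]
  intro a ha
  have hinj : Function.Injective fun b : cent z => (⟨_, hpre b⟩ : cent z) := fun b c e =>
    Subtype.ext ((n.conjAlgEquiv (ZMod 2)).symm.injective (congrArg Subtype.val e))
  obtain ⟨b, hb⟩ := (Finite.injective_iff_surjective.1 hinj) ⟨a, ha⟩
  rw [← show (n.conjAlgEquiv (ZMod 2)).symm b.1 = a from congrArg Subtype.val hb, AlgEquiv.apply_symm_apply]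
  exact b.2

variable (z) in
/-- The action on the field. -/
def normHom : norm z →* (cent z ≃ₐ[ZMod 2] cent z) where
  toFun n :=
    { toFun := fun a => ⟨n.1.conjAlgEquiv (ZMod 2) a.1, n.2 a.1 a.2⟩
      invFun := fun a => ⟨(n⁻¹).1.conjAlgEquiv (ZMod 2) a.1, (n⁻¹).2 a.1 a.2⟩
      left_inv := fun a => Subtype.ext (LinearMap.ext fun x => by
        show n.1.symm (n.1 (a.1 (n.1.symm (n.1 x)))) = a.1 x
        rw [n.1.symm_apply_apply, n.1.symm_apply_apply])
      right_inv := fun a => Subtype.ext (LinearMap.ext fun x => by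
        show n.1 (n.1.symm (a.1 (n.1 (n.1.symm x)))) = a.1 x
        rw [n.1.apply_symm_apply, n.1.apply_symm_apply])
      map_mul' := fun a b => Subtype.ext (map_mul (n.1.conjAlgEquiv (ZMod 2)) a.1 b.1)
      map_add' := fun a b => Subtype.ext (map_add (n.1.conjAlgEquiv (ZMod 2)) a.1 b.1)
      commutes' := fun c => Subtype.ext (AlgEquiv.commutes (n.1.conjAlgEquiv (ZMod 2)) c) }
  map_one' := AlgEquiv.ext fun a => Subtype.ext (LinearMap.ext fun _ => rfl)
  map_mul' m n := AlgEquiv.ext fun a => Subtype.ext (LinearMap.ext fun _ => rfl)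

theorem normHom_ker {n : norm z} (h : normHom z n = 1) : n.1 * z = z * n.1 := by
  refine LinearEquiv.ext fun x => ?_
  have := LinearMap.congr_fun (congrArg Subtype.val (AlgEquiv.congr_fun h ⟨(z : Z →ₗ[ZMod 2] Z),
    coe_mem_cent rfl⟩)) (n.1 x)
  change n.1 (z (n.1.symm (n.1 x))) = z (n.1 x) at this
  rwa [n.1.symm_apply_apply] at this

theorem card_gal (hz : Prim z p) : Nat.card (cent z ≃ₐ[ZMod 2] cent z) = finrank (ZMod 2) Z ∧
    ∀ a b : cent z ≃ₐ[ZMod 2] cent z, a * b = b * a := by
  letI := hz.field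
  have hfin : finrank (ZMod 2) (cent z) = finrank (ZMod 2) Z := by
    have h := hz.card_cent
    rw [card_eq_two_pow] at h
    exact Nat.pow_right_injective (le_refl 2) h
  haveI : IsGalois (ZMod 2) (cent z) := inferInstance
  haveI : FiniteDimensional (ZMod 2) (cent z) := Module.Finite.of_finite
  refine ⟨by rw [IsGalois.card_aut_eq_finrank, hfin], fun a b => ?_⟩
  obtain ⟨g, hg⟩ := IsCyclic.exists_zpow_surjective (G := cent z ≃ₐ[ZMod 2] cent z)
  obtain ⟨i, rfl⟩ := hg a
  obtain ⟨j, rfl⟩ := hg b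
  exact zpow_mul_comm g i j

/-- The dimension-th power of a normalising element commutes with `z`. -/
theorem norm_pow (hz : Prim z p) {n : Z ≃ₗ[ZMod 2] Z} (hn : n ∈ norm z) :
    n ^ finrank (ZMod 2) Z * z = z * n ^ finrank (ZMod 2) Z := by
  have h : normHom z ((⟨n, hn⟩ : norm z) ^ finrank (ZMod 2) Z) = 1 := by
    rw [map_pow, ← hz.card_gal.1]
    exact pow_card_eq_one'
  exact normHom_ker h

/-- Commutators of normalising elements commute with `z`. -/
theorem norm_comm (hz : Prim z p) {m n : Z ≃ₗ[ZMod 2] Z} (hm : m ∈ norm z) (hn : n ∈ norm z) :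
    m * n * m⁻¹ * n⁻¹ * z = z * (m * n * m⁻¹ * n⁻¹) := by
  have h : normHom z ((⟨m, hm⟩ : norm z) * ⟨n, hn⟩ * (⟨m, hm⟩ : norm z)⁻¹ * (⟨n, hn⟩ : norm z)⁻¹) = 1 := by
    simp only [map_mul, map_inv]
    rw [hz.card_gal.2 (normHom z ⟨m, hm⟩) (normHom z ⟨n, hn⟩)]
    group
  exact normHom_ker h

/-- A group normalising `z` has order dividing the dimension times that of its part commuting with `z`. -/
theorem card_dvd (hz : Prim z p) (H C : Subgroup (Z ≃ₗ[ZMod 2] Z)) (hH : H ≤ norm z) (hCH : C ≤ H)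
    (hC : ∀ g ∈ H, g * z = z * g → g ∈ C) : Nat.card H ∣ finrank (ZMod 2) Z * Nat.card C := by
  let f := (normHom z).comp (Subgroup.inclusion hH)
  have hker : f.ker ≤ C.subgroupOf H := fun g hg => hC g.1 g.2 (normHom_ker (n := Subgroup.inclusion hH g) hg)
  rw [← f.ker.index_mul_card, Subgroup.index_ker, ← hz.card_gal.1]
  refine Nat.mul_dvd_mul f.range.card_subgroup_dvd_card ?_
  rw [← Nat.card_congr (Subgroup.subgroupOfEquivOfLe hCH).toEquiv]
  exact Subgroup.card_dvd_of_le hker

end Prim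

end Cfsg.Agent.SingerTransitive
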