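import Cfsg.Agent.Lib.SingerTransitive.Fourier
import Cfsg.Agent.Lib.TransvGroup.Generation

/-!
# A linear group over GF(2) that is 2-transitive on non-zero vectors

* `TwoTrans.class_trans`: two-point stabilisers are transitive on the non-zero classes of functionals
* `TwoTrans.elation`, `TwoTrans.swap`: every independent triple carries a full L3(2)
* `TwoTrans.kill`: no invariant subspace of small codimension through a pair
* `TwoTrans.eq_top_of_tv`: a transvection forces the full group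
-/

set_option autoImplicit false

namespace Cfsg.Agent.SingerTransitive

open Module MulAction

variable {V : Type*} [AddCommGroup V] [Module (ZMod 2) V]

/-- 2-transitivity on non-zero vectors in dimension at least three. -/
structure TwoTrans (X : Subgroup (V ≃ₗ[ZMod 2] V)) : Prop where
  three_le : 3 ≤ finrank (ZMod 2) V
  trans : ∀ a b c d : V, a ≠ 0 → b ≠ 0 → a ≠ b → c ≠ 0 → d ≠ 0 → c ≠ d →
    ∃ g ∈ X, g a = c ∧ g b = d

/-- The stabiliser of a vector. -/
def pStab (X : Subgroup (V ≃ₗ[ZMod 2] V)) (v : V) : Subgroup (V ≃ₗ[ZMod 2] V) where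
  carrier := {g | g ∈ X ∧ g v = v}
  mul_mem' := fun {a b} ha hb => ⟨X.mul_mem ha.1 hb.1, by
    show a (b v) = v
    rw [hb.2, ha.2]⟩
  one_mem' := ⟨X.one_mem, rfl⟩
  inv_mem' := fun {a} ha => ⟨X.inv_mem ha.1, by
    show a.symm v = v
    rw [LinearEquiv.symm_apply_eq, ha.2]⟩

theorem mem_pStab {X : Subgroup (V ≃ₗ[ZMod 2] V)} {v : V} {g : V ≃ₗ[ZMod 2] V} :
    g ∈ pStab X v ↔ g ∈ X ∧ g v = v := Iff.rfl

variable [Finite V]

theorem exists_dual_eq_one {x : V} {U : Submodule (ZMod 2) V} (hx : x ∉ U) :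
    ∃ f : Dual (ZMod 2) V, f x = 1 ∧ ∀ y ∈ U, f y = 0 := by
  by_contra hc
  push Not at hc
  refine hx ((Subspace.forall_mem_dualAnnihilator_apply_eq_zero_iff U x).1 fun f hf => ?_)
  rcases zmod2 (f x) with h | h
  · exact h
  · obtain ⟨y, hy, hfy⟩ := hc f h
    exact absurd ((Submodule.mem_dualAnnihilator _).1 hf y hy) hfy

theorem card_dual_class {v : V} (hv : v ≠ 0) :
    Nat.card {f : Dual (ZMod 2) V // f v = 1} = 2 ^ (finrank (ZMod 2) V - 1) := by
  haveI : Finite (Dual (ZMod 2) V) := Module.finite_of_finite (ZMod 2)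
  obtain ⟨f0, hf0, -⟩ := exists_dual_eq_one (x := v) (U := ⊥) (by simpa using hv)
  let A := (Submodule.span (ZMod 2) {v}).dualAnnihilator
  have hA : ∀ f : Dual (ZMod 2) V, f ∈ A ↔ f v = 0 := fun f => by
    rw [Submodule.mem_dualAnnihilator]
    exact ⟨fun h => h v (Submodule.mem_span_singleton_self v), fun h y hy => by
      rcases mem_span_single.1 hy with rfl | rfl
      exacts [map_zero f, h]⟩
  let e : {f : Dual (ZMod 2) V // f v = 1} ≃ A :=
    { toFun := fun f => ⟨f.1 + f0, (hA _).2 (by rw [LinearMap.add_apply, f.2, hf0, zmod2_add_self])⟩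
      invFun := fun a => ⟨a.1 + f0, by rw [LinearMap.add_apply, (hA _).1 a.2, hf0, zero_add]⟩
      left_inv := fun f => Subtype.ext (by simp [add_assoc, add_self])
      right_inv := fun a => Subtype.ext (by simp [add_assoc, add_self]) }
  rw [Nat.card_congr e, card_eq_two_pow]
  congr 1
  have := Subspace.finrank_add_finrank_dualAnnihilator_eq (Submodule.span (ZMod 2) {v})
  rw [finrank_span_singleton hv] at this
  simp only [A]
  omega

instance finite_linearEquiv : Finite (V ≃ₗ[ZMod 2] V) := DFunLike.finite _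

namespace TwoTrans

variable {X : Subgroup (V ≃ₗ[ZMod 2] V)}

omit [Finite V] in
theorem trans_one (hX : TwoTrans X) {a b : V} (ha : a ≠ 0) (hb : b ≠ 0) : ∃ g ∈ X, g a = b := by
  have hnt : ∀ x : V, x ≠ 0 → ∃ y : V, y ≠ 0 ∧ x ≠ y := by
    intro x hx
    by_contra hc
    push Not at hc
    have htop : (⊤ : Submodule (ZMod 2) V) ≤ Submodule.span (ZMod 2) {x} := fun y _ => by
      by_cases hy : y = 0
      · exact hy ▸ zero_mem _
      · exact hc y hy ▸ Submodule.mem_span_singleton_self x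
    have h1 := congrArg (fun S : Submodule (ZMod 2) V => finrank (ZMod 2) S) (top_le_iff.1 htop)
    simp only [finrank_top] at h1
    rw [finrank_span_singleton hx] at h1
    have := hX.three_le
    omega
  obtain ⟨a', ha', haa⟩ := hnt a ha
  obtain ⟨b', hb', hbb⟩ := hnt b hb
  obtain ⟨g, hg, h, -⟩ := hX.trans a a' b b' ha ha' haa hb hb' hbb
  exact ⟨g, hg, h⟩

theorem stab_dual (hX : TwoTrans X) {v : V} (hv : v ≠ 0) {f f' : Dual (ZMod 2) V} (hf : f ≠ 0)
    (hf' : f' ≠ 0) (h : f v = f' v) : ∃ g ∈ X, g v = v ∧ ∀ x, f' (g x) = f x := by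
  classical
  let κ : V → Option Bool := fun x => if x = 0 then none else some (decide (x = v))
  let κ' : Dual (ZMod 2) V → Option Bool := fun φ => if φ = 0 then none else some (decide (φ v = 1))
  suffices hh : ∃ g : pStab X v, ∀ x, f' ((pStab X v).subtype g x) = f x by
    obtain ⟨g, hg⟩ := hh
    exact ⟨g, g.2.1, g.2.2, hg⟩
  refine dual_classes (pStab X v).subtype κ κ' ?_ ?_ ?_ ?_ (by simp [κ', hf, hf', h])
  · intro x y hxy
    by_cases hx : x = 0
    · refine ⟨1, ?_⟩
      by_cases hy : y = 0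
      · simp [hx, hy]
      · simp [κ, hx, hy] at hxy
    · by_cases hy : y = 0
      · simp [κ, hx, hy] at hxy
      · simp only [κ, if_neg hx, if_neg hy, Option.some.injEq, decide_eq_decide] at hxy
        by_cases hxv : x = v
        · exact ⟨1, by simp [hxv, hxy.1 hxv]⟩
        · obtain ⟨g, hg, h1, h2⟩ := hX.trans v x v y hv hx (Ne.symm hxv) hv hy
            fun e => hxv (hxy.2 e.symm)
          exact ⟨⟨g, hg, h1⟩, h2⟩
  · intro g φ
    have h1 : dualRep (pStab X v).subtype g φ v = φ v := by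
      rw [dualRep_apply]
      exact congrArg φ (g⁻¹).2.2
    have h0 : dualRep (pStab X v).subtype g φ = 0 ↔ φ = 0 := LinearEquiv.map_eq_zero_iff _
    simp only [κ', h0, h1]
  · obtain ⟨f1, hf1, -⟩ := exists_dual_eq_one (x := v) (U := ⊥) (by simpa using hv)
    obtain ⟨y, hy⟩ : ∃ y, y ∉ Submodule.span (ZMod 2) ({v} : Set V) := by
      by_contra hc
      push Not at hc
      have h1 := congrArg (fun S : Submodule (ZMod 2) V => finrank (ZMod 2) S)
        (eq_top_iff.2 fun y _ => hc y)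
      simp only [finrank_top] at h1
      rw [finrank_span_singleton hv] at h1
      have := hX.three_le
      omega
    obtain ⟨f0, hf0y, hf0⟩ := exists_dual_eq_one hy
    have e0 : f0 ≠ 0 := fun e => by simp [e] at hf0y
    have e1 : f1 ≠ 0 := fun e => by simp [e] at hf1
    have e2 : f0 v = 0 := hf0 v (Submodule.mem_span_singleton_self v)
    rintro (_ | _ | _)
    exacts [⟨0, by simp [κ']⟩, ⟨f0, by simp [κ', e0, e2]⟩, ⟨f1, by simp [κ', e1, hf1]⟩]
  · exact Nat.card_le_card_of_injective _ Subtype.val_injective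

theorem class_aux (hX : TwoTrans X) {v : V} (hv : v ≠ 0) : ∃ u : V, u ≠ 0 ∧ u ≠ v ∧
    ∀ f f' : Dual (ZMod 2) V, f v = 1 → f' v = 1 → f u = f' u →
      ∃ g ∈ X, g v = v ∧ g u = u ∧ ∀ x, f' (g x) = f x := by
  classical
  haveI : Fact (Nat.Prime 2) := ⟨Nat.prime_two⟩
  let G := pStab X v
  obtain ⟨T⟩ : Nonempty (Sylow 2 G) := inferInstance
  have hlt : Submodule.span (ZMod 2) ({v} : Set V) < ⊤ := lt_top_iff_ne_top.2 fun h => by
    have h1 := congrArg (fun S : Submodule (ZMod 2) V => finrank (ZMod 2) S) h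
    simp only [finrank_top] at h1
    rw [finrank_span_singleton hv] at h1
    have := hX.three_le
    omega
  obtain ⟨u, -, hu, hfix⟩ := exists_fixed_mod (G.subtype.comp (T : Subgroup G).subtype) T.2
    (fun g x hx => by
      rcases mem_span_single.1 hx with rfl | h
      · simp
      · rw [h, show (G.subtype.comp (T : Subgroup G).subtype g) v = v from g.1.2.2]
        exact Submodule.mem_span_singleton_self v)
    (fun _ _ _ => Submodule.mem_top) hlt
  rw [mem_span_single, not_or] at hu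
  refine ⟨u, hu.1, hu.2, fun f f' hf hf' hfu => ?_⟩
  letI : MulAction G (Dual (ZMod 2) V) := MulAction.compHom _ (dualRep G.subtype)
  haveI : Finite (Dual (ZMod 2) V) := Module.finite_of_finite (ZMod 2)
  have hne : ∀ φ : Dual (ZMod 2) V, φ v = 1 → φ ≠ 0 := fun φ h e => by simp [e] at h
  have horb : ∀ φ, φ ∈ orbit G f ↔ φ v = 1 := by
    refine fun φ => ⟨?_, fun h => ?_⟩
    · rintro ⟨g, rfl⟩
      show f ((g⁻¹ : G).1 v) = 1
      rw [(g⁻¹).2.2, hf]
    · obtain ⟨g, hg, hgv, hgx⟩ := hX.stab_dual hv (hne f hf) (hne φ h) (hf.trans h.symm)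
      exact ⟨⟨g, hg, hgv⟩, (dualRep_eq_iff _).2 hgx⟩
  have hcard : Nat.card (orbit G f) = 2 ^ (finrank (ZMod 2) V - 1) := by
    rw [← card_dual_class hv]
    exact Nat.card_congr (Equiv.subtypeEquivRight horb)
  obtain ⟨t, ht, htf⟩ := sylow_orbit T f hcard ((horb f').2 hf')
  have hx : ∀ x, f' (t.1 x) = f x := (dualRep_eq_iff G.subtype).1 htf
  rcases mem_span_single.1 (hfix ⟨t, ht⟩) with h | h
  · exact ⟨t.1, t.2.1, t.2.2, sub_eq_zero.1 h, hx⟩
  · exfalso
    have h' : t.1 u = u + v := by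
      rw [add_comm]; exact eq_add_of_sub_eq h
    have := hx u
    rw [h', map_add, ← hfu, hf'] at this
    simp at this

/-- The two-point stabiliser is transitive on each non-zero class of functionals on the pair. -/
theorem class_trans (hX : TwoTrans X) {v u : V} (hv : v ≠ 0) (hu : u ≠ 0) (hvu : v ≠ u)
    {f f' : Dual (ZMod 2) V} (h1 : f v = f' v) (h2 : f u = f' u) (hne : f v ≠ 0 ∨ f u ≠ 0) :
    ∃ g ∈ X, g v = v ∧ g u = u ∧ ∀ x, f' (g x) = f x := by
  suffices key : ∀ v u : V, v ≠ 0 → u ≠ 0 → v ≠ u → f v = f' v → f u = f' u → f v ≠ 0 →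
      ∃ g ∈ X, g v = v ∧ g u = u ∧ ∀ x, f' (g x) = f x by
    rcases hne with h | h
    · exact key v u hv hu hvu h1 h2 h
    · obtain ⟨g, hg, a, b, c⟩ := key u v hu hv hvu.symm h2 h1 h
      exact ⟨g, hg, b, a, c⟩
  intro v u hv hu hvu h1 h2 h
  obtain ⟨u₀, hu₀, huv₀, H⟩ := hX.class_aux hv
  obtain ⟨k, hk, hkv, hku⟩ := hX.trans v u₀ v u hv hu₀ huv₀.symm hv hu hvu
  obtain ⟨g, hg, hgv, hgu, hgx⟩ := H (f.comp k.toLinearMap) (f'.comp k.toLinearMap)
    (by show f (k v) = 1; rw [hkv]; exact zmod2_ne h)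
    (by show f' (k v) = 1; rw [hkv, ← h1]; exact zmod2_ne h)
    (by show f (k u₀) = f' (k u₀); rw [hku]; exact h2)
  have hkv' : k.symm v = v := by rw [LinearEquiv.symm_apply_eq, hkv]
  have hku' : k.symm u = u₀ := by rw [LinearEquiv.symm_apply_eq, hku]
  refine ⟨k * g * k⁻¹, X.mul_mem (X.mul_mem hk hg) (X.inv_mem hk), ?_, ?_, fun x => ?_⟩
  · show k (g (k.symm v)) = v
    rw [hkv', hgv, hkv]
  · show k (g (k.symm u)) = u
    rw [hku', hgu, hku]
  · show f' (k (g (k.symm x))) = f x
    refine (hgx (k.symm x)).trans ?_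
    show f (k (k.symm x)) = f x
    rw [k.apply_symm_apply]

/-- Orbits of a two-point stabiliser off the line are invariant under the translations of the line. -/
theorem elation (hX : TwoTrans X) {a b c : V} (ha : a ≠ 0) (hb : b ≠ 0) (hab : a ≠ b)
    (hc : c ∉ Submodule.span (ZMod 2) {a, b}) :
    ∃ g ∈ X, g a = a ∧ g b = b ∧ g c = c + a := by
  classical
  let G := pStab (pStab X a) b
  have h := coset_invariant G.subtype {y | ∃ g ∈ G, g c = y}
    (fun g x ⟨k, hk, hkx⟩ => ⟨g.1 * k, G.mul_mem g.2 hk, by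
      show g.1 (k c) = g.1 x
      rw [hkx]⟩)
    (Submodule.span (ZMod 2) {a, b}) ?_ hc (q := a) (Submodule.subset_span (by simp))
  · obtain ⟨g, hg, hgc⟩ := h.2 ⟨1, G.one_mem, rfl⟩
    exact ⟨g, hg.1.1, hg.1.2, hg.2, hgc⟩
  · intro f f' heq hne
    have h1 : f a = f' a := heq a (Submodule.subset_span (by simp))
    have h2 : f b = f' b := heq b (Submodule.subset_span (by simp))
    have hne' : f a ≠ 0 ∨ f b ≠ 0 := by
      by_contra hcon
      push Not at hcon
      obtain ⟨p, hp, hfp⟩ := hne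
      rcases mem_span_two.1 hp with rfl | rfl | rfl | rfl <;> simp [hcon.1, hcon.2] at hfp
    obtain ⟨g, hg, hga, hgb, hgx⟩ := hX.class_trans ha hb hab h1 h2 hne'
    exact ⟨⟨g, ⟨hg, hga⟩, hgb⟩, hgx⟩

/-- Every independent triple admits the transposition of its first two members. -/
theorem swap (hX : TwoTrans X) {v u x : V} (hv : v ≠ 0) (hu : u ≠ 0) (hvu : v ≠ u)
    (hx : x ∉ Submodule.span (ZMod 2) {v, u}) :
    ∃ g ∈ X, g v = u ∧ g u = v ∧ g x = x := by
  rw [mem_span_two] at hx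
  push Not at hx
  obtain ⟨hx0, hxv, hxu, hxs⟩ := hx
  have hs0 : u + v ≠ 0 := fun e => hvu (add_eq_zero_iff'.1 e).symm
  obtain ⟨g1, hg1, a1, b1, c1⟩ := hX.elation hv hx0 (Ne.symm hxv) (c := u) (by
    rw [mem_span_two]
    rintro (h | h | h | h)
    · exact hu h
    · exact hvu h.symm
    · exact hxu h.symm
    · exact hxs (by rw [h, ← add_assoc, add_self, zero_add]))
  obtain ⟨g2, hg2, a2, b2, c2⟩ := hX.elation hs0 hx0
    (fun e => hxs (by rw [← e, add_comm])) (c := v) (by
    rw [mem_span_two]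
    rintro (h | h | h | h)
    · exact hv h
    · exact hu (add_eq_right.1 h.symm)
    · exact hxv h.symm
    · refine hxu ?_
      have h2 : u + x = 0 := by
        have h3 : v + v = u + v + x + v := congrArg (· + v) h
        rw [add_self] at h3
        rw [h3]; abel_nf; simp [two_zsmul, add_self]
      exact (add_eq_zero_iff'.1 h2).symm)
  obtain ⟨g3, hg3, a3, b3, c3⟩ := hX.elation hu hx0 (Ne.symm hxu) (c := u + v) (by
    rw [mem_span_two]
    rintro (h | h | h | h)
    · exact hs0 h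
    · exact hv (add_eq_left.1 h)
    · exact hxs (by rw [← h, add_comm])
    · exact hxv (add_left_cancel h).symm)
  refine ⟨g3 * g2 * g1, X.mul_mem (X.mul_mem hg3 hg2) hg1, ?_, ?_, ?_⟩
  · show g3 (g2 (g1 v)) = u
    rw [a1, c2, show v + (u + v) = u by rw [add_left_comm, add_self, add_zero], a3]
  · show g3 (g2 (g1 u)) = v
    rw [c1, a2, c3, add_comm u v, add_assoc, add_self, add_zero]
  · show g3 (g2 (g1 x)) = x
    rw [b1, b2, b3]

theorem ne_pair {v u x : V} (hx : x ∉ Submodule.span (ZMod 2) {v, u}) : x ≠ 0 ∧ x ≠ v ∧ x ≠ u := by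
  rw [mem_span_two] at hx
  push Not at hx
  exact ⟨hx.1, hx.2.1, hx.2.2.1⟩

/-- No subspace of small codimension through a pair is invariant under the pair stabiliser. -/
theorem kill (hX : TwoTrans X) (J : Subgroup (V ≃ₗ[ZMod 2] V)) (hJX : J ≤ X)
    (hJc : ∀ i ∈ J, ∀ j ∈ J, i * j = j * i) (hJt : ∀ a b : V, a ≠ 0 → b ≠ 0 → ∃ j ∈ J, j a = b)
    {v u : V} (hv : v ≠ 0) (hu : u ≠ 0) (hvu : v ≠ u) (H : Submodule (ZMod 2) V) (hvH : v ∈ H)
    (huH : u ∈ H) (hinv : ∀ g ∈ X, g v = v → g u = u → ∀ x ∈ H, g x ∈ H) {C : ℕ}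
    (hC : finrank (ZMod 2) V ≤ finrank (ZMod 2) H + C) (h3 : C + C + C < finrank (ZMod 2) V) :
    H = ⊤ := by
  classical
  letI := Fintype.ofFinite V
  let T : V → V → V → Prop := fun a b c => ∀ g ∈ X, g a = v → g b = u → g c ∈ H
  have hlin : ∀ (g : V ≃ₗ[ZMod 2] V) {a b c : V}, g a = v → g b = u →
      c ∈ Submodule.span (ZMod 2) {a, b} → g c ∈ H := by
    intro g a b c ha hb hc
    rcases mem_span_two.1 hc with rfl | rfl | rfl | rfl
    · simp
    · rwa [ha]
    · rwa [hb]
    · rw [map_add, ha, hb]; exact add_mem hvH huH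
  have h12 : ∀ a b c, T a b c → T b a c := by
    intro a b c h g hg hgb hga
    by_cases hc : c ∈ Submodule.span (ZMod 2) {b, a}
    · exact hlin g hgb hga hc
    · obtain ⟨s, hs, s1, s2, s3⟩ := hX.swap (v := b) (u := a)
        (fun e => hv (by rw [← hgb, e, map_zero])) (fun e => hu (by rw [← hga, e, map_zero]))
        (fun e => hvu (by rw [← hgb, e, hga])) hc
      have := h (g * s) (X.mul_mem hg hs) (by show g (s a) = v; rw [s2, hgb])
        (by show g (s b) = u; rw [s1, hga])
      rwa [show (g * s) c = g c by show g (s c) = g c; rw [s3]] at this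
  have h23 : ∀ a b c, T a b c → T a c b := by
    intro a b c h g hg hga hgc
    by_cases hb : b ∈ Submodule.span (ZMod 2) {a, c}
    · exact hlin g hga hgc hb
    · have hc0 : c ≠ 0 := fun e => hu (by rw [← hgc, e, map_zero])
      have hac : a ≠ c := fun e => hvu (by rw [← hga, e, hgc])
      obtain ⟨hb0, hba, hbc⟩ := ne_pair hb
      obtain ⟨s, hs, s1, s2, s3⟩ := hX.swap (v := b) (u := c) (x := a) hb0 hc0 hbc (by
        intro h'
        rcases mem_span_two.1 h' with e | e | e | e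
        · exact hv (by rw [← hga, e, map_zero])
        · exact hba e.symm
        · exact hac e
        · exact hb (mem_span_two.2 (Or.inr (Or.inr (Or.inr (by
            rw [e, add_assoc, add_self, add_zero]))))))
      have := h (g * s) (X.mul_mem hg hs) (by show g (s a) = v; rw [s3, hga])
        (by show g (s b) = u; rw [s1, hgc])
      rwa [show (g * s) c = g b by show g (s c) = g b; rw [s2]] at this
  let F : V → V → V → ZMod 2 := fun a b c => if T a b c then 1 else 0
  have hF3 : ∀ a b, (fun c => F a b c) ∈ affProd V C := by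
    intro a b
    by_cases hg : ∃ g ∈ X, g a = v ∧ g b = u
    · obtain ⟨g, hgX, hga, hgb⟩ := hg
      have hiff : ∀ c, T a b c ↔ c ∈ H.comap (g : V →ₗ[ZMod 2] V) := by
        refine fun c => ⟨fun h => h g hgX hga hgb, fun hc k hk hka hkb => ?_⟩
        have := hinv (k * g⁻¹) (X.mul_mem hk (X.inv_mem hgX))
          (by show k (g.symm v) = v; rw [← hga, g.symm_apply_apply, hka, hga])
          (by show k (g.symm u) = u; rw [← hgb, g.symm_apply_apply, hkb, hgb]) _ hc
        rwa [show (k * g⁻¹) ((g : V →ₗ[ZMod 2] V) c) = k c by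
          show k (g.symm (g c)) = k c
          rw [g.symm_apply_apply]] at this
      have hdim : finrank (ZMod 2) (H.comap (g : V →ₗ[ZMod 2] V)) = finrank (ZMod 2) H := by
        rw [Submodule.comap_equiv_eq_map_symm]
        exact LinearEquiv.finrank_map_eq g.symm H
      simp only [F, hiff]
      exact indicator_mem _ (hdim ▸ hC)
    · have : (fun c => F a b c) = fun c => if c ∈ (⊤ : Submodule (ZMod 2) V) then (1 : ZMod 2) else 0 := by
        funext c
        simp only [F, Submodule.mem_top, if_true]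
        exact if_pos fun g h1 h2 h3 => absurd ⟨g, h1, h2, h3⟩ hg
      rw [this]
      exact indicator_mem _ (by simp)
  have hF2 : ∀ a c, (fun b => F a b c) ∈ affProd V C := fun a c => by
    have : (fun b => F a b c) = fun b => F a c b :=
      funext fun b => if_congr ⟨h23 a b c, h23 a c b⟩ rfl rfl
    rw [this]; exact hF3 a c
  have hF1 : ∀ b c, (fun a => F a b c) ∈ affProd V C := fun b c => by
    have : (fun a => F a b c) = fun a => F b c a :=
      funext fun a => if_congr ⟨fun h => h23 _ _ _ (h12 _ _ _ h), fun h => h12 _ _ _ (h23 _ _ _ h)⟩ rfl rfl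
    rw [this]; exact hF3 b c
  refine eq_top_iff.2 fun w _ => ?_
  have hlift : ∀ b : V, ∃ L : V →ₗ[ZMod 2] V, ∀ j ∈ J, L (j v) = j b := by
    intro b
    by_cases hb : b = 0
    · exact ⟨0, fun j _ => by simp [hb]⟩
    · obtain ⟨k, hk, hkv⟩ := hJt v b hv hb
      refine ⟨(k : V →ₗ[ZMod 2] V), fun j hj => ?_⟩
      show (k * j) v = j b
      rw [hJc k hk j hj, ← hkv]
      rfl
  obtain ⟨Lu, hLu⟩ := hlift u
  obtain ⟨Lw, hLw⟩ := hlift w
  have hsum := sum_affProd h3 (tri_mem F hF1 hF2 hF3 LinearMap.id Lu Lw)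
  have hconst : ∀ x : V, x ≠ 0 → F x (Lu x) (Lw x) = F v u w := by
    intro x hx
    obtain ⟨j, hj, rfl⟩ := hJt v x hv hx
    rw [hLu j hj, hLw j hj]
    refine if_congr ⟨fun h g hg a b => ?_, fun h g hg a b => ?_⟩ rfl rfl
    · have := h (g * j⁻¹) (X.mul_mem hg (X.inv_mem (hJX hj)))
        (by show g (j.symm (j v)) = v; rw [j.symm_apply_apply, a])
        (by show g (j.symm (j u)) = u; rw [j.symm_apply_apply, b])
      rwa [show (g * j⁻¹) (j w) = g w by show g (j.symm (j w)) = g w; rw [j.symm_apply_apply]] at this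
    · exact h (g * j) (X.mul_mem hg (hJX hj)) a b
  rw [← Finset.add_sum_erase _ _ (Finset.mem_univ (0 : V)),
    Finset.sum_congr rfl (fun x hx => show F ((LinearMap.id : V →ₗ[ZMod 2] V) x) (Lu x) (Lw x) = F v u w from
      hconst x (Finset.ne_of_mem_erase hx)), Finset.sum_const,
    Finset.card_erase_of_mem (Finset.mem_univ _), Finset.card_univ, ← Nat.card_eq_fintype_card,
    card_eq_two_pow] at hsum
  have h000 : F ((LinearMap.id : V →ₗ[ZMod 2] V) 0) (Lu 0) (Lw 0) = 1 := if_pos fun g _ h _ => absurd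
    (by rw [← h]; simp) hv
  rw [h000, nsmul_eq_mul, Nat.cast_sub Nat.one_le_two_pow, Nat.cast_pow,
    show ((2 : ℕ) : ZMod 2) = 0 from rfl, zero_pow (by omega), Nat.cast_one] at hsum
  by_contra hw
  have hF0 : F v u w = 0 := if_neg fun h => hw (by simpa using h 1 X.one_mem rfl rfl)
  rw [hF0] at hsum
  simp at hsum

/-- A transvection generates the whole group. -/
theorem eq_top_of_tv (hX : TwoTrans X) {t : V ≃ₗ[ZMod 2] V} (ht : t ∈ X) {a : V}
    {φ : Dual (ZMod 2) V} (htv : TransvGroup.IsTv t a φ) (ht1 : t ≠ 1) : X = ⊤ := by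
  have ha : a ≠ 0 := fun e => ht1 (LinearEquiv.ext fun x => by rw [htv, e]; simp)
  have hφ : φ ≠ 0 := fun e => ht1 (LinearEquiv.ext fun x => by rw [htv, e]; simp)
  have hφa : φ a = 0 := by
    by_contra h
    have := htv a
    rw [zmod2_ne h, one_smul, add_self] at this
    exact ha (t.map_eq_zero_iff.1 this)
  refine eq_top_iff.2 fun g _ => TransvGroup.sl_mem X (fun b ψ hψ => ?_) ?_
  · by_cases hb : b = 0
    · exact ⟨1, X.one_mem, fun x => by simp [hb]⟩
    by_cases hψ0 : ψ = 0
    · exact ⟨1, X.one_mem, fun x => by simp [hψ0]⟩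
    obtain ⟨h1, hh1, h1a⟩ := hX.trans_one ha hb
    have h1b : h1.symm b = a := by rw [LinearEquiv.symm_apply_eq, h1a]
    obtain ⟨h2, hh2, h2b, h2x⟩ := hX.stab_dual hb (f := φ.comp h1.symm.toLinearMap) (f' := ψ)
      (fun e => hφ (LinearMap.ext fun x => by simpa using LinearMap.congr_fun e (h1 x))) hψ0
      (by show φ (h1.symm b) = ψ b; rw [h1b, hφa, hψ])
    refine ⟨(h2 * h1) * t * (h2 * h1)⁻¹,
      X.mul_mem (X.mul_mem (X.mul_mem hh2 hh1) ht) (X.inv_mem (X.mul_mem hh2 hh1)), fun x => ?_⟩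
    show h2 (h1 (t (h1.symm (h2.symm x)))) = _
    rw [htv, map_add, map_add, map_smul, map_smul, h1a, h2b, h1.apply_symm_apply, h2.apply_symm_apply]
    congr 2
    have := h2x (h2.symm x)
    rw [h2.apply_symm_apply] at this
    exact this.symm
  · exact zmod2_ne g.isUnit_det'.ne_zero

end TwoTrans

theorem exists_tv {g : V ≃ₗ[ZMod 2] V} {a : V} (ha : a ≠ 0) (h : ∀ x, g x - x = 0 ∨ g x - x = a) :
    ∃ φ, TransvGroup.IsTv g a φ := by
  obtain ⟨ψ, hψ, -⟩ := exists_dual_eq_one (x := a) (U := ⊥) (by simpa using ha)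
  refine ⟨ψ.comp ((g : V →ₗ[ZMod 2] V) - LinearMap.id), fun x => ?_⟩
  show g x = x + ψ (g x - x) • a
  rcases h x with e | e
  · rw [e, map_zero, zero_smul, add_zero]; exact sub_eq_zero.1 e
  · rw [e, hψ, one_smul]; exact eq_add_of_sub_eq' e

end Cfsg.Agent.SingerTransitive
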